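import Cfsg.Agent.EqLemmas

/-!
# The arithmetic of two-transitive groups with two-point stabiliser A₄ or A₅ (owner: helper58)

`ι` is the number of involutions of the two-point stabiliser and `d` the number of involutions with at
least two fixed points interchanging two given points.
-/

set_option autoImplicit false

namespace Cfsg.Agent.TwoPointA5

/-- The possible values of `(ι, d)`. -/
def AdmPair (ι d : ℕ) : Prop :=
  (ι = 3 ∧ (d = 1 ∨ d = 3 ∨ d = 4 ∨ d = 6)) ∨ (ι = 15 ∧ (d = 1 ∨ d = 10 ∨ d = 15 ∨ d = 16))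

theorem AdmPair.ι_add_le {ι d : ℕ} (h : AdmPair ι d) : ι + d ≤ 31 := by
  rcases h with ⟨rfl, h⟩ | ⟨rfl, h⟩ <;> omega

theorem AdmPair.one_le {ι d : ℕ} (h : AdmPair ι d) : 1 ≤ d ∧ d ≤ 16 := by
  rcases h with ⟨rfl, h⟩ | ⟨rfl, h⟩ <;> omega

/-- The class formula when the Klein group fixes all the fixed points of its involutions. -/
theorem even_caseA {ι d f a δ : ℕ} {ε : ℤ} (h : AdmPair ι d) (hf : 2 ≤ f) (hfe : Even f)
    (hu : a * δ = 1) (hε : ε = 1 ∨ ε = -1)
    (hw : (ι + d * f : ℤ) = δ ^ 2 * ((4 * a + ε) * (2 * a + ε))) :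
    ι = 3 ∧ ε = 1 ∧ a = 1 ∧ δ = 1 ∧ ((d = 6 ∧ f = 2) ∨ (d = 3 ∧ f = 4) ∨ (d = 1 ∧ f = 12)) := by
  obtain ⟨rfl, rfl⟩ := mul_eq_one.1 hu
  obtain ⟨k, rfl⟩ := hfe
  rcases hε with rfl | rfl <;> norm_num at hw <;>
    rcases h with ⟨rfl, rfl | rfl | rfl | rfl⟩ | ⟨rfl, rfl | rfl | rfl | rfl⟩ <;> norm_num at hw ⊢ <;> omega

/-- The finite search behind `even_caseB`. -/
def searchOk (ι d : ℕ) : Bool :=
  (List.range 12).all fun l =>
    let s : ℕ := 2 ^ l
    (List.range 32).all fun δ => [(1 : ℤ), -1].all fun ε => [(s + 1, s * s), (2 * s + 1, 2 * s * s - s)].all fun p =>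
      decide (l = 0) || decide (δ % 2 = 0) || !decide ((p.1 : ℕ) % δ = 0) ||
        !decide ((ι + d * p.2 : ℤ) = (4 * (p.1 : ℕ) + ε * δ) * (2 * (p.1 : ℕ) + ε * δ)) ||
        decide (ι = 15 ∧ p.1 = δ ∧ ε = -1) ||
        decide (s = 2 ∧ p.2 = 4 ∧ ((ι = 3 ∧ d = 6 ∧ δ = 3 ∧ ε = -1) ∨ (ι = 15 ∧ d = 10 ∧ δ = 1 ∧ ε = -1)))

theorem searchOk_adm : ([(3, 1), (3, 3), (3, 4), (3, 6), (15, 1), (15, 10), (15, 15), (15, 16)] : List (ℕ × ℕ)).all
    (fun p => searchOk p.1 p.2) = true := by decide +kernel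

theorem quad_bound {A B C u : ℤ} (hu : 1 ≤ u) (hA : A ≠ 0) (h : A * u ^ 2 + B * u + C = 0) :
    u ≤ |B| + |C| := by
  by_contra hc
  have h1 : |A * u ^ 2| ≤ |B| * u + |C| := by
    rw [show A * u ^ 2 = -(B * u + C) by linarith, abs_neg]
    refine (abs_add_le _ _).trans ?_
    rw [abs_mul, abs_of_nonneg (by omega : 0 ≤ u)]
  have h2 : u ^ 2 ≤ |A * u ^ 2| := by
    rw [abs_mul, abs_of_nonneg (sq_nonneg u)]
    exact le_mul_of_one_le_left (sq_nonneg u) (Int.one_le_abs hA)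
  nlinarith [abs_nonneg B, abs_nonneg C]

theorem lin_bound {B C u : ℤ} (hu : 0 ≤ u) (hB : B ≠ 0) (h : B * u + C = 0) : u ≤ |C| := by
  rw [show C = -(B * u) by linarith, abs_neg, abs_mul, abs_of_nonneg hu]
  exact le_mul_of_one_le_left hu (Int.one_le_abs hB)

/-- The class formula when the Klein group fixes fewer points than its involutions. -/
theorem even_caseB {ι d f a δ s l : ℕ} {ε : ℤ} (h : AdmPair ι d) (ha : Odd a) (hδ : Odd δ)
    (hε : ε = 1 ∨ ε = -1) (hl : 1 ≤ l) (hs : s = 2 ^ l)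
    (hform : (a * δ = s + 1 ∧ f = s * s) ∨ (a * δ = 2 * s + 1 ∧ f + s = 2 * s * s))
    (hA4 : ι = 15 → ¬ (a = 1 ∧ ε = -1))
    (hw : (ι + d * f : ℤ) = δ ^ 2 * ((4 * a + ε) * (2 * a + ε))) :
    s = 2 ∧ f = 4 ∧ ε = -1 ∧ ((ι = 3 ∧ d = 6 ∧ δ = 3 ∧ a = 1) ∨ (ι = 15 ∧ d = 10 ∧ δ = 1 ∧ a = 3)) := by
  set u : ℕ := a * δ with hu
  have hεsq : ε ^ 2 = 1 := by rcases hε with rfl | rfl <;> norm_num
  have hw' : (ι + d * f : ℤ) = (4 * (u : ℤ) + ε * δ) * (2 * (u : ℤ) + ε * δ) := by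
    rw [hw, hu]; push_cast; ring
  have hu1 : (1 : ℤ) ≤ u := by
    exact_mod_cast (by rcases hform with ⟨e, -⟩ | ⟨e, -⟩ <;> omega : 1 ≤ u)
  have hle := h.ι_add_le
  have hd := h.one_le
  -- `δ` divides `ι + d`
  have hdvd : δ ∣ ι + d := by
    have key : (δ : ℤ) ∣ 2 * (ι + d) := by
      rcases hform with ⟨e, ef⟩ | ⟨e, ef⟩
      · refine ⟨2 * (δ * (ε + 4 * a) * (ε + 2 * a)) - 2 * (d * (a * (a * δ)) - 2 * d * a), ?_⟩
        have es : (s : ℤ) = a * δ - 1 := by
          have : ((a * δ : ℕ) : ℤ) = (s + 1 : ℕ) := by exact_mod_cast e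
          push_cast at this; linarith
        have ef' : (f : ℤ) = s * s := by rw [ef]; push_cast; rfl
        rw [ef', es] at hw
        linear_combination 2 * hw
      · refine ⟨2 * (δ * (ε + 4 * a) * (ε + 2 * a)) - (d * (a * (a * δ)) - 3 * d * a), ?_⟩
        have es : 2 * (s : ℤ) = a * δ - 1 := by
          have : ((a * δ : ℕ) : ℤ) = (2 * s + 1 : ℕ) := by exact_mod_cast e
          push_cast at this; linarith
        have ef' : (f : ℤ) + s = 2 * s * s := by exact_mod_cast ef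
        linear_combination 2 * hw - 2 * (d : ℤ) * ef' + (d : ℤ) * (1 - 2 * s - (a * δ - 1)) * es
    have k2 : δ ∣ 2 * (ι + d) := by exact_mod_cast key
    exact (Nat.Coprime.dvd_of_dvd_mul_left (Nat.coprime_two_right.2 hδ) k2)
  have hδle : δ ≤ 31 := (Nat.le_of_dvd (by omega) hdvd).trans hle
  have hδZ : |ε * (δ : ℤ)| ≤ 31 := by
    rcases hε with rfl | rfl <;> simp <;> exact_mod_cast hδle
  have hDD : (δ : ℤ) ^ 2 ≤ 961 := by
    have : (δ : ℤ) ≤ 31 := by exact_mod_cast hδle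
    nlinarith
  have hsu : s ≤ u := by rcases hform with ⟨e, -⟩ | ⟨e, -⟩ <;> omega
  -- a bound on `u`
  have hub : u ≤ 4000 := by
    suffices (u : ℤ) ≤ 4000 by exact_mod_cast this
    have hD := abs_le.1 hδZ
    have hdz : (1 : ℤ) ≤ d ∧ (d : ℤ) ≤ 16 := by constructor <;> exact_mod_cast (by omega)
    have hiz : (ι : ℤ) + d ≤ 31 := by exact_mod_cast hle
    rcases hform with ⟨e, ef⟩ | ⟨e, ef⟩
    · have es : (s : ℤ) = u - 1 := by rw [e]; push_cast; ring
      have ef' : (f : ℤ) = s * s := by rw [ef]; push_cast; rfl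
      rw [ef', es] at hw'
      have hA : (8 - (d : ℤ)) ≠ 0 := by
        rcases h with ⟨rfl, rfl | rfl | rfl | rfl⟩ | ⟨rfl, rfl | rfl | rfl | rfl⟩ <;> norm_num
      refine (quad_bound hu1 hA (B := 2 * d + 6 * (ε * δ)) (C := δ ^ 2 - ι - d) ?_).trans ?_
      · linear_combination -hw' - (δ : ℤ) ^ 2 * hεsq
      · have hb : |2 * (d : ℤ) + 6 * (ε * δ)| ≤ 218 := abs_le.2 ⟨by linarith, by linarith⟩
        have hc : |(δ : ℤ) ^ 2 - ι - d| ≤ 1000 :=
          abs_le.2 ⟨by linarith [sq_nonneg (δ : ℤ)], by linarith⟩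
        linarith
    · have es : 2 * (s : ℤ) = u - 1 := by rw [e]; push_cast; ring
      have ef' : 2 * (f : ℤ) = (u - 1) * (u - 2) := by
        have : (f : ℤ) + s = 2 * s * s := by exact_mod_cast ef
        linear_combination 2 * this + (2 * (s : ℤ) + u - 2) * es
      have hq : (16 - (d : ℤ)) * u ^ 2 + (3 * d + 12 * (ε * δ)) * u + (2 * δ ^ 2 - 2 * ι - 2 * d) = 0 := by
        linear_combination -2 * hw' + (d : ℤ) * ef' - 2 * (δ : ℤ) ^ 2 * hεsq
      have hb : |3 * (d : ℤ) + 12 * (ε * δ)| ≤ 500 := abs_le.2 ⟨by linarith, by linarith⟩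
      have hc : |2 * (δ : ℤ) ^ 2 - 2 * ι - 2 * d| ≤ 2000 :=
        abs_le.2 ⟨by linarith [sq_nonneg (δ : ℤ)], by linarith⟩
      by_cases hA : (16 - (d : ℤ)) = 0
      · rw [hA] at hq
        have hB : 3 * (d : ℤ) + 12 * (ε * δ) ≠ 0 := by
          obtain ⟨k, rfl⟩ := hδ
          have : (d : ℤ) = 16 := by linarith
          rw [this]
          rcases hε with rfl | rfl <;> push_cast <;> omega
        have := lin_bound (u := (u : ℤ)) (C := 2 * δ ^ 2 - 2 * ι - 2 * d) (by linarith) hB (by linarith)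
        linarith
      · have := quad_bound hu1 hA hq
        linarith
  have hl12 : l < 12 := by
    by_contra hc
    have := Nat.pow_le_pow_right (n := 2) (by norm_num) (Nat.le_of_not_lt hc)
    omega
  have hok : searchOk ι d = true := by
    have := searchOk_adm
    simp only [List.all_cons, List.all_nil, Bool.and_true, Bool.and_eq_true] at this
    obtain ⟨h1, h2, h3, h4, h5, h6, h7, h8⟩ := this
    rcases h with ⟨rfl, rfl | rfl | rfl | rfl⟩ | ⟨rfl, rfl | rfl | rfl | rfl⟩ <;> assumption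
  obtain ⟨p, hp, hpf, hpu⟩ : ∃ p : ℕ × ℕ, p ∈ [(s + 1, s * s), (2 * s + 1, 2 * s * s - s)] ∧ p.2 = f ∧ p.1 = u := by
    rcases hform with ⟨e, ef⟩ | ⟨e, ef⟩
    · exact ⟨(s + 1, s * s), by simp, ef.symm, e.symm⟩
    · exact ⟨(2 * s + 1, 2 * s * s - s), by simp, by simp only; omega, e.symm⟩
  simp only [searchOk, List.all_eq_true, List.mem_range, Bool.or_eq_true, Bool.not_eq_true',
    decide_eq_true_eq, decide_eq_false_iff_not] at hok
  have hεm : ε ∈ [(1 : ℤ), -1] := by rcases hε with rfl | rfl <;> simp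
  have := hok l hl12 δ (by omega) ε hεm p (by rw [← hs]; exact hp)
  have hδpos : 0 < δ := hδ.pos
  rw [← hs, hpu, hpf] at this
  rcases this with ((((h0 | h0) | h0) | h0) | h0) | h0
  · omega
  · exact absurd h0 (by obtain ⟨k, rfl⟩ := hδ; omega)
  · exact absurd (Nat.mul_mod_left a δ) h0
  · exact absurd hw' h0
  · obtain ⟨h15, hua, rfl⟩ := h0
    refine absurd ⟨?_, rfl⟩ (hA4 h15)
    exact Nat.eq_of_mul_eq_mul_right hδpos (by rw [one_mul]; exact hua)
  · obtain ⟨rfl', h4, h5⟩ := h0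
    rcases hform with ⟨e, -⟩ | ⟨e, he'⟩
    · rcases h5 with ⟨ei, ed, eδ, eε⟩ | ⟨ei, ed, eδ, eε⟩
      · subst eδ; exact ⟨rfl', h4, eε, Or.inl ⟨ei, ed, rfl, by omega⟩⟩
      · subst eδ; exact ⟨rfl', h4, eε, Or.inr ⟨ei, ed, rfl, by omega⟩⟩
    · subst rfl'; omega

/-- The class formula for a four group in the action on the fixed points of an involution. -/
theorem odd_klein {δ a e z : ℕ} {ε : ℤ} (ha : Odd a) (hδ : Odd δ) (he : Odd e) (hz : Odd z)
    (hε : ε = 1 ∨ ε = -1)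
    (hw : (δ : ℤ) ^ 2 * ((4 * a + ε) * (2 * a + ε)) = 3 + 4 * (a * e * δ * z)) :
    (δ = 1 ∧ a * e * δ * z = 3) ∨ (δ = 3 ∧ a * e * δ * z = 33) := by
  have hεsq : ε ^ 2 = 1 := by rcases hε with rfl | rfl <;> norm_num
  have h3 : δ ∣ 3 := by
    have : (δ : ℤ) ∣ 3 := ⟨δ * ((4 * a + ε) * (2 * a + ε)) - 4 * (a * e * z), by linear_combination -hw⟩
    exact_mod_cast this
  rcases (Nat.dvd_prime Nat.prime_three).1 h3 with rfl | rfl
  · left
    refine ⟨rfl, ?_⟩
    have hdiv : a ∣ 2 := by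
      have : (a : ℤ) ∣ 2 := ⟨8 * a + 6 * ε - 4 * (e * z), by push_cast at hw ⊢; linear_combination -hw + hεsq⟩
      exact_mod_cast this
    obtain rfl : a = 1 := by
      rcases (Nat.dvd_prime Nat.prime_two).1 hdiv with h | h
      · exact h
      · subst h; exact absurd ha (by decide)
    push_cast at hw
    rcases hε with rfl | rfl
    · have : ((e * z : ℕ) : ℤ) = 3 := by push_cast; linarith
      simpa using (by exact_mod_cast this : e * z = 3)
    · have : ((e * z : ℕ) : ℤ) = 0 := by push_cast; linarith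
      exact absurd (by exact_mod_cast this : e * z = 0) (Nat.mul_pos he.pos hz.pos).ne'
  · right
    refine ⟨rfl, ?_⟩
    have hdiv : a ∣ 2 := by
      have : (a : ℤ) ∣ 2 := ⟨4 * (e * z) - 24 * a - 18 * ε + 0, by push_cast at hw ⊢; linarith [hεsq]⟩
      exact_mod_cast this
    obtain rfl : a = 1 := by
      rcases (Nat.dvd_prime Nat.prime_two).1 hdiv with h | h
      · exact h
      · subst h; exact absurd ha (by decide)
    push_cast at hw
    rcases hε with rfl | rfl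
    · have : ((e * z : ℕ) : ℤ) = 11 := by push_cast; linarith
      have h' : e * z = 11 := by exact_mod_cast this
      rw [Nat.one_mul, Nat.mul_right_comm, h']
    · have : ((e * z : ℕ) : ℤ) = 2 := by push_cast; linarith
      exact absurd (show Odd (e * z) from he.mul hz) (by rw [show e * z = 2 by exact_mod_cast this]; decide)

end Cfsg.Agent.TwoPointA5
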