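import Cfsg.Agent.EqLemmas
import Cfsg.Agent.Lib.Perm.FrobeniusNormal

/-!
# Counting involutions in two-transitive groups (owner: helper58)

`X` is two-transitive on `Φ`, `a ≠ b` are two points, and all involutions of the two-point stabiliser are
conjugate in it to the involution `i` (this is `Conj`).
-/

set_option autoImplicit false
set_option linter.style.haveILetI false
set_option linter.unusedSectionVars false

namespace Cfsg.Agent.TwoPointA5

open MulAction Finset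

universe u v

/-- Two-transitivity, spelled out. -/
def T2 (X : Type u) (Φ : Type v) [Group X] [MulAction X Φ] : Prop :=
  ∀ p q p' q' : Φ, p ≠ q → p' ≠ q' → ∃ g : X, g • p = p' ∧ g • q = q'

variable {X : Type u} {Φ : Type v} [Group X] [MulAction X Φ]

/-- An involution with at least two fixed points. -/
def FixTwo (Φ : Type v) [MulAction X Φ] (u : X) : Prop :=
  orderOf u = 2 ∧ ∃ p q : Φ, p ≠ q ∧ u • p = p ∧ u • q = q

/-- The number of fixed points. -/
noncomputable def fixN (Φ : Type v) [MulAction X Φ] (u : X) : ℕ := Nat.card (fixedBy Φ u)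

/-- The number of fixed-two involutions interchanging `a` and `b`. -/
noncomputable def swapN (X : Type u) {Φ : Type v} [Group X] [MulAction X Φ] (a b : Φ) : ℕ :=
  {u : X | FixTwo Φ u ∧ u • a = b ∧ u • b = a}.ncard

theorem orderOf_conj_two {u : X} (h : orderOf u = 2) (g : X) : orderOf (g * u * g⁻¹) = 2 := by
  rw [← h]; exact orderOf_injective (MulAut.conj g).toMonoidHom (MulAut.conj g).injective u

theorem conj_smul_iff (g u : X) (p : Φ) : (g * u * g⁻¹) • p = p ↔ u • (g⁻¹ • p) = g⁻¹ • p := by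
  rw [mul_smul, mul_smul]
  exact ⟨fun h => by rw [← inv_smul_smul g (u • g⁻¹ • p), h], fun h => by rw [h, smul_inv_smul]⟩

theorem conj_smul (g u : X) (p : Φ) : (g * u * g⁻¹) • (g • p) = g • (u • p) := by
  rw [← mul_smul, inv_mul_cancel_right, mul_smul]

theorem fixN_conj (g u : X) : fixN Φ (g * u * g⁻¹) = fixN Φ u := by
  refine Nat.card_congr ((toPerm g⁻¹).subtypeEquiv fun p => ?_)
  simp only [toPerm_apply, mem_fixedBy]
  exact conj_smul_iff g u p

theorem fixTwo_conj {u : X} (h : FixTwo Φ u) (g : X) : FixTwo Φ (g * u * g⁻¹) := by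
  obtain ⟨h1, p, q, hpq, hp, hq⟩ := h
  exact ⟨orderOf_conj_two h1 g, g • p, g • q, fun e => hpq (smul_left_cancel g e),
    by rw [conj_smul, hp], by rw [conj_smul, hq]⟩

theorem inv_smul_self_iff (u : X) (p : Φ) : u⁻¹ • p = p ↔ u • p = p := by
  rw [inv_smul_eq_iff, eq_comm]

theorem sq_smul {u : X} (hu : orderOf u = 2) (p : Φ) : u • u • p = p := by
  rw [← mul_smul, ← pow_two, ← hu, pow_orderOf_eq_one, one_smul]

theorem swap_symm {u : X} (hu : orderOf u = 2) {p q : Φ} (h : u • p = q) : u • q = p := by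
  rw [← h, sq_smul hu]

/-- The pairwise translate of a set of elements described by two points has the same cardinality. -/
theorem ncard_pair_congr [Finite X] (P : X → Φ → Φ → Prop)
    (hP : ∀ (g u : X) (p q : Φ), P u p q → P (g * u * g⁻¹) (g • p) (g • q)) (g : X) (p q : Φ) :
    {u : X | P u (g • p) (g • q)}.ncard = {u : X | P u p q}.ncard := by
  rw [← Set.ncard_image_of_injective {u : X | P u p q} (MulAut.conj g).injective]
  congr 1
  ext u
  simp only [Set.mem_setOf_eq, Set.mem_image, MulAut.conj_apply]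
  constructor
  · intro h
    refine ⟨g⁻¹ * u * g, ?_, by group⟩
    have := hP g⁻¹ u _ _ h
    rwa [inv_smul_smul, inv_smul_smul, inv_inv] at this
  · rintro ⟨v, hv, rfl⟩
    exact hP g v p q hv

/-- The hypothesis on the two-point stabiliser. -/
structure Conj (a b : Φ) (i : X) : Prop where
  ne : a ≠ b
  t2 : T2 X Φ
  ord : orderOf i = 2
  fa : i • a = a
  fb : i • b = b
  conj : ∀ u : X, orderOf u = 2 → u • a = a → u • b = b →
    ∃ k : X, k • a = a ∧ k • b = b ∧ k * i * k⁻¹ = u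

namespace Conj

variable {a b : Φ} {i : X} (h : Conj a b i)
include h

theorem fixTwo : FixTwo Φ i := ⟨h.ord, a, b, h.ne, h.fa, h.fb⟩

/-- An involution fixing two given points is the image of `i` under an element moving `a, b` there. -/
theorem exists_conj {u : X} (hu : orderOf u = 2) {p q : Φ} (hpq : p ≠ q) (hp : u • p = p) (hq : u • q = q) :
    ∃ g : X, g • a = p ∧ g • b = q ∧ g * i * g⁻¹ = u := by
  obtain ⟨g, hga, hgb⟩ := h.t2 a b p q h.ne hpq
  obtain ⟨k, hka, hkb, hk⟩ := h.conj (g⁻¹ * u * g) (by simpa using orderOf_conj_two hu g⁻¹)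
    (by rw [mul_smul, mul_smul, hga, hp, ← hga, inv_smul_smul])
    (by rw [mul_smul, mul_smul, hgb, hq, ← hgb, inv_smul_smul])
  refine ⟨g * k, by rw [mul_smul, hka, hga], by rw [mul_smul, hkb, hgb], ?_⟩
  rw [show g * k * i * (g * k)⁻¹ = g * (k * i * k⁻¹) * g⁻¹ by group, hk]
  group

theorem conj_of_fixTwo {u : X} (hu : FixTwo Φ u) : ∃ g : X, g * i * g⁻¹ = u := by
  obtain ⟨h1, p, q, hpq, hp, hq⟩ := hu
  obtain ⟨g, -, -, hg⟩ := h.exists_conj h1 hpq hp hq
  exact ⟨g, hg⟩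

theorem fixN_eq {u : X} (hu : FixTwo Φ u) : fixN Φ u = fixN Φ i := by
  obtain ⟨g, rfl⟩ := h.conj_of_fixTwo hu
  exact fixN_conj g i

/-- Fixed-two involutions fixing `a` are conjugate in the stabiliser of `a`. -/
theorem conj_in_stab {u : X} (hu : FixTwo Φ u) (ha : u • a = a) : ∃ g : X, g • a = a ∧ g * i * g⁻¹ = u := by
  obtain ⟨h1, p, q, hpq, hp, hq⟩ := hu
  obtain ⟨w, hw, hwa⟩ : ∃ w, u • w = w ∧ a ≠ w := by
    by_cases hap : a = p
    · exact ⟨q, hq, fun e => hpq (hap ▸ e)⟩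
    · exact ⟨p, hp, hap⟩
  obtain ⟨g, hga, -, hg⟩ := h.exists_conj h1 hwa ha hw
  exact ⟨g, hga, hg⟩

/-- The centraliser of `i` is transitive on ordered pairs of its fixed points. -/
theorem cent_pairs {p q : Φ} (hpq : p ≠ q) (hp : i • p = p) (hq : i • q = q) :
    ∃ c : X, c * i = i * c ∧ c • a = p ∧ c • b = q := by
  obtain ⟨g, hga, hgb, hg⟩ := h.exists_conj h.ord hpq hp hq
  exact ⟨g, mul_inv_eq_iff_eq_mul.1 hg, hga, hgb⟩

omit h in
theorem cent_smul {c : X} (hc : c * i = i * c) {p : Φ} (hp : i • p = p) : i • (c • p) = c • p := by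
  rw [← mul_smul, ← hc, mul_smul, hp]

theorem cent_orbit : orbit ↥(Subgroup.centralizer ({i} : Set X)) (a, b) =
    {pq : Φ × Φ | pq.1 ≠ pq.2 ∧ i • pq.1 = pq.1 ∧ i • pq.2 = pq.2} := by
  ext ⟨p, q⟩
  constructor
  · rintro ⟨⟨c, hc⟩, e⟩
    obtain ⟨rfl, rfl⟩ := Prod.ext_iff.1 e
    have hc' : c * i = i * c := (Subgroup.mem_centralizer_singleton_iff.1 hc)
    exact ⟨fun e' => h.ne (smul_left_cancel c e'), cent_smul hc' h.fa, cent_smul hc' h.fb⟩
  · rintro ⟨hpq, hp, hq⟩
    obtain ⟨c, hc, ha, hb⟩ := h.cent_pairs hpq hp hq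
    exact ⟨⟨c, Subgroup.mem_centralizer_singleton_iff.2 hc⟩, Prod.ext ha hb⟩

variable [Finite X] [Finite Φ]

theorem two_le_fixN : 2 ≤ fixN Φ i := by
  haveI := Fintype.ofFinite (fixedBy Φ i)
  rw [fixN, Nat.card_eq_fintype_card]
  exact Fintype.one_lt_card_iff.2 ⟨⟨a, h.fa⟩, ⟨b, h.fb⟩, fun e => h.ne (congrArg Subtype.val e)⟩

omit h [Finite X] in
theorem card_fixed_pairs (u : X) : Nat.card {pq : Φ × Φ | pq.1 ≠ pq.2 ∧ u • pq.1 = pq.1 ∧ u • pq.2 = pq.2} =
    fixN Φ u * (fixN Φ u - 1) := by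
  classical
  haveI := Fintype.ofFinite Φ
  have e1 : fixN Φ u = (univ.filter fun p : Φ => u • p = p).card := by
    rw [fixN, Nat.card_eq_fintype_card, ← Fintype.card_subtype]; rfl
  rw [e1, Nat.mul_sub_one, ← offDiag_card, Nat.card_coe_set_eq, ← Set.ncard_coe_finset]
  congr 1
  ext ⟨p, q⟩
  simp only [Set.mem_setOf_eq, coe_offDiag, Set.mem_offDiag, coe_filter, mem_univ, true_and]
  tauto

omit [Finite Φ] in
/-- The order of the centraliser of `i`. -/
theorem card_cent [Finite Φ] : Nat.card ↥(Subgroup.centralizer ({i} : Set X)) =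
    Nat.card ↥(Subgroup.centralizer ({i} : Set X) ⊓ stabilizer X a ⊓ stabilizer X b) *
      (fixN Φ i * (fixN Φ i - 1)) := by
  rw [← (stabilizer ↥(Subgroup.centralizer ({i} : Set X)) (a, b)).card_mul_index, index_stabilizer,
    ← card_fixed_pairs (X := X) (Φ := Φ) i, ← h.cent_orbit, Nat.card_coe_set_eq]
  congr 1
  refine Nat.card_congr ?_
  refine ⟨fun c => ⟨c.1.1, ⟨c.1.2, ?_⟩, ?_⟩, fun c => ⟨⟨c.1, c.2.1.1⟩, ?_⟩, fun _ => rfl, fun _ => rfl⟩
  · exact (Prod.ext_iff.1 c.2).1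
  · exact (Prod.ext_iff.1 c.2).2
  · exact Prod.ext c.2.1.2 c.2.2

/-- The order of the centraliser of `i` in the stabiliser of `a`. -/
theorem card_cent_stab : Nat.card ↥(Subgroup.centralizer ({i} : Set X) ⊓ stabilizer X a) =
    Nat.card ↥(Subgroup.centralizer ({i} : Set X) ⊓ stabilizer X a ⊓ stabilizer X b) * (fixN Φ i - 1) := by
  classical
  set C := Subgroup.centralizer ({i} : Set X) ⊓ stabilizer X a
  haveI := Fintype.ofFinite Φ
  have horb : orbit ↥C b = {q : Φ | i • q = q ∧ q ≠ a} := by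
    ext q
    constructor
    · rintro ⟨⟨c, hc, hca⟩, rfl⟩
      refine ⟨cent_smul (Subgroup.mem_centralizer_singleton_iff.1 hc) h.fb, fun e => h.ne.symm ?_⟩
      exact smul_left_cancel c (e.trans hca.symm)
    · rintro ⟨hq, hqa⟩
      obtain ⟨c, hc, ha, hb⟩ := h.cent_pairs (Ne.symm hqa) h.fa hq
      exact ⟨⟨c, Subgroup.mem_centralizer_singleton_iff.2 hc, ha⟩, hb⟩
  have hcount : ({q : Φ | i • q = q ∧ q ≠ a}).ncard = fixN Φ i - 1 := by
    rw [fixN, Nat.card_coe_set_eq,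
      show {q : Φ | i • q = q ∧ q ≠ a} = fixedBy Φ i \ {a} from Set.ext fun _ => Iff.rfl,
      Set.ncard_diff_singleton_of_mem (show a ∈ fixedBy Φ i from h.fa)]
  rw [← (stabilizer ↥C b).card_mul_index, index_stabilizer, horb, hcount]
  congr 1
  exact Nat.card_congr ⟨fun c => ⟨c.1.1, c.1.2, c.2⟩, fun c => ⟨⟨c.1, c.2.1⟩, c.2.2⟩,
    fun _ => rfl, fun _ => rfl⟩

/-- The involutions of the two-point stabiliser form the class of `i`. -/
theorem card_pair_stab : Nat.card ↥(stabilizer X a ⊓ stabilizer X b) =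
    Nat.card ↥(Subgroup.centralizer ({i} : Set X) ⊓ stabilizer X a ⊓ stabilizer X b) *
      {u : X | orderOf u = 2 ∧ u • a = a ∧ u • b = b}.ncard := by
  letI : MulAction ↥(stabilizer X a ⊓ stabilizer X b) X :=
    MulAction.compHom X ((MulAut.conj : X →* MulAut X).comp (stabilizer X a ⊓ stabilizer X b).subtype)
  have horb : orbit ↥(stabilizer X a ⊓ stabilizer X b) i = {u : X | orderOf u = 2 ∧ u • a = a ∧ u • b = b} := by
    ext u
    constructor
    · rintro ⟨⟨k, hk1, hk2⟩, rfl⟩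
      refine ⟨orderOf_conj_two h.ord k, ?_, ?_⟩
      · change (k * i * k⁻¹) • a = a
        rw [conj_smul_iff, inv_smul_eq_iff.2 (mem_stabilizer_iff.1 hk1).symm, h.fa]
      · change (k * i * k⁻¹) • b = b
        rw [conj_smul_iff, inv_smul_eq_iff.2 (mem_stabilizer_iff.1 hk2).symm, h.fb]
    · rintro ⟨h1, h2, h3⟩
      obtain ⟨k, hka, hkb, rfl⟩ := h.conj u h1 h2 h3
      exact ⟨⟨k, hka, hkb⟩, rfl⟩
  rw [← (stabilizer ↥(stabilizer X a ⊓ stabilizer X b) i).card_mul_index, index_stabilizer, horb]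
  congr 1
  refine Nat.card_congr ⟨fun c => ⟨c.1.1, ⟨?_, c.1.2.1⟩, c.1.2.2⟩, fun c => ⟨⟨c.1, c.2.1.2, c.2.2⟩, ?_⟩,
    fun _ => rfl, fun _ => rfl⟩
  · exact Subgroup.mem_centralizer_singleton_iff.2 (mul_inv_eq_iff_eq_mul.1 c.2)
  · exact mul_inv_eq_iff_eq_mul.2 (Subgroup.mem_centralizer_singleton_iff.1 c.2.1.1)

/-- **The count**: `ι (n - f) = d f (f - 1)`. -/
theorem count : {u : X | orderOf u = 2 ∧ u • a = a ∧ u • b = b}.ncard * (Nat.card Φ - fixN Φ i) =
    swapN X a b * (fixN Φ i * (fixN Φ i - 1)) := by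
  classical
  haveI := Fintype.ofFinite Φ
  haveI := Fintype.ofFinite X
  set N := (univ.filter fun u : X => FixTwo Φ u) with hN
  have hNpos : 0 < N.card := card_pos.2 ⟨i, by simp [hN, h.fixTwo]⟩
  set P := (univ : Finset Φ).offDiag with hP
  have hPcard : P.card = Nat.card Φ * Nat.card Φ - Nat.card Φ := by
    rw [hP, offDiag_card, card_univ, Nat.card_eq_fintype_card]
  -- fixed pairs
  have key : ∀ (R : X → Φ → Φ → Prop) (C : ℕ),
      (∀ (g u : X) (p q : Φ), R u p q → R (g * u * g⁻¹) (g • p) (g • q)) →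
      (∀ u, FixTwo Φ u → Nat.card {pq : Φ × Φ | pq.1 ≠ pq.2 ∧ R u pq.1 pq.2} = C) →
      {u : X | FixTwo Φ u ∧ R u a b}.ncard * P.card = N.card * C := by
    intro R C hR hC
    have hsum := sum_card_bipartiteAbove_eq_sum_card_bipartiteBelow (s := N) (t := P)
      (r := fun u pq => R u pq.1 pq.2)
    rw [sum_congr rfl (g := fun _ => C) fun u hu => ?_, sum_const, smul_eq_mul,
      sum_congr rfl (g := fun _ => {u : X | FixTwo Φ u ∧ R u a b}.ncard) fun pq hpq => ?_, sum_const,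
      smul_eq_mul] at hsum
    · rw [hsum, mul_comm]
    · obtain ⟨g, hga, hgb⟩ := h.t2 a b pq.1 pq.2 h.ne (by simpa [hP] using hpq)
      rw [← ncard_pair_congr (fun u p q => FixTwo Φ u ∧ R u p q)
        (fun g u p q hu => ⟨fixTwo_conj hu.1 g, hR g u p q hu.2⟩) g a b, hga, hgb, ← Set.ncard_coe_finset]
      congr 1
      ext u
      simp [bipartiteBelow, hN]
    · rw [← hC u (by simpa [hN] using hu), Nat.card_coe_set_eq, ← Set.ncard_coe_finset]
      congr 1
      ext pq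
      simp [bipartiteAbove, hP]
  have h1 := key (fun u p q => u • p = p ∧ u • q = q) _
    (fun g u p q hu => ⟨by rw [conj_smul, hu.1], by rw [conj_smul, hu.2]⟩)
    (fun u hu => by rw [card_fixed_pairs, h.fixN_eq hu])
  have h2 := key (fun u p q => u • p = q ∧ u • q = p) (Nat.card Φ - fixN Φ i)
    (fun g u p q hu => ⟨by rw [conj_smul, hu.1], by rw [conj_smul, hu.2]⟩)
    (fun u hu => by
      have e : {pq : Φ × Φ | pq.1 ≠ pq.2 ∧ u • pq.1 = pq.2 ∧ u • pq.2 = pq.1} ≃
          ↥((fixedBy Φ u)ᶜ : Set Φ) :=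
        ⟨fun pq => ⟨pq.1.1, fun hm => pq.2.1 ((hm : u • pq.1.1 = pq.1.1).symm.trans pq.2.2.1)⟩,
          fun p => ⟨(p.1, u • p.1), fun hm => p.2 hm.symm, rfl, sq_smul hu.1 _⟩,
          fun pq => Subtype.ext (Prod.ext rfl pq.2.2.1), fun _ => rfl⟩
      rw [Nat.card_congr e, ← h.fixN_eq hu, fixN, Nat.card_coe_set_eq, Nat.card_coe_set_eq,
        Set.ncard_compl])
  have e1 : {u : X | FixTwo Φ u ∧ u • a = a ∧ u • b = b} = {u : X | orderOf u = 2 ∧ u • a = a ∧ u • b = b} :=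
    Set.ext fun u => ⟨fun hu => ⟨hu.1.1, hu.2⟩, fun hu => ⟨⟨hu.1, a, b, h.ne, hu.2.1, hu.2.2⟩, hu.2⟩⟩
  rw [e1] at h1
  refine Nat.eq_of_mul_eq_mul_left hNpos ?_
  rw [mul_left_comm, ← h2, mul_left_comm N.card, ← h1, swapN]
  ring

theorem fixN_le : fixN Φ i ≤ Nat.card Φ := by
  rw [fixN, Nat.card_coe_set_eq]; exact Set.ncard_le_card _

theorem index_stab_eq : (stabilizer X a).index = Nat.card Φ := by
  rw [index_stabilizer, show orbit X a = Set.univ from Set.eq_univ_of_forall fun q => ?_, Set.ncard_univ]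
  by_cases hq : a = q
  · exact hq ▸ mem_orbit_self a
  · obtain ⟨g, hg, -⟩ := h.t2 a b q a h.ne (Ne.symm hq)
    exact ⟨g, hg⟩

theorem card_stab_eq : Nat.card ↥(stabilizer X a) =
    Nat.card ↥(stabilizer X a ⊓ stabilizer X b) * (Nat.card Φ - 1) := by
  have horb : orbit ↥(stabilizer X a) b = ({a} : Set Φ)ᶜ := by
    ext q
    constructor
    · rintro ⟨⟨c, hca⟩, rfl⟩ e
      exact h.ne.symm (smul_left_cancel c ((e : c • b = a).trans (mem_stabilizer_iff.1 hca).symm))
    · intro hq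
      obtain ⟨g, hga, hgb⟩ := h.t2 a b a q h.ne (Ne.symm hq)
      exact ⟨⟨g, hga⟩, hgb⟩
  rw [← (stabilizer ↥(stabilizer X a) b).card_mul_index, index_stabilizer, horb, Set.ncard_compl,
    Set.ncard_singleton]
  congr 1
  exact Nat.card_congr ⟨fun c => ⟨c.1.1, c.1.2, c.2⟩, fun c => ⟨⟨c.1, c.2.1⟩, c.2.2⟩,
    fun _ => rfl, fun _ => rfl⟩

/-- **The class of `i` in the stabiliser of `a`** has `ι + d f` members. -/
theorem card_stab : Nat.card ↥(stabilizer X a) =
    Nat.card ↥(Subgroup.centralizer ({i} : Set X) ⊓ stabilizer X a) *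
      ({u : X | orderOf u = 2 ∧ u • a = a ∧ u • b = b}.ncard + swapN X a b * fixN Φ i) := by
  rw [h.card_stab_eq, h.card_pair_stab, h.card_cent_stab]
  have hc := h.count
  have h2 := h.two_le_fixN
  have hle := h.fixN_le
  obtain ⟨f', hf'⟩ : ∃ f', fixN Φ i = f' + 1 := ⟨fixN Φ i - 1, by omega⟩
  obtain ⟨m, hm⟩ : ∃ m, Nat.card Φ = f' + 1 + m := ⟨Nat.card Φ - (f' + 1), by omega⟩
  rw [hf', hm] at hc ⊢
  simp only [Nat.add_sub_cancel_left] at hc
  rw [show f' + 1 + m - 1 = f' + m by omega, Nat.add_sub_cancel] 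
  rw [Nat.add_sub_cancel] at hc
  linear_combination (Nat.card ↥(Subgroup.centralizer ({i} : Set X) ⊓ stabilizer X a ⊓ stabilizer X b)) * hc

end Conj

end Cfsg.Agent.TwoPointA5
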