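import Cfsg.Agent.EqLemmas
import Cfsg.Agent.S2119

/-!
# Subgroups isomorphic to A₄ or A₅ and their extensions by an involution (owner: helper58)
-/

set_option autoImplicit false
set_option linter.style.haveILetI false
set_option linter.unusedSectionVars false

namespace Cfsg.Agent.TwoPointA5

open Equiv Subgroup

universe u

/-- What is used about the two-point stabiliser `K`, with `ι` involutions. -/
structure KData {G : Type u} [Group G] (K : Subgroup G) (ι : ℕ) : Prop where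
  iota : ι = 3 ∨ ι = 15
  card : Nat.card K = 4 * ι
  ncard : {u : G | orderOf u = 2 ∧ u ∈ K}.ncard = ι
  conj : ∀ u v : G, orderOf u = 2 → u ∈ K → orderOf v = 2 → v ∈ K → ∃ k ∈ K, k * u * k⁻¹ = v
  center : ∀ k ∈ K, (∀ m ∈ K, k * m = m * k) → k = 1
  cent : ∀ i ∈ K, orderOf i = 2 → Nat.card ↥(centralizer ({i} : Set G) ⊓ K) = 4 ∧
    (∀ v ∈ centralizer ({i} : Set G) ⊓ K, v * v = 1) ∧
    ∃ x ∈ K, orderOf x = 3 ∧ x * i * x⁻¹ ≠ i ∧
      ∀ v ∈ centralizer ({i} : Set G) ⊓ K, x * v * x⁻¹ ∈ centralizer ({i} : Set G) ⊓ K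
  notSolvable : ι = 15 → ¬ Group.IsSolvable K
  coset : ∀ t : G, orderOf t = 2 → t ∉ K → (∀ k ∈ K, t * k * t⁻¹ ∈ K) →
    (∃ z : G, orderOf z = 2 ∧ z ∉ K ∧ t * z ∈ K ∧ ∀ k ∈ K, z * k = k * z) ∨
    ({u : G | orderOf u = 2 ∧ t * u ∈ K}.ncard = (if ι = 3 then 6 else 10) ∧
      ∀ u v : G, orderOf u = 2 → t * u ∈ K → orderOf v = 2 → t * v ∈ K → ∃ k ∈ K, k * u * k⁻¹ = v)

/-- What is used about the alternating group of degree `n`. -/
structure AltFacts (n : ℕ) (ι o : ℕ) : Prop where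
  card : Nat.card ↥(alternatingGroup (Fin n)) = 4 * ι
  ncard : {u : ↥(alternatingGroup (Fin n)) | u ≠ 1 ∧ u * u = 1}.ncard = ι
  center : ∀ k : ↥(alternatingGroup (Fin n)), (∀ m, k * m = m * k) → k = 1
  conj : ∀ u v : ↥(alternatingGroup (Fin n)), u ≠ 1 → u * u = 1 → v ≠ 1 → v * v = 1 → ∃ k, k * u * k⁻¹ = v
  cent : ∀ u : ↥(alternatingGroup (Fin n)), u ≠ 1 → u * u = 1 →
    {v : ↥(alternatingGroup (Fin n)) | v * u = u * v}.ncard = 4 ∧ (∀ v, v * u = u * v → v * v = 1) ∧
    ∃ x : ↥(alternatingGroup (Fin n)), x ^ 3 = 1 ∧ x * u * x⁻¹ ≠ u ∧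
      ∀ v, v * u = u * v → (x * v * x⁻¹) * u = u * (x * v * x⁻¹)
  oddCard : {p : Perm (Fin n) | Perm.sign p = -1 ∧ p * p = 1}.ncard = o
  oddConj : ∀ p q : Perm (Fin n), Perm.sign p = -1 → p * p = 1 → Perm.sign q = -1 → q * q = 1 →
    ∃ k : ↥(alternatingGroup (Fin n)), k.1 * p * k.1⁻¹ = q

theorem oddConj_of {n : ℕ} (p₀ : Perm (Fin n))
    (h : ∀ p : Perm (Fin n), Perm.sign p = -1 → p * p = 1 →
      ∃ k : ↥(alternatingGroup (Fin n)), k.1 * p₀ * k.1⁻¹ = p) :
    ∀ p q : Perm (Fin n), Perm.sign p = -1 → p * p = 1 → Perm.sign q = -1 → q * q = 1 →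
      ∃ k : ↥(alternatingGroup (Fin n)), k.1 * p * k.1⁻¹ = q := by
  intro p q hp hp' hq hq'
  obtain ⟨k, hk⟩ := h p hp hp'
  obtain ⟨l, hl⟩ := h q hq hq'
  refine ⟨l * k⁻¹, ?_⟩
  rw [← hk, ← hl]
  simp only [Subgroup.coe_mul, Subgroup.coe_inv]
  group

theorem altFour : AltFacts 4 3 6 where
  card := by rw [Nat.card_eq_fintype_card]; decide +kernel
  ncard := by rw [Set.ncard_eq_toFinset_card', Set.toFinset_setOf]; decide +kernel
  center := by decide +kernel
  conj := by decide +kernel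
  cent := by
    intro u
    rw [Set.ncard_eq_toFinset_card', Set.toFinset_setOf]
    revert u
    decide +kernel
  oddCard := by rw [Set.ncard_eq_toFinset_card', Set.toFinset_setOf]; decide +kernel
  oddConj := oddConj_of (swap 0 1) (by decide +kernel)

theorem altFive : AltFacts 5 15 10 where
  card := by rw [Nat.card_eq_fintype_card]; decide +kernel
  ncard := by rw [Set.ncard_eq_toFinset_card', Set.toFinset_setOf]; decide +kernel
  center := by decide +kernel
  conj := by decide +kernel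
  cent := by
    intro u
    rw [Set.ncard_eq_toFinset_card', Set.toFinset_setOf]
    revert u
    decide +kernel
  oddCard := by rw [Set.ncard_eq_toFinset_card', Set.toFinset_setOf]; decide +kernel
  oddConj := oddConj_of (swap 0 1) (by decide +kernel)

theorem orderOf_two_iff {M : Type*} [Group M] {x : M} : orderOf x = 2 ↔ x ≠ 1 ∧ x * x = 1 := by
  haveI : Fact (Nat.Prime 2) := ⟨Nat.prime_two⟩
  refine ⟨fun h => ⟨fun e => by rw [e, orderOf_one] at h; norm_num at h,
    by rw [← pow_two, ← h, pow_orderOf_eq_one]⟩, fun h => orderOf_eq_prime (by rw [pow_two]; exact h.2) h.1⟩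

theorem kdata_of {G : Type u} [Group G] {K : Subgroup G} {n ι o : ℕ} (hι : ι = 3 ∨ ι = 15)
    (hn : 4 ≤ n) (hn6 : n ≠ 6) (ho : o = if ι = 3 then 6 else 10) (A : AltFacts n ι o)
    (hns : ι = 15 → ¬ Group.IsSolvable ↥(alternatingGroup (Fin n)))
    (e : K ≃* ↥(alternatingGroup (Fin n))) : KData K ι := by
  have hinv : ∀ (u : G) (hu : u ∈ K), orderOf u = 2 ↔ e ⟨u, hu⟩ ≠ 1 ∧ e ⟨u, hu⟩ * e ⟨u, hu⟩ = 1 := by
    intro u hu
    rw [← orderOf_two_iff, MulEquiv.orderOf_eq, Subgroup.orderOf_mk]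
  have hcomm : ∀ (u v : G) (hu : u ∈ K) (hv : v ∈ K),
      (v * u = u * v ↔ e ⟨v, hv⟩ * e ⟨u, hu⟩ = e ⟨u, hu⟩ * e ⟨v, hv⟩) := by
    intro u v hu hv
    rw [← map_mul, ← map_mul, e.injective.eq_iff, Subtype.ext_iff]
    rfl
  have hconj : ∀ (x : ↥(alternatingGroup (Fin n))) (u : G) (hu : u ∈ K),
      (e.symm (x * e ⟨u, hu⟩ * x⁻¹) : G) = (e.symm x : G) * u * (e.symm x : G)⁻¹ := by
    intro x u hu
    simp
  refine ⟨hι, ?_, ?_, ?_, ?_, ?_, ?_, ?_⟩
  · rw [Nat.card_congr e.toEquiv, A.card]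
  · rw [← A.ncard]
    refine Set.ncard_congr (fun u hu => e ⟨u, hu.2⟩) (fun u hu => (hinv u hu.2).1 hu.1)
      (fun u v hu hv h => congrArg Subtype.val (e.injective h)) (fun w hw => ?_)
    refine ⟨(e.symm w : G), ⟨?_, (e.symm w).2⟩, ?_⟩
    · rw [Subgroup.orderOf_coe, MulEquiv.orderOf_eq]; exact orderOf_two_iff.2 hw
    · simp
  · intro u v hu huK hv hvK
    obtain ⟨k, hk⟩ := A.conj _ _ ((hinv u huK).1 hu).1 ((hinv u huK).1 hu).2
      ((hinv v hvK).1 hv).1 ((hinv v hvK).1 hv).2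
    refine ⟨e.symm k, (e.symm k).2, ?_⟩
    rw [← hconj k u huK, hk, MulEquiv.symm_apply_apply]
  · intro k hk hcen
    have := A.center (e ⟨k, hk⟩) fun m => by
      have h := (hcomm (e.symm m : G) k (e.symm m).2 hk).1 (hcen _ (e.symm m).2)
      simpa using h
    exact congrArg Subtype.val ((MulEquiv.map_eq_one_iff e).1 this)
  · intro i hi hio
    obtain ⟨hc4, hexp, x, hx3, hxi, hxc⟩ := A.cent _ ((hinv i hi).1 hio).1 ((hinv i hi).1 hio).2
    refine ⟨?_, ?_, e.symm x, (e.symm x).2, ?_, ?_, ?_⟩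
    · rw [← hc4, ← Nat.card_coe_set_eq]
      refine Nat.card_congr ⟨fun v => ⟨e ⟨v.1, v.2.2⟩,
          (hcomm i v.1 hi v.2.2).1 (mem_centralizer_singleton_iff.1 v.2.1)⟩,
        fun w => ⟨e.symm w.1, mem_centralizer_singleton_iff.2 ((hcomm i _ hi (e.symm w.1).2).2 ?_),
          (e.symm w.1).2⟩, fun v => ?_, fun w => ?_⟩
      · rw [show (⟨(e.symm w.1 : G), (e.symm w.1).2⟩ : K) = e.symm w.1 from rfl, e.apply_symm_apply]
        exact w.2
      · exact Subtype.ext (by simp)
      · exact Subtype.ext (by simp)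
    · rintro v ⟨hv, hvK⟩
      have h := hexp _ ((hcomm i v hi hvK).1 (mem_centralizer_singleton_iff.1 hv))
      rw [← map_mul, MulEquiv.map_eq_one_iff] at h
      exact congrArg Subtype.val h
    · rw [Subgroup.orderOf_coe, MulEquiv.orderOf_eq]
      haveI : Fact (Nat.Prime 3) := ⟨Nat.prime_three⟩
      exact orderOf_eq_prime hx3 fun h => hxi (by rw [h]; simp)
    · rw [← hconj x i hi]
      intro h
      exact hxi (by simpa using congrArg e (Subtype.ext h : e.symm _ = (⟨i, hi⟩ : K)))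
    · rintro v ⟨hv, hvK⟩
      have h := hxc _ ((hcomm i v hi hvK).1 (mem_centralizer_singleton_iff.1 hv))
      rw [← hconj x v hvK]
      refine ⟨mem_centralizer_singleton_iff.2 ((hcomm i _ hi (e.symm _).2).2 ?_), (e.symm _).2⟩
      rw [show (⟨(e.symm (x * e ⟨v, hvK⟩ * x⁻¹) : G), (e.symm _).2⟩ : K) = e.symm (x * e ⟨v, hvK⟩ * x⁻¹)
        from rfl, e.apply_symm_apply]
      exact h
  · intro h15 hsol
    exact hns h15 (Group.isSolvable_of_surjective (f := e.toMonoidHom) e.surjective)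
  · intro t ht htK hnorm
    have htt : t * t = 1 := (orderOf_two_iff.1 ht).2
    have htinv : t⁻¹ = t := inv_eq_of_mul_eq_one_right htt
    let θ : K ≃* K :=
      { toFun := fun k => ⟨t * k.1 * t⁻¹, hnorm _ k.2⟩
        invFun := fun k => ⟨t * k.1 * t⁻¹, hnorm _ k.2⟩
        left_inv := fun k => Subtype.ext (by
          show t * (t * k.1 * t⁻¹) * t⁻¹ = k.1
          rw [htinv]; simp [← mul_assoc, htt, mul_assoc k.1])
        right_inv := fun k => Subtype.ext (by
          show t * (t * k.1 * t⁻¹) * t⁻¹ = k.1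
          rw [htinv]; simp [← mul_assoc, htt, mul_assoc k.1])
        map_mul' := fun k m => Subtype.ext (by simp [mul_assoc]) }
    obtain ⟨hcinj, hcsurj⟩ := S2119.result n hn hn6
    obtain ⟨π, hπ⟩ := hcsurj ((e.symm.trans θ).trans e)
    have hπk : ∀ (k : G) (hk : k ∈ K),
        ((e ⟨t * k * t⁻¹, hnorm k hk⟩ : alternatingGroup (Fin n)) : Perm (Fin n)) =
          π * ((e ⟨k, hk⟩ : alternatingGroup (Fin n)) : Perm (Fin n)) * π⁻¹ := by
      intro k hk
      have h := DFunLike.congr_fun hπ (e ⟨k, hk⟩)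
      rw [← MulAut.conjNormal_apply, h]
      simp [θ]
    by_cases hev : Perm.sign π = 1
    · left
      set k₀ := e.symm ⟨π, Perm.mem_alternatingGroup.2 hev⟩ with hk₀
      have hcen : ∀ k ∈ K, ((k₀ : G)⁻¹ * t) * k = k * ((k₀ : G)⁻¹ * t) := by
        intro k hk
        have h1 : t * k * t⁻¹ = (k₀ : G) * k * (k₀ : G)⁻¹ := by
          have h2 : e ⟨t * k * t⁻¹, hnorm k hk⟩ = e (k₀ * ⟨k, hk⟩ * k₀⁻¹) := Subtype.ext (by
            rw [hπk k hk, map_mul, map_mul, map_inv]
            simp [hk₀])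
          exact congrArg Subtype.val (e.injective h2)
        calc (k₀ : G)⁻¹ * t * k = (k₀ : G)⁻¹ * (t * k * t⁻¹) * t := by group
          _ = k * ((k₀ : G)⁻¹ * t) := by rw [h1]; group
      have hzK : (k₀ : G)⁻¹ * t ∉ K := fun h => htK (by simpa using mul_mem k₀.2 h)
      have htzK : t * ((k₀ : G)⁻¹ * t) ∈ K := by
        have := hnorm _ (inv_mem k₀.2)
        rw [htinv] at this
        rwa [← mul_assoc]
      refine ⟨(k₀ : G)⁻¹ * t, orderOf_two_iff.2 ⟨fun h => hzK (h ▸ one_mem K), ?_⟩, hzK, htzK, hcen⟩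
      have hm : (k₀ : G)⁻¹ * t * ((k₀ : G)⁻¹ * t) ∈ K := by
        rw [mul_assoc]; exact mul_mem (inv_mem k₀.2) htzK
      have h := A.center (e ⟨_, hm⟩) fun m => by
        have hc := hcen (e.symm m : G) (e.symm m).2
        have : (k₀ : G)⁻¹ * t * ((k₀ : G)⁻¹ * t) * (e.symm m : G) =
            (e.symm m : G) * ((k₀ : G)⁻¹ * t * ((k₀ : G)⁻¹ * t)) := by
          rw [mul_assoc, hc, ← mul_assoc, hc, mul_assoc]
        simpa using (hcomm _ _ (e.symm m).2 hm).1 this
      exact congrArg Subtype.val ((MulEquiv.map_eq_one_iff e).1 h)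
    · right
      have hodd : Perm.sign π = -1 := (Int.units_eq_one_or _).resolve_left hev
      have hππ : π * π = 1 := hcinj (by
        rw [map_mul, map_one, hπ]
        ext w
        simp only [MulAut.mul_apply, MulEquiv.trans_apply, MulEquiv.symm_apply_apply, MulAut.one_apply]
        rw [show θ (θ (e.symm w)) = e.symm w from θ.left_inv _, MulEquiv.apply_symm_apply])
      have hπinv : π⁻¹ = π := inv_eq_of_mul_eq_one_right hππ
      have hsq : ∀ (k : G) (hk : k ∈ K), orderOf (t * k) = 2 ↔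
          Perm.sign (π * ((e ⟨k, hk⟩ : alternatingGroup (Fin n)) : Perm (Fin n))) = -1 ∧
            π * ((e ⟨k, hk⟩ : alternatingGroup (Fin n)) : Perm (Fin n)) * (π * ((e ⟨k, hk⟩ : alternatingGroup (Fin n)) : Perm (Fin n))) = 1 := by
        intro k hk
        have hs : Perm.sign (π * ((e ⟨k, hk⟩ : alternatingGroup (Fin n)) : Perm (Fin n))) = -1 := by
          rw [map_mul, hodd, Perm.mem_alternatingGroup.1 (e ⟨k, hk⟩).2, mul_one]
        rw [orderOf_two_iff, and_iff_right (fun h : t * k = 1 => htK (by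
          rw [eq_inv_of_mul_eq_one_left h]; exact inv_mem hk)), and_iff_right hs]
        have h1 : t * k * (t * k) = t * k * t⁻¹ * k := by rw [htinv]; group
        have h2 : (t * k * (t * k) = 1) ↔ e (⟨t * k * t⁻¹, hnorm k hk⟩ * ⟨k, hk⟩) = 1 := by
          rw [h1, MulEquiv.map_eq_one_iff, Subtype.ext_iff]; rfl
        rw [h2, map_mul, Subtype.ext_iff, Subgroup.coe_mul, hπk k hk, hπinv]
        simp only [OneMemClass.coe_one, mul_assoc]
      have hcoset : ∀ u : G, t * u ∈ K → u = t * (t * u) := fun u _ => by rw [← mul_assoc, htt, one_mul]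
      refine ⟨?_, ?_⟩
      · rw [← ho, ← A.oddCard]
        refine Set.ncard_congr (fun u hu => π * ((e ⟨t * u, hu.2⟩ : alternatingGroup (Fin n)) : Perm (Fin n))) ?_ ?_ ?_
        · intro u hu
          exact (hsq (t * u) hu.2).1 (by rw [← hcoset u hu.2]; exact hu.1)
        · intro u v hu hv h
          have := congrArg Subtype.val (e.injective (Subtype.ext (mul_left_cancel h)))
          exact mul_left_cancel this
        · intro p hp
          have hpA : π * p ∈ alternatingGroup (Fin n) := Perm.mem_alternatingGroup.2 (by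
            rw [map_mul, hodd, hp.1]; rfl)
          refine ⟨t * (e.symm ⟨π * p, hpA⟩ : G), ⟨(hsq _ (e.symm ⟨π * p, hpA⟩).2).2 ?_, ?_⟩, ?_⟩
          · simp only [Subtype.coe_eta, MulEquiv.apply_symm_apply]
            rw [← mul_assoc, hππ, one_mul]
            exact hp
          · rw [← mul_assoc, htt, one_mul]; exact SetLike.coe_mem _
          · simp [← mul_assoc, htt, hππ]
      · intro u v hu huK hv hvK
        have h1 := (hsq (t * u) huK).1 (by rw [← hcoset u huK]; exact hu)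
        have h2 := (hsq (t * v) hvK).1 (by rw [← hcoset v hvK]; exact hv)
        obtain ⟨k, hk⟩ := A.oddConj _ _ h1.1 h1.2 h2.1 h2.2
        refine ⟨(e.symm k : G), (e.symm k).2, ?_⟩
        set m : G := (e.symm k : G) with hm
        have hmK : m ∈ K := (e.symm k).2
        have hwK : t * (m * u * m⁻¹) ∈ K := by
          have : t * (m * u * m⁻¹) = t * m * t⁻¹ * (t * u) * m⁻¹ := by group
          rw [this]
          exact mul_mem (mul_mem (hnorm m hmK) huK) (inv_mem hmK)
        have key : e ⟨t * (m * u * m⁻¹), hwK⟩ = e ⟨t * v, hvK⟩ := by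
          refine Subtype.ext (mul_left_cancel (a := π) ?_)
          rw [← hk]
          have : (⟨t * (m * u * m⁻¹), hwK⟩ : K) =
              ⟨t * m * t⁻¹, hnorm m hmK⟩ * ⟨t * u, huK⟩ * (⟨m, hmK⟩ : K)⁻¹ := Subtype.ext (by
            show t * (m * u * m⁻¹) = t * m * t⁻¹ * (t * u) * m⁻¹
            group)
          rw [this, map_mul, map_mul, map_inv, Subgroup.coe_mul, Subgroup.coe_mul, hπk m hmK, hπinv,
            show (e ⟨m, hmK⟩ : alternatingGroup (Fin n)) = k from e.apply_symm_apply k]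
          simp [← mul_assoc, hππ]
        exact mul_left_cancel (congrArg Subtype.val (e.injective key))

theorem kdata_four {G : Type u} [Group G] {K : Subgroup G} (e : K ≃* ↥(alternatingGroup (Fin 4))) : KData K 3 :=
  kdata_of (Or.inl rfl) (by norm_num) (by norm_num) rfl altFour (fun h => absurd h (by norm_num)) e

theorem kdata_five {G : Type u} [Group G] {K : Subgroup G} (e : K ≃* ↥(alternatingGroup (Fin 5))) : KData K 15 :=
  kdata_of (Or.inr rfl) (by norm_num) (by norm_num) rfl altFive (fun _ h => by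
    haveI := alternatingGroup.isSimpleGroup (α := Fin 5) (by simp)
    have hc := IsSimpleGroup.comm_iff_isSolvable.2 h
    have hne : ∃ u v : ↥(alternatingGroup (Fin 5)), u * v ≠ v * u := by decide +kernel
    obtain ⟨u, v, huv⟩ := hne
    exact huv (hc u v)) e

end Cfsg.Agent.TwoPointA5
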