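import Cfsg.Agent.Lib.AbelianSylowTwo.Simple
import Cfsg.Agent.Lib.GWKlein.General.Main
import Cfsg.Agent.Lib.DegThreeP.Four
import Cfsg.Agent.Lib.Constrained.Basic
import Cfsg.Agent.Lib.Bender.ModuleBound
import Cfsg.Agent.Lib.PSL2.Klein
import Cfsg.Agent.Lib.PSL2.Centralizers
import Cfsg.Agent.Lib.PSL2.Existence
import Cfsg.Agent.Lib.SmallOrders.BlockDegrees.Criterion
import Cfsg.Agent.Lib.TwoPointA5.PairStab

/-!
# Groups with Klein four Sylow 2-subgroups and one class of involutions (owner: helper58)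

* `card_centralizer_quotient` : centralisers of 2-subgroups modulo a normal subgroup of odd order
* `kleinShape` : the orders of the centralisers of an involution and of the four group
-/

set_option autoImplicit false
set_option linter.style.haveILetI false
set_option linter.unusedSectionVars false

namespace Cfsg.Agent.TwoPointA5

open Subgroup

universe u

variable {X : Type u} [Group X] [Finite X]

/-- Centralisers of 2-subgroups modulo a normal subgroup of odd order. -/
theorem card_centralizer_quotient {O : Subgroup X} [O.Normal] (hO : Odd (Nat.card O)) {T : Subgroup X}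
    (hT : IsPGroup 2 T) :
    Nat.card ↥(centralizer (T : Set X)) = Nat.card ↥(O ⊓ centralizer (T : Set X)) *
      Nat.card ↥(centralizer ((T.map (QuotientGroup.mk' O) : Subgroup (X ⧸ O)) : Set (X ⧸ O))) := by
  haveI : Fact (Nat.Prime 2) := ⟨Nat.prime_two⟩
  set π := QuotientGroup.mk' O with hπ
  set f := π.comp (centralizer (T : Set X)).subtype with hf
  have hrange : f.range = centralizer ((T.map π : Subgroup (X ⧸ O)) : Set (X ⧸ O)) := by
    refine le_antisymm ?_ fun y hy => ?_
    · rintro _ ⟨c, rfl⟩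
      refine mem_centralizer_iff.2 ?_
      rintro _ ⟨t, ht, rfl⟩
      exact ((map_mul π t c.1).symm.trans (congrArg π (mem_centralizer_iff.1 c.2 t ht))).trans
        (map_mul π c.1 t)
    · obtain ⟨x, rfl⟩ := QuotientGroup.mk'_surjective O y
      obtain ⟨o, ho, hox⟩ := Constrained.exists_mul_mem_centralizer (p := 2) (O := O) (T := T)
        (fun h => Nat.not_even_iff_odd.2 hO (even_iff_two_dvd.2 h)) hT (x := x) fun u hu => by
          have h := mem_centralizer_iff.1 hy (π u) ⟨u, hu, rfl⟩
          rw [← QuotientGroup.eq_one_iff, ← QuotientGroup.mk'_apply, map_mul, map_mul, map_mul, map_inv,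
            map_inv, ← h, mul_inv_cancel_right, mul_inv_cancel]
      refine ⟨⟨o * x, hox⟩, ?_⟩
      show π (o * x) = π x
      rw [map_mul, show π o = 1 from (QuotientGroup.eq_one_iff o).2 ho, one_mul]
  rw [← hrange, ← card_mul_index f.ker, index_ker]
  congr 1
  exact Nat.card_congr ⟨fun c => ⟨c.1.1, (QuotientGroup.eq_one_iff _).1 c.2, c.1.2⟩,
    fun c => ⟨⟨c.1, c.2.2⟩, (QuotientGroup.eq_one_iff _).2 c.2.1⟩, fun _ => rfl, fun _ => rfl⟩

theorem centralizer_zpowers (i : X) :
    centralizer ((zpowers i : Subgroup X) : Set X) = centralizer ({i} : Set X) := by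
  rw [zpowers_eq_closure, centralizer_closure]

/-- When all involutions are conjugate the order is their number times that of a centraliser. -/
theorem card_eq_ncard_mul (hconj : ∀ u v : X, orderOf u = 2 → orderOf v = 2 → ∃ g : X, g * u * g⁻¹ = v)
    {i : X} (hi : orderOf i = 2) :
    Nat.card X = Nat.card ↥(centralizer ({i} : Set X)) * {u : X | orderOf u = 2}.ncard := by
  have horb : MulAction.orbit (ConjAct X) i = {u : X | orderOf u = 2} := by
    ext u
    constructor
    · rintro ⟨g, rfl⟩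
      show orderOf (ConjAct.ofConjAct g * i * (ConjAct.ofConjAct g)⁻¹) = 2
      exact (orderOf_injective (MulAut.conj (ConjAct.ofConjAct g)).toMonoidHom
        (MulAut.conj (ConjAct.ofConjAct g)).injective i).trans hi
    · intro hu
      obtain ⟨g, hg⟩ := hconj i u hi hu
      exact ⟨ConjAct.toConjAct g, hg⟩
  rw [show Nat.card X = Nat.card (ConjAct X) from rfl, ← (MulAction.stabilizer (ConjAct X) i).card_mul_index,
    MulAction.index_stabilizer, horb]
  congr 1
  refine Nat.card_congr (Equiv.subtypeEquiv ConjAct.ofConjAct.toEquiv fun c => ?_)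
  rw [MulAction.mem_stabilizer_iff, ConjAct.smul_def, mem_centralizer_singleton_iff, mul_inv_eq_iff_eq_mul]
  rfl

/-- An element outside the centraliser of a Klein Sylow subgroup gives `|N : C| = 3`. -/
theorem card_normalizer_klein_sylow (V : Subgroup X) (h4 : Nat.card V = 4) (hexp : ∀ v ∈ V, v * v = 1)
    (h8 : ¬ 8 ∣ Nat.card X) {x : X} (hx : x ∈ normalizer (V : Set X)) (hxc : x ∉ centralizer (V : Set X)) :
    Nat.card ↥(normalizer (V : Set X)) = 3 * Nat.card ↥(centralizer (V : Set X)) := by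
  classical
  set f := V.normalizerMonoidHom
  haveI := Fintype.ofFinite V
  have hker : f.ker = (centralizer (V : Set X)).subgroupOf _ := normalizerMonoidHom_ker V
  have hle : centralizer (V : Set X) ≤ normalizer (V : Set X) := centralizer_le_normalizer _
  have hcard := f.ker.card_mul_index
  rw [index_ker, hker, Nat.card_congr (subgroupOfEquivOfLe hle).toEquiv] at hcard
  -- the image has at most six elements
  let ψ : MulAut V →* Equiv.Perm {v : V // v ≠ 1} :=
    { toFun := fun g => g.toEquiv.subtypeEquiv fun v => by simp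
      map_one' := rfl
      map_mul' := fun g g' => rfl }
  have hψ : Function.Injective ψ := fun g g' h => MulEquiv.ext fun v => by
    by_cases hv : v = 1
    · rw [hv, map_one, map_one]
    · exact congrArg Subtype.val (DFunLike.congr_fun h ⟨v, hv⟩)
  have h6 : Nat.card f.range ∣ 6 := by
    refine (card_dvd_of_injective (ψ.comp f.range.subtype) (hψ.comp f.range.subtype_injective)).trans ?_
    rw [Nat.card_eq_fintype_card, Fintype.card_perm, Fintype.card_subtype_compl,
      ← Nat.card_eq_fintype_card, h4, Fintype.card_subtype_eq]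
    rfl
  have hVC : V ≤ centralizer (V : Set X) := fun v hv => mem_centralizer_iff.2 fun w hw => by
    have h1 := hexp v hv
    have h2 := hexp w hw
    have h3 := hexp (w * v) (mul_mem hw hv)
    calc w * v = (w * v)⁻¹ := (inv_eq_of_mul_eq_one_right h3).symm
      _ = v * w := by rw [mul_inv_rev, inv_eq_of_mul_eq_one_right h1, inv_eq_of_mul_eq_one_right h2]
  have hodd : ¬ 2 ∣ Nat.card f.range := by
    intro h2
    apply h8
    refine Dvd.dvd.trans ?_ (card_subgroup_dvd_card (normalizer (V : Set X)))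
    rw [← hcard]
    exact mul_dvd_mul (h4 ▸ card_dvd_of_le hVC : 4 ∣ _) h2
  have hne : Nat.card f.range ≠ 1 := by
    intro h1
    apply hxc
    have : (⟨x, hx⟩ : normalizer (V : Set X)) ∈ f.ker := by
      rw [MonoidHom.mem_ker]
      exact mem_bot.1 ((eq_bot_of_card_eq _ h1).le ⟨⟨x, hx⟩, rfl⟩)
    rwa [hker, mem_subgroupOf] at this
  have h3 : Nat.card f.range = 3 := by
    have := Nat.le_of_dvd (by norm_num) h6
    generalize Nat.card f.range = r at *
    interval_cases r <;> norm_num at *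
  rw [← hcard, h3, mul_comm]

/-- The shape of the core-free quotient. -/
def Shape (X : Type u) [Group X] (a e : ℕ) (ε : ℤ) : Prop :=
  (a = 1 ∧ ε = -1 ∧ e = 1 ∧ Nat.card (X ⧸ Cfsg.oddCore X) = 12) ∨
    ((a = 1 → ε = 1) ∧ ∃ L : Subgroup (X ⧸ Cfsg.oddCore X), L.Normal ∧ IsSimpleGroup L ∧
      ¬ IsMulCommutative L ∧ centralizer (L : Set (X ⧸ Cfsg.oddCore X)) = ⊥ ∧
      Nat.card L * e = Nat.card (X ⧸ Cfsg.oddCore X) ∧
      (Nat.card L : ℤ) = 4 * a * ((4 * a + ε) * (2 * a + ε)))

/-- The parameters of a simple `PSL(2,q)` with Klein four Sylow subgroups. -/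
theorem psl_params {F : Type} [Field F] [Fintype F] (hodd : Odd (Fintype.card F))
    (hs : IsSimpleGroup (PSL2.PSL2 F)) (h4 : 4 ∣ Nat.card (PSL2.PSL2 F)) (h8 : ¬ 8 ∣ Nat.card (PSL2.PSL2 F))
    (hna : ¬ IsMulCommutative (PSL2.PSL2 F)) :
    ∃ (a : ℕ) (ε : ℤ), Odd a ∧ (ε = 1 ∨ ε = -1) ∧ (a = 1 → ε = 1) ∧
      (Nat.card (PSL2.PSL2 F) : ℤ) = 4 * a * ((4 * a + ε) * (2 * a + ε)) ∧
      (∀ x : PSL2.PSL2 F, orderOf x = 2 → Nat.card ↥(centralizer ({x} : Set (PSL2.PSL2 F))) = 4 * a) ∧
      12 * Nat.card {V : Subgroup (PSL2.PSL2 F) // IsKleinFour V} = Nat.card (PSL2.PSL2 F) := by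
  have hodd' : Odd (Nat.card F) := by rwa [Nat.card_eq_fintype_card]
  have hq1 : 1 < Nat.card F := Finite.one_lt_card
  have hgcd : Nat.gcd 2 (Nat.card F - 1) = 2 :=
    Nat.gcd_eq_left (even_iff_two_dvd.1 (hodd'.tsub_odd odd_one))
  have hmul := PSL2.card_psl_mul (F := F)
  rw [hgcd] at hmul
  have hK := PSL2.card_klein (F := F) hodd'
  have hcent : ∀ x : PSL2.PSL2 F, orderOf x = 2 → _ := fun x hx => PSL2.card_centralizer_involution hodd' hx
  set N := Nat.card (PSL2.PSL2 F) with hN
  obtain ⟨k, hk⟩ := hodd'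
  rw [hk] at hmul hcent hq1
  have hk2 : 2 * (N : ℤ) = (2 * k + 1) * (4 * k * (k + 1)) := by
    have h1 : ((2 * N : ℕ) : ℤ) = _ := congrArg (Nat.cast (R := ℤ)) hmul
    push_cast at h1
    rw [h1]
    ring
  have hNat : N = (2 * k + 1) * (2 * (k * (k + 1))) := by
    have : (2 : ℤ) * N = 2 * ((2 * k + 1 : ℕ) * (2 * (k * (k + 1)) : ℕ) : ℕ) := by
      rw [hk2]; push_cast; ring
    exact_mod_cast mul_left_cancel₀ two_ne_zero this
  have h2k : ∃ m, k * (k + 1) = 2 * m ∧ Odd m := by
    obtain ⟨m, hm⟩ := (Nat.even_mul_succ_self k).two_dvd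
    refine ⟨m, hm, Nat.not_even_iff_odd.1 fun he => h8 ?_⟩
    obtain ⟨r, rfl⟩ := he.two_dvd
    exact ⟨(2 * k + 1) * r, by rw [hNat, hm]; ring⟩
  obtain ⟨m, hm, hmodd⟩ := h2k
  rcases Nat.even_or_odd k with ⟨r, rfl⟩ | ⟨r, rfl⟩
  · -- `q = 4 r + 1`
    have hr : Odd r := by
      have : m = r * (2 * r + 1) := by
        refine Nat.eq_of_mul_eq_mul_left two_pos ?_; rw [← hm]; ring
      rw [this] at hmodd; exact (Nat.odd_mul.1 hmodd).1
    refine ⟨r, 1, hr, Or.inl rfl, fun _ => rfl, ?_, fun x hx => ?_, hK⟩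
    · rw [hNat]; push_cast; ring
    · have := (hcent x hx).1 (by omega)
      omega
  · -- `q = 4 r + 3`
    have hr : Odd (r + 1) := by
      have : m = (2 * r + 1) * (r + 1) := by
        refine Nat.eq_of_mul_eq_mul_left two_pos ?_; rw [← hm]; ring
      rw [this] at hmodd; exact (Nat.odd_mul.1 hmodd).2
    refine ⟨r + 1, -1, hr, Or.inr rfl, fun h => ?_, ?_, fun x hx => ?_, hK⟩
    · -- `q = 3` is not simple
      obtain rfl : r = 0 := by omega
      haveI := hs
      have h12 : N = 12 := by rw [hNat]; norm_num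
      have := SmallOrders.BlockDegrees.card_ne_of_blockBool (G := PSL2.PSL2 F) hna (n := 12) 3 10
        (by decide +kernel)
      exact absurd h12 this
    · rw [hNat]; push_cast; ring
    · have := (hcent x hx).2 (by omega)
      omega

theorem klein_map_quotient {O : Subgroup X} [O.Normal] (hO : Odd (Nat.card O)) {v : X} (hv : v * v = 1)
    (h : v ∈ O) : v = 1 := by
  have h1 : orderOf (⟨v, h⟩ : O) ∣ 2 := orderOf_dvd_of_pow_eq_one (Subtype.ext (by simp [pow_two, hv]))
  have h2 : orderOf (⟨v, h⟩ : O) ∣ Nat.card O := orderOf_dvd_natCard _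
  rcases (Nat.dvd_prime Nat.prime_two).1 h1 with h1 | h1
  · exact congrArg Subtype.val (orderOf_eq_one_iff.1 h1)
  · rw [h1] at h2; exact absurd (even_iff_two_dvd.2 h2) (Nat.not_even_iff_odd.2 hO)

/-- **The shape of a group with Klein four Sylow subgroup and one class of involutions.** -/
theorem kleinShape (V : Subgroup X) (h4 : Nat.card V = 4) (hexp : ∀ v ∈ V, v * v = 1)
    (h8 : ¬ 8 ∣ Nat.card X)
    (hconj : ∀ u v : X, orderOf u = 2 → orderOf v = 2 → ∃ g : X, g * u * g⁻¹ = v)
    {i : X} (hiV : i ∈ V) (hi : orderOf i = 2) {x : X} (hx : x ∈ normalizer (V : Set X))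
    (hxi : x * i * x⁻¹ ≠ i) :
    ∃ (a e δ ov : ℕ) (ε : ℤ), Odd a ∧ Odd e ∧ Odd δ ∧ Odd ov ∧ (ε = 1 ∨ ε = -1) ∧
      Nat.card ↥(centralizer ({i} : Set X)) = 4 * (a * e * (δ * ov)) ∧
      Nat.card ↥(centralizer (V : Set X)) = 4 * (e * ov) ∧
      (Nat.card X : ℤ) = Nat.card ↥(centralizer ({i} : Set X)) * ((δ : ℤ) ^ 2 * ((4 * a + ε) * (2 * a + ε))) ∧
      Nat.card ↥(Cfsg.oddCore X) = δ ^ 3 * ov ∧ Shape X a e ε := by
  classical
  haveI : Fact (Nat.Prime 2) := ⟨Nat.prime_two⟩
  set O := Cfsg.oddCore X with hOdef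
  haveI : O.Normal := Cores.pPrimeCore_normal 2 X
  have hO : Odd (Nat.card O) := Nat.coprime_two_right.1 (Cores.coprime_card_pPrimeCore 2)
  set π := QuotientGroup.mk' O with hπ
  set j := x * i * x⁻¹ with hj
  have hjV : j ∈ V := (mem_normalizer_iff.1 hx i).1 hiV
  have hii : i * i = 1 := hexp i hiV
  have hjj : j * j = 1 := hexp j hjV
  have hi1 : i ≠ 1 := fun e => by rw [e, orderOf_one] at hi; norm_num at hi
  have hjo : orderOf j = 2 :=
    (orderOf_injective (MulAut.conj x).toMonoidHom (MulAut.conj x).injective i).trans hi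
  have hVmem : ∀ v ∈ V, v = 1 ∨ v = i ∨ v = j ∨ v = i * j := by
    intro v hv
    by_contra hc
    push Not at hc
    have hij : i * j ≠ 1 := fun e => hxi (by
      rw [mul_eq_one_iff_eq_inv, inv_eq_of_mul_eq_one_right hjj] at e; exact e.symm)
    haveI := Fintype.ofFinite (V : Set X)
    have hsub : ({1, i, j, i * j, v} : Finset X) ⊆ (V : Set X).toFinset := by
      intro w hw
      simp only [Finset.mem_insert, Finset.mem_singleton] at hw
      rw [Set.mem_toFinset]
      rcases hw with rfl | rfl | rfl | rfl | rfl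
      · exact one_mem V
      · exact hiV
      · exact hjV
      · exact mul_mem hiV hjV
      · exact hv
    have hj1 : j ≠ 1 := fun e => by rw [e, orderOf_one] at hjo; norm_num at hjo
    have hcard : ({1, i, j, i * j, v} : Finset X).card = 5 := by
      rw [Finset.card_insert_of_notMem (by simp [Ne.symm hi1, Ne.symm hj1, Ne.symm hij, Ne.symm hc.1]),
        Finset.card_insert_of_notMem (by simp [Ne.symm hxi, hj1, Ne.symm hc.2.1]),
        Finset.card_insert_of_notMem (by simp [hi1, Ne.symm hc.2.2.1]),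
        Finset.card_insert_of_notMem (by simp [Ne.symm hc.2.2.2]), Finset.card_singleton]
    have := Finset.card_le_card hsub
    rw [hcard, Set.toFinset_card] at this
    have h4' : Fintype.card (V : Set X) = 4 := by rw [← Nat.card_eq_fintype_card]; exact h4
    omega
  -- the fixed points on the core
  have hcentV : centralizer (V : Set X) = centralizer ({i} : Set X) ⊓ centralizer ({j} : Set X) := by
    ext g
    simp only [mem_inf, mem_centralizer_iff, Set.mem_singleton_iff, forall_eq]
    refine ⟨fun h => ⟨h i hiV, h j hjV⟩, fun ⟨h1, h2⟩ v hv => ?_⟩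
    rcases hVmem v hv with rfl | rfl | rfl | rfl
    · simp
    · exact h1
    · exact h2
    · rw [mul_assoc, h2, ← mul_assoc, h1, mul_assoc]
  set oi := Nat.card ↥(O ⊓ centralizer ({i} : Set X)) with hoi
  set ov := Nat.card ↥(O ⊓ centralizer (V : Set X)) with hov
  have hsame : ∀ v : X, orderOf v = 2 → Nat.card ↥(O ⊓ centralizer ({v} : Set X)) = oi := by
    intro v hv
    obtain ⟨g, rfl⟩ := hconj i v hi hv
    rw [hoi, ← card_map_of_injective (K := O ⊓ centralizer ({i} : Set X))
      (show Function.Injective (MulAut.conj g).toMonoidHom from (MulAut.conj g).injective)]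
    congr 2
    ext w
    simp only [mem_inf, mem_map_equiv, MulAut.conj_symm_apply, mem_centralizer_singleton_iff]
    refine and_congr ?_ ?_
    · exact ⟨fun h => by simpa using ‹O.Normal›.conj_mem _ h g⁻¹,
        fun h => by simpa [mul_assoc] using ‹O.Normal›.conj_mem _ h g⟩
    · exact ⟨fun h => by
        calc g⁻¹ * w * g * i = g⁻¹ * (w * (g * i * g⁻¹)) * g := by group
          _ = i * (g⁻¹ * w * g) := by rw [h]; group,
        fun h => by
        calc w * (g * i * g⁻¹) = g * (g⁻¹ * w * g * i) * g⁻¹ := by group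
          _ = g * i * g⁻¹ * w := by rw [h]; group⟩
  have hbw : Nat.card O * ov ^ 2 = oi ^ 3 := by
    let α : MulAut O := MulAut.conjNormal i
    let β : MulAut O := MulAut.conjNormal j
    have hfix : ∀ v : X, Nat.card ↥(DegThreeP.fixAut (MulAut.conjNormal v : MulAut O)) =
        Nat.card ↥(O ⊓ centralizer ({v} : Set X)) := fun v =>
      Nat.card_congr ⟨fun o => ⟨o.1.1, o.1.2, mem_centralizer_singleton_iff.2
          (mul_inv_eq_iff_eq_mul.1 ((MulAut.conjNormal_apply v o.1).symm.trans (congrArg Subtype.val o.2))).symm⟩,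
        fun o => ⟨⟨o.1, o.2.1⟩, Subtype.ext ((MulAut.conjNormal_apply v _).trans
          (mul_inv_eq_iff_eq_mul.2 (mem_centralizer_singleton_iff.1 o.2.2).symm))⟩, fun _ => rfl, fun _ => rfl⟩
    have hcm : i * j = j * i := by
      have := hexp (i * j) (mul_mem hiV hjV)
      rw [mul_eq_one_iff_eq_inv, mul_inv_rev, inv_eq_of_mul_eq_one_right hii,
        inv_eq_of_mul_eq_one_right hjj] at this
      exact this
    have h := DegThreeP.wielandt_four hO α β (by simp only [α, ← map_mul, hii, map_one])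
      (by simp only [β, ← map_mul, hjj, map_one])
      (by show α * β = β * α; simp only [α, β, ← map_mul, hcm])
    have hinf : Nat.card ↥(DegThreeP.fixAut α ⊓ DegThreeP.fixAut β) = ov := by
      rw [hov, hcentV]
      exact Nat.card_congr ⟨fun o => ⟨o.1.1, o.1.2, mem_centralizer_singleton_iff.2
          (mul_inv_eq_iff_eq_mul.1 ((MulAut.conjNormal_apply i o.1).symm.trans
            (congrArg Subtype.val o.2.1))).symm, mem_centralizer_singleton_iff.2
          (mul_inv_eq_iff_eq_mul.1 ((MulAut.conjNormal_apply j o.1).symm.trans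
            (congrArg Subtype.val o.2.2))).symm⟩,
        fun o => ⟨⟨o.1, o.2.1⟩, Subtype.ext ((MulAut.conjNormal_apply i _).trans
          (mul_inv_eq_iff_eq_mul.2 (mem_centralizer_singleton_iff.1 o.2.2.1).symm)),
          Subtype.ext ((MulAut.conjNormal_apply j _).trans
          (mul_inv_eq_iff_eq_mul.2 (mem_centralizer_singleton_iff.1 o.2.2.2).symm))⟩, fun _ => rfl, fun _ => rfl⟩
    have hijo : orderOf (i * j) = 2 := orderOf_two_iff.2 ⟨fun e => hxi (by
      rw [mul_eq_one_iff_eq_inv, inv_eq_of_mul_eq_one_right hjj] at e; exact e.symm), hexp _ (mul_mem hiV hjV)⟩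
    rw [hinf, hfix, hfix, show α * β = MulAut.conjNormal (i * j) from (map_mul _ i j).symm, hfix,
      hsame j hjo, hsame _ hijo, ← hoi] at h
    rw [h]; ring
  obtain ⟨δ, hδ⟩ : ov ∣ oi := card_dvd_of_le (inf_le_inf_left O (by
    rw [hcentV]; exact inf_le_left))
  have hovpos : 0 < ov := Nat.card_pos
  have hOcard : Nat.card O = δ ^ 3 * ov := by
    refine Nat.eq_of_mul_eq_mul_right (pow_pos hovpos 2) ?_
    rw [hbw, hδ]; ring
  have hδov : Odd δ ∧ Odd ov := by
    rw [hOcard] at hO
    obtain ⟨h1, h2⟩ := Nat.odd_mul.1 hO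
    exact ⟨(Nat.odd_pow_iff three_ne_zero).1 h1, h2⟩
  -- the quotient
  have hVO : ∀ v ∈ V, π v = 1 → v = 1 := fun v hv h =>
    klein_map_quotient hO (hexp v hv) ((QuotientGroup.eq_one_iff v).1 h)
  set W : Subgroup (X ⧸ O) := V.map π with hW
  have hW4 : Nat.card W = 4 := by
    rw [← h4]
    refine (Nat.card_congr ((Equiv.ofBijective (fun v : V => (⟨π v.1, v.1, v.2, rfl⟩ : W)) ⟨?_, ?_⟩))).symm
    · intro v w e
      have e' : π v.1 = π w.1 := congrArg Subtype.val e
      exact Subtype.ext (inv_mul_eq_one.1 (hVO _ (mul_mem (inv_mem v.2) w.2) (by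
        rw [map_mul, map_inv, e', inv_mul_cancel])))
    · rintro ⟨_, v, hv, rfl⟩; exact ⟨⟨v, hv⟩, rfl⟩
  have hWexp : ∀ w ∈ W, w * w = 1 := by
    rintro _ ⟨v, hv, rfl⟩; rw [← map_mul, hexp v hv, map_one]
  have hWp : IsPGroup 2 W := IsPGroup.of_card (n := 2) (by rw [hW4]; rfl)
  have hXcard : Nat.card X = Nat.card O * Nat.card (X ⧸ O) := by
    rw [Subgroup.card_eq_card_quotient_mul_card_subgroup O, mul_comm]
  have h8' : ¬ 8 ∣ Nat.card (X ⧸ O) := fun h => h8 (hXcard ▸ dvd_mul_of_dvd_right h _)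
  have hio : orderOf (π i) = 2 := orderOf_two_iff.2
    ⟨fun e => hi1 (hVO i hiV e), by rw [← map_mul, hii, map_one]⟩
  have hconj' : ∀ u v : X ⧸ O, orderOf u = 2 → orderOf v = 2 → ∃ g : X ⧸ O, g * u * g⁻¹ = v := by
    intro u v hu hv
    obtain ⟨u', hu', rfl⟩ := Bender.exists_lift_involution hO hu
    obtain ⟨v', hv', rfl⟩ := Bender.exists_lift_involution hO hv
    obtain ⟨g, rfl⟩ := hconj u' v' hu' hv'
    exact ⟨π g, by simp [hπ]⟩
  have hxW : π x ∈ normalizer (W : Set (X ⧸ O)) := le_normalizer_map π ⟨x, hx, rfl⟩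
  have hxWc : π x ∉ centralizer (W : Set (X ⧸ O)) := by
    intro h
    have h1 := mem_centralizer_iff.1 h (π i) ⟨i, hiV, rfl⟩
    refine hxi (inv_mul_eq_one.1 (hVO _ (mul_mem (inv_mem hjV) hiV) ?_))
    rw [map_mul, map_inv, hj, map_mul, map_mul, map_inv, ← h1, mul_inv_cancel_right, inv_mul_cancel]
  -- centralisers
  have hCi : Nat.card ↥(centralizer ({i} : Set X)) =
      δ * ov * Nat.card ↥(centralizer ({π i} : Set (X ⧸ O))) := by
    have := card_centralizer_quotient hO (T := zpowers i)
      (IsPGroup.of_card (n := 1) (by rw [Nat.card_zpowers, hi, pow_one]))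
    rw [MonoidHom.map_zpowers, centralizer_zpowers, centralizer_zpowers, ← hoi, hδ] at this
    rw [this, mul_comm δ ov]
  have hCV : Nat.card ↥(centralizer (V : Set X)) = ov * Nat.card ↥(centralizer (W : Set (X ⧸ O))) :=
    card_centralizer_quotient hO (IsPGroup.of_card (n := 2) (by rw [h4]; rfl))
  have hclass := card_eq_ncard_mul hconj' hio
  have hmain : ∀ (a e : ℕ) (ε : ℤ), Odd a → Odd e → (ε = 1 ∨ ε = -1) →
      Nat.card ↥(centralizer ({π i} : Set (X ⧸ O))) = 4 * (a * e) →
      Nat.card ↥(centralizer (W : Set (X ⧸ O))) = 4 * e →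
      (({u : X ⧸ O | orderOf u = 2}.ncard : ℤ) = (4 * a + ε) * (2 * a + ε)) → Shape X a e ε →
      ∃ (a e δ ov : ℕ) (ε : ℤ), Odd a ∧ Odd e ∧ Odd δ ∧ Odd ov ∧ (ε = 1 ∨ ε = -1) ∧
      Nat.card ↥(centralizer ({i} : Set X)) = 4 * (a * e * (δ * ov)) ∧
      Nat.card ↥(centralizer (V : Set X)) = 4 * (e * ov) ∧
      (Nat.card X : ℤ) = Nat.card ↥(centralizer ({i} : Set X)) * ((δ : ℤ) ^ 2 * ((4 * a + ε) * (2 * a + ε))) ∧
      Nat.card O = δ ^ 3 * ov ∧ Shape X a e ε := by
    intro a e ε ha he hε h1 h2 h3 h4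
    refine ⟨a, e, δ, ov, ε, ha, he, hδov.1, hδov.2, hε, ?_, ?_, ?_, hOcard, h4⟩
    · rw [hCi, h1]; ring
    · rw [hCV, h2]; ring
    · rw [hXcard, hclass, hCi, hOcard]; push_cast; rw [h3]; ring
  have hO' : Cfsg.oddCore (X ⧸ O) = ⊥ := Cores.pPrimeCore_quotient_self 2
  by_cases hO2 : Cfsg.pCore 2 (X ⧸ O) = ⊥
  · -- a simple normal subgroup
    let S : Sylow 2 (X ⧸ O) := hWp.toSylow (fun h => h8' (by
      have := mul_dvd_mul_left (Nat.card W) h
      rwa [card_mul_index, hW4] at this))
    have hSK : IsKleinFour (S : Subgroup (X ⧸ O)) := by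
      refine ⟨hW4, ?_⟩
      refine (Nat.dvd_prime Nat.prime_two).1 ?_ |>.resolve_left ?_
      · exact Monoid.exponent_dvd_of_forall_pow_eq_one fun w => Subtype.ext (by
          rw [pow_two]; exact hWexp w.1 w.2)
      · intro h
        haveI : Subsingleton (S : Subgroup (X ⧸ O)) := Monoid.exp_eq_one_iff.1 h
        haveI : Subsingleton W := (inferInstance : Subsingleton (S : Subgroup (X ⧸ O)))
        have : Nat.card W = 1 := Nat.card_unique
        omega
    obtain ⟨L, hLn, hLs, hLna, hSL, hCL⟩ := AbelianSylowTwo.exists_simple_normal hO' hO2 S hSK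
    haveI := hLn
    haveI := hLs
    have hWL : W ≤ L := hSL
    have hind : Nat.card L * L.index = Nat.card (X ⧸ O) := L.card_mul_index
    have h4L : 4 ∣ Nat.card L := hW4 ▸ card_dvd_of_le hWL
    have hLT : IsPGroup 2 (W.subgroupOf L) := IsPGroup.of_card (n := 2) (by
      rw [Nat.card_congr (subgroupOfEquivOfLe hWL).toEquiv, hW4]; rfl)
    let T : Sylow 2 L := hLT.toSylow (fun h => h8' (by
      have := mul_dvd_mul_left (Nat.card (W.subgroupOf L)) h
      rw [card_mul_index, Nat.card_congr (subgroupOfEquivOfLe hWL).toEquiv, hW4] at this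
      exact this.trans (card_subgroup_dvd_card L)))
    have hTK : IsKleinFour (T : Subgroup L) := by
      have e := subgroupOfEquivOfLe hWL
      have hSK' : IsKleinFour W := hSK
      exact ⟨(Nat.card_congr e.toEquiv).trans hW4, (Monoid.exponent_eq_of_mulEquiv e).trans hSK'.exponent_two⟩
    obtain ⟨F, _, _, hFodd, ⟨eL⟩⟩ := GWKlein.kleinGW L hLs hLna T hTK
    have h8L : ¬ 8 ∣ Nat.card L := fun h => h8' (h.trans (card_subgroup_dvd_card L))
    have hcardL : Nat.card (PSL2.PSL2 F) = Nat.card L := (Nat.card_congr eL.toEquiv).symm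
    haveI : IsSimpleGroup (PSL2.PSL2 F) := eL.isSimpleGroup_congr.1 hLs
    obtain ⟨a, ε, ha, hε, ha1, hcard, hcent, hklein⟩ := psl_params hFodd inferInstance
      (hcardL ▸ h4L) (hcardL ▸ h8L) (fun h => hLna
        ⟨⟨fun u v => eL.injective (by rw [map_mul, map_mul]; exact h.is_comm.comm _ _)⟩⟩)
    rw [hcardL] at hcard hklein
    have he : Odd L.index := Nat.not_even_iff_odd.1 fun he => h8' (by
      rw [← hind]; exact mul_dvd_mul h4L he.two_dvd)
    -- involutions
    have hiL : π i ∈ L := hWL ⟨i, hiV, rfl⟩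
    have hinv : ∀ u : X ⧸ O, orderOf u = 2 → u ∈ L := by
      intro u hu
      obtain ⟨g, rfl⟩ := hconj' _ _ hio hu
      exact hLn.conj_mem _ hiL g
    have hconjL : ∀ u v : L, orderOf u = 2 → orderOf v = 2 → ∃ g : L, g * u * g⁻¹ = v := by
      intro u v hu hv
      have hodd' : Odd (Nat.card F) := by rwa [Nat.card_eq_fintype_card]
      obtain ⟨g, hg⟩ := isConj_iff.1 (PSL2.involution_isConj hodd'
        ((MulEquiv.orderOf_eq eL u).trans hu) ((MulEquiv.orderOf_eq eL v).trans hv))
      exact ⟨eL.symm g, eL.injective (by simpa using hg)⟩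
    have hioL : orderOf (⟨π i, hiL⟩ : L) = 2 := by rw [Subgroup.orderOf_mk, hio]
    have hclassL := card_eq_ncard_mul hconjL hioL
    have hsameN : {u : L | orderOf u = 2}.ncard = {u : X ⧸ O | orderOf u = 2}.ncard := by
      refine Set.ncard_congr (fun u _ => (u : X ⧸ O)) (fun u hu => by
        show orderOf (u : X ⧸ O) = 2; rw [Subgroup.orderOf_coe]; exact hu)
        (fun u v _ _ h => Subtype.ext h) (fun u hu => ⟨⟨u, hinv u hu⟩, ?_, rfl⟩)
      show orderOf (⟨u, hinv u hu⟩ : L) = 2
      rw [Subgroup.orderOf_mk]; exact hu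
    have hcentL : Nat.card ↥(centralizer ({(⟨π i, hiL⟩ : L)} : Set L)) = 4 * a := by
      rw [← hcent (eL ⟨π i, hiL⟩) ((MulEquiv.orderOf_eq eL _).trans hioL)]
      refine Nat.card_congr (eL.toEquiv.subtypeEquiv fun c => ?_)
      rw [mem_centralizer_singleton_iff, mem_centralizer_singleton_iff]
      show _ ↔ eL c * _ = _ * eL c
      rw [← map_mul, ← map_mul, eL.injective.eq_iff]
    set w := {u : X ⧸ O | orderOf u = 2}.ncard with hwdef
    rw [hcentL, hsameN] at hclassL
    have hwpos : 0 < w := by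
      rcases Nat.eq_zero_or_pos w with h | h
      · rw [h, mul_zero] at hclassL; exact absurd hclassL Nat.card_pos.ne'
      · exact h
    have hw : (w : ℤ) = (4 * a + ε) * (2 * a + ε) := by
      rw [hclassL] at hcard
      push_cast at hcard
      exact mul_left_cancel₀ (mul_ne_zero four_ne_zero (by exact_mod_cast ha.pos.ne')) hcard
    refine hmain a L.index ε ha he hε ?_ ?_ hw (Or.inr ⟨ha1, L, hLn, hLs, hLna, hCL, hind, by
      rw [hclassL]; push_cast; rw [hw]⟩)
    · refine Nat.eq_of_mul_eq_mul_right hwpos ?_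
      rw [← hclass, ← hind, hclassL]; ring
    · have hN := card_normalizer_klein_sylow W hW4 hWexp h8' hxW hxWc
      have hsyl : Nat.card (Sylow 2 (X ⧸ O)) = Nat.card {U : Subgroup (PSL2.PSL2 F) // IsKleinFour U} := by
        have hmem : ∀ P : Sylow 2 (X ⧸ O), (P : Subgroup (X ⧸ O)) ≤ L := by
          intro P
          obtain ⟨g, rfl⟩ := MulAction.exists_smul_eq (X ⧸ O) S P
          rintro _ ⟨v, hv, rfl⟩
          exact hLn.conj_mem v (hWL hv) g
        have hcardP : ∀ P : Sylow 2 (X ⧸ O), Nat.card (P : Subgroup (X ⧸ O)) = 4 := fun P => by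
          rw [P.card_eq_multiplicity, ← S.card_eq_multiplicity]; exact hW4
        have hexpP : ∀ P : Sylow 2 (X ⧸ O), Monoid.exponent (P : Subgroup (X ⧸ O)) = 2 := fun P =>
          (Monoid.exponent_eq_of_mulEquiv (Sylow.equiv P S)).trans hSK.exponent_two
        refine Nat.card_congr (Equiv.ofBijective (fun P => ⟨((P : Subgroup (X ⧸ O)).subgroupOf L).map
          eL.toMonoidHom, ?_, ?_⟩) ⟨?_, ?_⟩)
        · rw [card_map_of_injective eL.injective, Nat.card_congr (subgroupOfEquivOfLe (hmem P)).toEquiv,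
            hcardP]
        · exact ((Monoid.exponent_eq_of_mulEquiv ((subgroupOfEquivOfLe (hmem P)).symm.trans
            (((P : Subgroup (X ⧸ O)).subgroupOf L).equivMapOfInjective _ eL.injective))).symm).trans (hexpP P)
        · intro P Q e
          have e2 := Subgroup.map_injective eL.injective (congrArg Subtype.val e)
          exact Sylow.ext (by
            rw [← map_subgroupOf_eq_of_le (hmem P), ← map_subgroupOf_eq_of_le (hmem Q), e2])
        · rintro ⟨U, hU⟩
          have hc : Nat.card ↥((U.comap eL.toMonoidHom).map L.subtype) = 4 := by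
            rw [card_map_of_injective L.subtype_injective,
              Nat.card_congr ((eL.toEquiv.subtypeEquiv fun _ => Iff.rfl) : ↥(U.comap eL.toMonoidHom) ≃ U),
              hU.card_four]
          refine ⟨Sylow.ofCard ((U.comap eL.toMonoidHom).map L.subtype) (hc.trans ?_), Subtype.ext ?_⟩
          · rw [← hW4]; exact S.card_eq_multiplicity
          · show (((U.comap eL.toMonoidHom).map L.subtype).subgroupOf L).map eL.toMonoidHom = U
            rw [subgroupOf, comap_map_eq_self_of_injective L.subtype_injective,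
              map_comap_eq_self_of_surjective eL.surjective]
      have hidx : Nat.card (Sylow 2 (X ⧸ O)) = (normalizer (W : Set (X ⧸ O))).index :=
        S.card_eq_index_normalizer
      have h := (normalizer (W : Set (X ⧸ O))).card_mul_index
      rw [← hidx, hN, hsyl] at h
      have h12 : Nat.card {U : Subgroup (PSL2.PSL2 F) // IsKleinFour U} * 12 = Nat.card L := by
        rw [mul_comm]; exact hklein
      refine Nat.eq_of_mul_eq_mul_left (n := 3) three_pos ?_
      refine Nat.eq_of_mul_eq_mul_right (m := Nat.card {U : Subgroup (PSL2.PSL2 F) // IsKleinFour U}) ?_ ?_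
      · rcases Nat.eq_zero_or_pos (Nat.card {U : Subgroup (PSL2.PSL2 F) // IsKleinFour U}) with h0 | h0
        · rw [h0, zero_mul] at h12; exact absurd h12.symm Nat.card_pos.ne'
        · exact h0
      · rw [h, ← hind, ← h12]; ring
  · -- a normal four group
    haveI : (Cfsg.pCore 2 (X ⧸ O)).Normal := Cores.pCore_normal 2 _
    set P := Cfsg.pCore 2 (X ⧸ O) with hP
    obtain ⟨k, hk⟩ := IsPGroup.iff_card.1 (Cores.isPGroup_pCore 2 (X ⧸ O))
    have hk0 : k ≠ 0 := by
      intro h; rw [h, pow_zero] at hk; exact hO2 (eq_bot_of_card_eq _ hk)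
    obtain ⟨u, hu⟩ := exists_prime_orderOf_dvd_card' (G := P) 2 (hk ▸ dvd_pow_self 2 hk0)
    have hinv : ∀ v : X ⧸ O, orderOf v = 2 → v ∈ P := by
      intro v hv
      obtain ⟨g, rfl⟩ := hconj' u.1 v (by rw [Subgroup.orderOf_coe]; exact hu) hv
      exact ‹P.Normal›.conj_mem _ u.2 g
    have hWP : W ≤ P := fun w hw => by
      by_cases hw1 : w = 1
      · exact hw1 ▸ one_mem P
      · exact hinv w (orderOf_two_iff.2 ⟨hw1, hWexp w hw⟩)
    have hPcard : Nat.card P ≤ 4 := by
      by_contra hlt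
      refine h8' (Dvd.dvd.trans ?_ (card_subgroup_dvd_card P))
      rw [hk] at hlt ⊢
      exact pow_dvd_pow 2 (m := 3) (Nat.succ_le_of_lt (by
        by_contra h2; exact hlt (Nat.pow_le_pow_right two_pos (Nat.le_of_not_lt h2) |>.trans_eq (by norm_num))))
    have hPW : P = W := (eq_of_le_of_card_ge hWP (by omega)).symm
    haveI hWn : W.Normal := hPW ▸ ‹P.Normal›
    set C := centralizer (W : Set (X ⧸ O)) with hC
    have hWC : W ≤ C := fun v hv => mem_centralizer_iff.2 fun w hw => by
      have h1 := hWexp v hv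
      have h2 := hWexp w hw
      have h3 := hWexp (w * v) (mul_mem hw hv)
      calc w * v = (w * v)⁻¹ := (inv_eq_of_mul_eq_one_right h3).symm
        _ = v * w := by rw [mul_inv_rev, inv_eq_of_mul_eq_one_right h1, inv_eq_of_mul_eq_one_right h2]
    haveI : C.Normal := inferInstance
    have hCW : Nat.card C = 4 := by
      let T : Sylow 2 C := (IsPGroup.of_card (G := W.subgroupOf C) (n := 2) (by
        rw [Nat.card_congr (subgroupOfEquivOfLe hWC).toEquiv, hW4]; rfl)).toSylow (fun h => h8' (by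
        have := mul_dvd_mul_left (Nat.card (W.subgroupOf C)) h
        rw [card_mul_index, Nat.card_congr (subgroupOfEquivOfLe hWC).toEquiv, hW4] at this
        exact this.trans (card_subgroup_dvd_card C)))
      have hcen : normalizer ((T : Subgroup C) : Set C) ≤ centralizer ((T : Subgroup C) : Set C) := by
        intro c _
        refine mem_centralizer_iff.2 fun w hw => Subtype.ext ?_
        exact mem_centralizer_iff.1 c.2 w.1 hw
      have hcomp := MonoidHom.ker_transferSylow_isComplement' T hcen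
      set K := (MonoidHom.transferSylow T hcen).ker
      have hKO : K = ⊥ := by
        have hle : K ≤ Cfsg.oddCore C := Cores.le_pPrimeCore inferInstance
          (Nat.coprime_comm.1 ((Fact.out : Nat.Prime 2).coprime_iff_not_dvd.2
            (MonoidHom.not_dvd_card_ker_transferSylow T hcen)))
        have := Cores.pPrimeCore_map_subtype C 2
        rw [show Cfsg.pPrimeCore 2 (X ⧸ O) = ⊥ from hO', bot_inf_eq] at this
        exact le_bot_iff.1 (hle.trans ((map_eq_bot_iff_of_injective _ C.subtype_injective).1 this).le)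
      have h := hcomp.card_mul_card
      rw [hKO, card_bot, one_mul] at h
      rw [← h]
      exact (Nat.card_congr (subgroupOfEquivOfLe hWC).toEquiv).trans hW4
    have hN := card_normalizer_klein_sylow W hW4 hWexp h8' hxW hxWc
    rw [normalizer_eq_top_iff.2 hWn, card_top, ← hC, hCW] at hN
    have h3 : {u : X ⧸ O | orderOf u = 2}.ncard = 3 := by
      have e : {u : X ⧸ O | orderOf u = 2} = (W : Set (X ⧸ O)) \ {1} := by
        ext v
        constructor
        · intro hv; exact ⟨hPW ▸ hinv v hv, fun e => (orderOf_two_iff.1 hv).1 e⟩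
        · intro hv; exact orderOf_two_iff.2 ⟨hv.2, hWexp v hv.1⟩
      rw [e, Set.ncard_diff_singleton_of_mem (one_mem W), ← Nat.card_coe_set_eq]
      exact (congrArg (· - 1) hW4).trans rfl
    refine hmain 1 1 (-1) odd_one odd_one (Or.inr rfl) ?_ ?_ (by rw [h3]; norm_num)
      (Or.inl ⟨rfl, rfl, rfl, hN⟩)
    · rw [h3] at hclass
      omega
    · rw [hCW]

end Cfsg.Agent.TwoPointA5
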