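import Cfsg.Agent.Lib.AbelianSylowTwo.Simple
import Cfsg.Agent.Lib.GWDihedral.Main
import Cfsg.Agent.Lib.TwoPointA5.KleinShape

/-!
# Dihedral Sylow 2-subgroups of order eight, one class of involutions, normal four groups (owner: helper58)

* `dShape` : the simple normal subgroup modulo the core is `PSL(2,7)`, `PSL(2,9)` or `A₇`
-/

set_option autoImplicit false
set_option linter.style.haveILetI false
set_option linter.unusedSectionVars false

namespace Cfsg.Agent.TwoPointA5

open Subgroup

universe u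

theorem a7_involutions : {u : ↥(alternatingGroup (Fin 7)) | u ≠ 1 ∧ u * u = 1}.ncard = 105 := by
  rw [Set.ncard_eq_toFinset_card', Set.toFinset_setOf]; decide +kernel

variable {X : Type u} [Group X] [Finite X]

/-- A minimal normal subgroup is simple when 16 does not divide the order. -/
theorem exists_simple_normal_sixteen (hO : Cfsg.oddCore X = ⊥) (hO2 : Cfsg.pCore 2 X = ⊥)
    (h16 : ¬ 16 ∣ Nat.card X) (h2 : 2 ∣ Nat.card X) :
    ∃ (M : Subgroup X), M.Normal ∧ IsSimpleGroup M ∧ ¬ IsMulCommutative M ∧ 2 ∣ Nat.card M := by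
  haveI : Fact (Nat.Prime 2) := ⟨Nat.prime_two⟩
  haveI : Nontrivial X := Finite.one_lt_card_iff_nontrivial.1 (by
    have := Nat.le_of_dvd Nat.card_pos h2; omega)
  obtain ⟨M, hMn, hM0, -, hmin⟩ := Solvable.exists_minimal_normal (N := (⊤ : Subgroup X)) top_ne_bot
  haveI := hMn
  obtain ⟨hOM, hO2M⟩ := AbelianSylowTwo.cores_of_normal hO hO2 M
  have hM2 : 2 ∣ Nat.card M := AbelianSylowTwo.even_of_normal_ne_bot hO hMn hM0
  have hna : ¬ IsMulCommutative M := fun hc => by
    obtain ⟨P⟩ : Nonempty (Sylow 2 M) := inferInstance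
    haveI := hc
    have hP : (P : Subgroup M) = ⊥ := le_bot_iff.1 (hO2M ▸ Cores.le_pCore inferInstance P.isPGroup')
    have := P.dvd_card_of_dvd_card hM2
    rw [hP, Subgroup.card_bot] at this
    norm_num at this
  haveI : Nontrivial M := (nontrivial_iff_ne_bot M).2 hM0
  refine ⟨M, hMn, ⟨fun K hK => or_iff_not_imp_left.2 fun hK0 => ?_⟩, hna, hM2⟩
  haveI := hK
  obtain ⟨K₀, hK₀n, hK₀0, hK₀K, hK₀min⟩ := Solvable.exists_minimal_normal hK0
  haveI := hK₀n
  by_cases hinv : (K₀.map M.subtype).Normal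
  · rcases hmin _ hinv (map_subtype_le K₀) with h | h
    · exact absurd ((map_eq_bot_iff_of_injective _ M.subtype_injective).1 h) hK₀0
    · refine eq_top_iff.2 fun x _ => hK₀K ?_
      obtain ⟨y, hy, e⟩ := h.ge x.2
      exact M.subtype_injective e ▸ hy
  exfalso
  obtain ⟨g, hg⟩ : ∃ g : X, ¬ ∀ x ∈ K₀, MulAut.conjNormal g x ∈ K₀ := by
    by_contra hcon
    push Not at hcon
    refine hinv ⟨?_⟩
    rintro _ ⟨y, hy, rfl⟩ g
    exact ⟨_, hcon g y hy, MulAut.conjNormal_apply g y⟩
  set K₁ := K₀.map (MulAut.conjNormal g : M ≃* M).toMonoidHom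
  haveI hK₁n : K₁.Normal := hK₀n.map _ (MulAut.conjNormal g : M ≃* M).surjective
  have hK₁0 : K₁ ≠ ⊥ := fun h =>
    hK₀0 ((map_eq_bot_iff_of_injective _ (MulAut.conjNormal g : M ≃* M).injective).1 h)
  have hdisj : K₁ ⊓ K₀ = ⊥ := by
    refine (hK₀min _ (inferInstance) inf_le_right).resolve_right fun h => ?_
    have hle : K₀ ≤ K₁ := inf_eq_right.1 h
    have hcard : Nat.card K₁ = Nat.card K₀ :=
      card_map_of_injective (MulAut.conjNormal g : M ≃* M).injective
    have heq := eq_of_le_of_card_ge hle hcard.le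
    exact hg fun x hx => heq ▸ mem_map_of_mem _ hx
  have h4K : ∀ K : Subgroup M, K.Normal → K ≠ ⊥ → 4 ∣ Nat.card K := fun K h1 h2 => by
    haveI := h1
    obtain ⟨e1, e2⟩ := AbelianSylowTwo.cores_of_normal hOM hO2M K
    exact AbelianSylowTwo.four_dvd_card e1 e2 (AbelianSylowTwo.even_of_normal_ne_bot hOM h1 h2)
  have hdvd : Nat.card K₀ * Nat.card K₁ ∣ Nat.card M := by
    rw [← K₀.card_mul_index]
    refine mul_dvd_mul_left _ ?_
    rw [index_eq_card]
    have hinj : Function.Injective ((QuotientGroup.mk' K₀).comp K₁.subtype) := by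
      refine (MonoidHom.ker_eq_bot_iff _).1 (eq_bot_iff.2 fun x hx => ?_)
      have : (x : M) ∈ K₁ ⊓ K₀ := ⟨x.2, (QuotientGroup.eq_one_iff _).1 hx⟩
      rw [hdisj] at this
      exact Subtype.ext (mem_bot.1 this)
    exact card_dvd_of_injective _ hinj
  exact h16 ((mul_dvd_mul (h4K _ hK₀n hK₀0) (h4K _ hK₁n hK₁0)).trans
    (hdvd.trans (card_subgroup_dvd_card M)))

theorem ncard_involutions_congr {A B : Type*} [Group A] [Group B] (e : A ≃* B) :
    {u : A | orderOf u = 2}.ncard = {u : B | orderOf u = 2}.ncard :=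
  Set.ncard_congr (fun u _ => e u) (fun u hu => (MulEquiv.orderOf_eq e u).trans hu)
    (fun u v _ _ h => e.injective h) (fun u hu => ⟨e.symm u, (MulEquiv.orderOf_eq e.symm u).trans hu, by simp⟩)

/-- **The shape of a group with dihedral Sylow subgroups of order eight, one class of involutions
centralising the core, and four groups normal in the involution centraliser.** -/
theorem dShape (S : Sylow 2 X) (eS : DihedralGroup 4 ≃* ↥(S : Subgroup X))
    (hconj : ∀ u v : X, orderOf u = 2 → orderOf v = 2 → ∃ g : X, g * u * g⁻¹ = v)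
    {i : X} (hi : orderOf i = 2) (hcen : ∀ o ∈ Cfsg.oddCore X, o * i = i * o)
    (V : Subgroup X) (hV4 : Nat.card V = 4) (hexp : ∀ v ∈ V, v * v = 1) (hiV : i ∈ V)
    (hVC : centralizer ({i} : Set X) ≤ normalizer (V : Set X)) :
    ∃ L : Subgroup (X ⧸ Cfsg.oddCore X), L.Normal ∧ IsSimpleGroup L ∧ centralizer (L : Set (X ⧸ Cfsg.oddCore X)) = ⊥ ∧
      (∀ u : X ⧸ Cfsg.oddCore X, orderOf u = 2 → u ∈ L) ∧
      ((Nat.card L = 168 ∧ Nat.card X = Nat.card ↥(centralizer ({i} : Set X)) * 21) ∨
       (Nat.card L = 360 ∧ Nat.card X = Nat.card ↥(centralizer ({i} : Set X)) * 45) ∨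
       (Nat.card L = 2520 ∧ Nat.card X = Nat.card ↥(centralizer ({i} : Set X)) * 105)) := by
  classical
  haveI : Fact (Nat.Prime 2) := ⟨Nat.prime_two⟩
  set O := Cfsg.oddCore X with hOdef
  haveI : O.Normal := Cores.pPrimeCore_normal 2 X
  have hO : Odd (Nat.card O) := Nat.coprime_two_right.1 (Cores.coprime_card_pPrimeCore 2)
  set π := QuotientGroup.mk' O with hπ
  have hS8 : Nat.card (S : Subgroup X) = 8 := by
    rw [← Nat.card_congr eS.toEquiv, Nat.card_eq_fintype_card, DihedralGroup.card]
  have h16 : ¬ 16 ∣ Nat.card X := fun h => by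
    have := S.pow_dvd_card_of_pow_dvd_card (n := 4) h
    rw [hS8] at this; norm_num at this
  have h8 : 8 ∣ Nat.card X := hS8 ▸ card_subgroup_dvd_card (S : Subgroup X)
  have hXcard : Nat.card X = Nat.card O * Nat.card (X ⧸ O) := by
    rw [Subgroup.card_eq_card_quotient_mul_card_subgroup O, mul_comm]
  have hcenall : ∀ v : X, orderOf v = 2 → ∀ o ∈ O, o * v = v * o := by
    intro v hv o ho
    obtain ⟨g, rfl⟩ := hconj i v hi hv
    have := hcen _ (‹O.Normal›.conj_mem o ho g⁻¹)
    calc o * (g * i * g⁻¹) = g * (g⁻¹ * o * g⁻¹⁻¹ * i) * g⁻¹ := by group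
      _ = g * (i * (g⁻¹ * o * g⁻¹⁻¹)) * g⁻¹ := by rw [this]
      _ = g * i * g⁻¹ * o := by group
  -- the involutions map bijectively
  have hw : {u : X | orderOf u = 2}.ncard = {u : X ⧸ O | orderOf u = 2}.ncard := by
    refine Set.ncard_congr (fun u _ => π u) (fun u hu => ?_) (fun u v hu hv h => ?_) (fun u hu => ?_)
    · obtain ⟨h1, h2⟩ := orderOf_two_iff.1 hu
      exact orderOf_two_iff.2 ⟨fun e => h1 (klein_map_quotient hO h2 ((QuotientGroup.eq_one_iff u).1 e)),
        by rw [← map_mul, h2, map_one]⟩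
    · have hm : u⁻¹ * v ∈ O := QuotientGroup.eq.1 h
      have h2 := (orderOf_two_iff.1 hu).2
      have h2' := (orderOf_two_iff.1 hv).2
      refine inv_mul_eq_one.1 (klein_map_quotient hO ?_ hm)
      have hc := hcenall u hu _ hm
      calc u⁻¹ * v * (u⁻¹ * v) = u⁻¹ * v * u * v := by rw [inv_eq_of_mul_eq_one_right h2]; group
        _ = u * (u⁻¹ * v) * v := by rw [hc]
        _ = v * v := by group
        _ = 1 := h2'
    · obtain ⟨v, hv, e⟩ := Bender.exists_lift_involution hO hu
      exact ⟨v, hv, e⟩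
  have hconj' : ∀ u v : X ⧸ O, orderOf u = 2 → orderOf v = 2 → ∃ g : X ⧸ O, g * u * g⁻¹ = v := by
    intro u v hu hv
    obtain ⟨u', hu', rfl⟩ := Bender.exists_lift_involution hO hu
    obtain ⟨v', hv', rfl⟩ := Bender.exists_lift_involution hO hv
    obtain ⟨g, rfl⟩ := hconj u' v' hu' hv'
    exact ⟨π g, by simp [hπ]⟩
  have hO' : Cfsg.oddCore (X ⧸ O) = ⊥ := Cores.pPrimeCore_quotient_self 2
  have h8' : 8 ∣ Nat.card (X ⧸ O) := by
    refine (Nat.Coprime.dvd_of_dvd_mul_left ?_ (hXcard ▸ h8))
    exact Nat.Coprime.pow_left 3 (Nat.coprime_two_left.2 hO)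
  have h16' : ¬ 16 ∣ Nat.card (X ⧸ O) := fun h => h16 (hXcard ▸ dvd_mul_of_dvd_right h _)
  have hinj : ∀ s ∈ (S : Subgroup X), π s = 1 → s = 1 := by
    intro s hs e
    have h1 : orderOf (⟨s, (QuotientGroup.eq_one_iff s).1 e⟩ : O) ∣ Nat.card O := orderOf_dvd_natCard _
    have h2 : orderOf (⟨s, hs⟩ : (S : Subgroup X)) ∣ 8 := hS8 ▸ orderOf_dvd_natCard _
    rw [← Subgroup.orderOf_coe] at h1 h2
    exact orderOf_eq_one_iff.1 (Nat.eq_one_of_dvd_coprimes
      (Nat.Coprime.pow_left 3 (Nat.coprime_two_left.2 hO) : (8 : ℕ).Coprime (Nat.card O)) h2 h1)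
  -- no normal 2-subgroup
  have hO2 : Cfsg.pCore 2 (X ⧸ O) = ⊥ := by
    by_contra hne
    haveI : (Cfsg.pCore 2 (X ⧸ O)).Normal := Cores.pCore_normal 2 _
    set P := Cfsg.pCore 2 (X ⧸ O)
    haveI : Nontrivial P := (nontrivial_iff_ne_bot P).2 hne
    have hPp : IsPGroup 2 P := Cores.isPGroup_pCore 2 _
    have hz := hPp.center_nontrivial
    obtain ⟨k, hk⟩ := IsPGroup.iff_card.1 (hPp.to_subgroup (center P))
    obtain ⟨z, hz2⟩ := exists_prime_orderOf_dvd_card' (G := center P) 2 (by
      rw [hk]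
      refine dvd_pow_self 2 fun h0 => ?_
      have := Finite.one_lt_card_iff_nontrivial.2 hz
      rw [hk, h0, pow_zero] at this
      omega)
    have hall : ∀ u : X ⧸ O, orderOf u = 2 → u ∈ (center P).map P.subtype := by
      intro u hu
      obtain ⟨g, rfl⟩ := hconj' z.1.1 u (by rw [Subgroup.orderOf_coe, Subgroup.orderOf_coe]; exact hz2) hu
      haveI : ((center P).map P.subtype).Normal := Cores.map_subtype_normal_of_characteristic P _
      exact Subgroup.Normal.conj_mem inferInstance _ (Subgroup.mem_map_of_mem P.subtype z.2) g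
    -- two non-commuting involutions
    set s₁ := π (eS (DihedralGroup.sr 0)).1
    set s₂ := π (eS (DihedralGroup.sr 1)).1
    have ho : ∀ k : ZMod 4, orderOf (π (eS (DihedralGroup.sr k)).1) = 2 := by
      intro k
      refine orderOf_two_iff.2 ⟨fun e => ?_, ?_⟩
      · have := hinj _ (eS (DihedralGroup.sr k)).2 e
        have h1 : eS (DihedralGroup.sr k) = 1 := Subtype.ext this
        exact absurd ((MulEquiv.map_eq_one_iff eS).1 h1) (fun h => by cases (h : DihedralGroup.sr k = DihedralGroup.r 0))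
      · rw [← map_mul, ← Subgroup.coe_mul, ← map_mul, DihedralGroup.sr_mul_self, map_one, Subgroup.coe_one, map_one]
    obtain ⟨y₁, hy₁, e₁⟩ := hall s₁ (ho 0)
    obtain ⟨y₂, -, e₂⟩ := hall s₂ (ho 1)
    have hc : s₁ * s₂ = s₂ * s₁ := by
      rw [← e₁, ← e₂]
      exact congrArg Subtype.val (mem_center_iff.1 hy₁ y₂).symm
    have h1 : (eS (DihedralGroup.sr 0 * DihedralGroup.sr 1)).1 =
        (eS (DihedralGroup.sr 1 * DihedralGroup.sr 0)).1 := by
      refine inv_mul_eq_one.1 (hinj _ (mul_mem (inv_mem (SetLike.coe_mem _)) (SetLike.coe_mem _)) ?_)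
      simp only [map_mul, Subgroup.coe_mul, map_inv]
      show (s₁ * s₂)⁻¹ * (s₂ * s₁) = 1
      rw [hc, inv_mul_cancel]
    exact absurd (eS.injective (Subtype.ext h1)) (by decide)
  obtain ⟨L, hLn, hLs, hLna, hL2⟩ := exists_simple_normal_sixteen hO' hO2 h16'
    ((show 2 ∣ 8 by norm_num).trans h8')
  haveI := hLn
  haveI := hLs
  obtain ⟨u₀, hu₀⟩ := exists_prime_orderOf_dvd_card' (G := L) 2 hL2
  have hinv : ∀ u : X ⧸ O, orderOf u = 2 → u ∈ L := by
    intro u hu
    obtain ⟨g, rfl⟩ := hconj' u₀.1 u (by rw [Subgroup.orderOf_coe]; exact hu₀) hu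
    exact hLn.conj_mem _ u₀.2 g
  have hSL : (S : Subgroup X).map π ≤ L := by
    rintro _ ⟨s, hs, rfl⟩
    have key : ∀ k : ZMod 4, π (eS (DihedralGroup.sr k)).1 ∈ L := by
      intro k
      by_cases h1 : π (eS (DihedralGroup.sr k)).1 = 1
      · rw [h1]; exact one_mem L
      · exact hinv _ (orderOf_two_iff.2 ⟨h1, by
          rw [← map_mul, ← Subgroup.coe_mul, ← map_mul, DihedralGroup.sr_mul_self, map_one,
            Subgroup.coe_one, map_one]⟩)
    obtain ⟨d, hd⟩ := eS.surjective ⟨s, hs⟩
    rw [show s = (eS d).1 from (congrArg Subtype.val hd).symm]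
    cases d with
    | sr k => exact key k
    | r k =>
      rw [show DihedralGroup.r k = DihedralGroup.sr 0 * DihedralGroup.sr k by simp, map_mul, Subgroup.coe_mul,
        map_mul]
      exact mul_mem (key 0) (key k)
  have hSc : Nat.card ((S : Subgroup X).map π) = 8 := by
    rw [← hS8]
    refine (Nat.card_congr (Equiv.ofBijective (fun s : (S : Subgroup X) =>
      (⟨π s.1, s.1, s.2, rfl⟩ : (S : Subgroup X).map π)) ⟨fun s t e => ?_, ?_⟩)).symm
    · have e' : π s.1 = π t.1 := congrArg Subtype.val e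
      exact Subtype.ext (inv_mul_eq_one.1 (hinj _ (mul_mem (inv_mem s.2) t.2) (by
        rw [map_mul, map_inv, e', inv_mul_cancel])))
    · rintro ⟨_, v, hv, rfl⟩; exact ⟨⟨v, hv⟩, rfl⟩
  have h8L : 8 ∣ Nat.card L := hSc ▸ card_dvd_of_le hSL
  have h16L : ¬ 16 ∣ Nat.card L := fun h => h16' (h.trans (card_subgroup_dvd_card L))
  have hCL : centralizer (L : Set (X ⧸ O)) = ⊥ := by
    by_contra hne
    haveI : (centralizer (L : Set (X ⧸ O))).Normal := inferInstance
    have h2 := AbelianSylowTwo.even_of_normal_ne_bot hO' inferInstance hne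
    obtain ⟨c, hc⟩ := exists_prime_orderOf_dvd_card' (G := centralizer (L : Set (X ⧸ O))) 2 h2
    have hc' : orderOf (c : X ⧸ O) = 2 := by rw [Subgroup.orderOf_coe]; exact hc
    have hcen' : (⟨c.1, hinv _ hc'⟩ : L) ∈ center L := mem_center_iff.2 fun l =>
      Subtype.ext (mem_centralizer_iff.1 c.2 l.1 l.2)
    rw [SmallOrders.center_eq_bot hLna, mem_bot] at hcen'
    exact (orderOf_two_iff.1 hc').1 (congrArg Subtype.val hcen')
  -- the Sylow subgroups of `L`
  obtain ⟨T⟩ : Nonempty (Sylow 2 L) := inferInstance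
  have hTd : Nonempty ((T : Subgroup L) ≃* DihedralGroup 4) := by
    have hp : IsPGroup 2 (((S : Subgroup X).map π).subgroupOf L) :=
      IsPGroup.of_card (n := 3) (by rw [Nat.card_congr (subgroupOfEquivOfLe hSL).toEquiv, hSc]; rfl)
    let T' : Sylow 2 L := hp.toSylow (fun h => h16L (by
      have := mul_dvd_mul_left (Nat.card (((S : Subgroup X).map π).subgroupOf L)) h
      rwa [card_mul_index, Nat.card_congr (subgroupOfEquivOfLe hSL).toEquiv, hSc] at this))
    have e1 : (S : Subgroup X) ≃* ((S : Subgroup X).map π) :=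
      MulEquiv.ofBijective ((π.subgroupMap (S : Subgroup X))) ⟨fun s t e => by
        have e' : π s.1 = π t.1 := congrArg Subtype.val e
        exact Subtype.ext (inv_mul_eq_one.1 (hinj _ (mul_mem (inv_mem s.2) t.2) (by
          rw [map_mul, map_inv, e', inv_mul_cancel]))), π.subgroupMap_surjective _⟩
    exact ⟨(Sylow.equiv T T').trans ((subgroupOfEquivOfLe hSL).trans (e1.symm.trans eS.symm))⟩
  have hclass := card_eq_ncard_mul hconj hi
  have hw' : {u : X ⧸ O | orderOf u = 2}.ncard = {u : L | orderOf u = 2}.ncard :=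
    (Set.ncard_congr (fun (u : L) _ => (u : X ⧸ O)) (fun u hu => by
      show orderOf (u : X ⧸ O) = 2; rw [Subgroup.orderOf_coe]; exact hu)
      (fun u v _ _ h => Subtype.ext h) (fun u hu => ⟨⟨u, hinv u hu⟩, by
        show orderOf (⟨u, hinv u hu⟩ : L) = 2; rw [← Subgroup.orderOf_coe]; exact hu, rfl⟩)).symm
  rw [hw, hw'] at hclass
  refine ⟨L, hLn, hLs, hCL, hinv, ?_⟩
  rcases GWDihedral.dihedralGW L hLs hLna T 4 (by norm_num) hTd with ⟨F, _, _, hFodd, ⟨eL⟩⟩ | hA
  · have hodd' : Odd (Nat.card F) := by rwa [Nat.card_eq_fintype_card]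
    set ib : X ⧸ O := π i
    have hib : orderOf ib = 2 := orderOf_two_iff.2 ⟨fun e => (orderOf_two_iff.1 hi).1 (klein_map_quotient hO
      (orderOf_two_iff.1 hi).2 ((QuotientGroup.eq_one_iff i).1 e)), by
        rw [← map_mul, (orderOf_two_iff.1 hi).2, map_one]⟩
    set iL : L := ⟨ib, hinv _ hib⟩
    have hiLo : orderOf (eL iL) = 2 := by
      rw [MulEquiv.orderOf_eq, ← Subgroup.orderOf_coe]; exact hib
    have hwL := card_eq_ncard_mul (X := PSL2.PSL2 F) (fun u v hu hv =>
      isConj_iff.1 (PSL2.involution_isConj hodd' hu hv)) hiLo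
    rw [← ncard_involutions_congr eL, ← Nat.card_congr eL.toEquiv] at hwL
    -- the centraliser has order at most eight
    set W : Subgroup (X ⧸ O) := V.map π
    have hWmem : ∀ w ∈ W, w ∈ L := by
      rintro _ ⟨v, hv, rfl⟩
      by_cases h1 : π v = 1
      · rw [h1]; exact one_mem L
      · exact hinv _ (orderOf_two_iff.2 ⟨h1, by rw [← map_mul, hexp v hv, map_one]⟩)
    obtain ⟨v, hvV, hv1, hvi⟩ : ∃ v ∈ V, v ≠ 1 ∧ v ≠ i := by
      by_contra hcon
      push Not at hcon
      have hsub : (V : Set X) ⊆ {1, i} := fun v hv => by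
        by_cases h : v = 1
        · exact Or.inl h
        · exact Or.inr (hcon v hv h)
      have hle := Set.ncard_le_ncard hsub
      rw [← Nat.card_coe_set_eq] at hle
      have h2 := Set.ncard_insert_le (1 : X) {i}
      rw [Set.ncard_singleton] at h2
      have h3 : Nat.card ↥(V : Set X) = 4 := hV4
      omega
    have hVinj : ∀ w ∈ V, π w = 1 → w = 1 := fun w hw e =>
      klein_map_quotient hO (hexp w hw) ((QuotientGroup.eq_one_iff w).1 e)
    set vL : L := ⟨π v, hWmem _ ⟨v, hvV, rfl⟩⟩
    set Z := centralizer ({eL iL} : Set (PSL2.PSL2 F)) with hZ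
    set U := centralizer ({eL iL, eL vL} : Set (PSL2.PSL2 F)) with hU
    have h4 : Nat.card U ≤ 4 := by
      have h2F : (2 : F) ≠ 0 := PSL2.two_ne_zero_iff_odd.2 hodd'
      set V' : Subgroup (PSL2.PSL2 F) := (W.subgroupOf L).map eL.toMonoidHom with hV'
      have hK : IsKleinFour V' := by
        have hW4 : Nat.card W = 4 := by
          rw [← hV4]
          refine (Nat.card_congr (Equiv.ofBijective (fun w : V => (⟨π w.1, w.1, w.2, rfl⟩ : W)) ⟨?_, ?_⟩)).symm
          · intro w w' e
            have e' : π w.1 = π w'.1 := congrArg Subtype.val e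
            exact Subtype.ext (inv_mul_eq_one.1 (hVinj _ (mul_mem (inv_mem w.2) w'.2) (by
              rw [map_mul, map_inv, e', inv_mul_cancel])))
          · rintro ⟨_, w, hw, rfl⟩; exact ⟨⟨w, hw⟩, rfl⟩
        have hc : Nat.card V' = 4 := by
          rw [hV', card_map_of_injective eL.injective, Nat.card_congr (subgroupOfEquivOfLe hWmem).toEquiv, hW4]
        refine ⟨hc, ?_⟩
        refine (Nat.dvd_prime Nat.prime_two).1 ?_ |>.resolve_left ?_
        · refine Monoid.exponent_dvd_of_forall_pow_eq_one fun w => Subtype.ext ?_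
          obtain ⟨l, ⟨w', hw', e⟩, hl⟩ := w.2
          rw [SubmonoidClass.coe_pow, pow_two, ← hl, ← map_mul]
          have : l * l = 1 := Subtype.ext (by
            show l.1 * l.1 = 1
            rw [show l.1 = π w' from e.symm, ← map_mul, hexp w' hw', map_one])
          rw [this, map_one]; rfl
        · intro h
          haveI : Subsingleton V' := Monoid.exp_eq_one_iff.1 h
          have : Nat.card V' = 1 := Nat.card_unique
          omega
      have hm1 : eL iL ∈ V' := ⟨iL, ⟨i, hiV, rfl⟩, rfl⟩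
      have hm2 : eL vL ∈ V' := ⟨vL, ⟨v, hvV, rfl⟩, rfl⟩
      have hne : eL iL ≠ eL vL := fun e => hvi (inv_mul_eq_one.1 (hVinj _ (mul_mem (inv_mem hiV) hvV) (by
        rw [map_mul, map_inv, inv_mul_eq_one]
        exact congrArg Subtype.val (eL.injective e)))).symm
      have hne1 : eL iL ≠ 1 := fun e => (orderOf_two_iff.1 hiLo).1 e
      have hne2 : eL vL ≠ 1 := fun e => hv1 (hVinj v hvV
        (congrArg Subtype.val ((MulEquiv.map_eq_one_iff eL).1 e)))
      haveI : Finite (PSL2.PGL2 F) := Finite.of_surjective _ Matrix.ProjGenLinGroup.mk_surjective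
      rw [← PSL2.card_centralizer_klein h2F hK hm1 hm2 hne1 hne2 hne]
      refine Nat.card_le_card_of_injective (fun u : U => ⟨Matrix.ProjectiveSpecialLinearGroup.toPGL u.1, ?_⟩)
        fun u u' e => Subtype.ext (Matrix.ProjectiveSpecialLinearGroup.toPGL_injective (congrArg Subtype.val e))
      refine mem_centralizer_iff.2 ?_
      rintro _ (rfl | rfl)
      · rw [← map_mul, ← map_mul, mem_centralizer_iff.1 u.2 _ (Or.inl rfl)]
      · rw [← map_mul, ← map_mul, mem_centralizer_iff.1 u.2 _ (Or.inr rfl)]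
    have hcoset : ∀ c ∈ Z, eL vL * c = c * eL vL ∨ eL vL * c = c * (eL iL * eL vL) := by
      intro c hc
      obtain ⟨l, rfl⟩ := eL.surjective c
      obtain ⟨y, hy⟩ := QuotientGroup.mk'_surjective O l.1
      have hcl : π y * π i = π i * π y := by
        rw [hy]
        exact congrArg Subtype.val (eL.injective (by
          rw [map_mul, map_mul]; exact mem_centralizer_singleton_iff.1 hc) : l * iL = iL * l)
      obtain ⟨o, ho, hoy⟩ := Constrained.exists_mul_mem_centralizer (p := 2) (O := O) (T := zpowers i)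
        (fun h => Nat.not_even_iff_odd.2 hO (even_iff_two_dvd.2 h))
        (IsPGroup.of_card (n := 1) (by rw [Nat.card_zpowers, hi, pow_one])) (x := y) (fun u hu => by
          obtain ⟨k, rfl⟩ := mem_zpowers_iff.1 hu
          have hk : Commute (π y) (π i ^ k) := (show Commute (π y) (π i) from hcl).zpow_right k
          rw [← QuotientGroup.eq_one_iff, ← QuotientGroup.mk'_apply, map_mul, map_mul, map_mul, map_inv, map_inv,
            map_zpow, hk.eq, mul_inv_cancel_right, mul_inv_cancel])
      have hyC : o * y ∈ centralizer ({i} : Set X) :=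
        mem_centralizer_singleton_iff.2 (mem_centralizer_iff.1 hoy i (mem_zpowers _)).symm
      have hconjv : (o * y)⁻¹ * v * (o * y) ∈ V := (mem_normalizer_iff''.1 (hVC hyC) v).1 hvV
      have hfour : (o * y)⁻¹ * v * (o * y) = v ∨ (o * y)⁻¹ * v * (o * y) = i * v := by
        set w := (o * y)⁻¹ * v * (o * y) with hwdef
        by_contra hcon
        push Not at hcon
        have hw1 : w ≠ 1 := fun e => hv1 (by
          calc v = (o * y) * w * (o * y)⁻¹ := by rw [hwdef]; group
            _ = 1 := by rw [e]; group)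
        have hwi : w ≠ i := fun e => hvi (by
          calc v = (o * y) * w * (o * y)⁻¹ := by rw [hwdef]; group
            _ = i := by rw [e, mem_centralizer_singleton_iff.1 hyC]; group)
        have hiv : i * v ≠ 1 := fun e => hvi (by
          rw [mul_eq_one_iff_eq_inv, inv_eq_of_mul_eq_one_right (hexp v hvV)] at e; exact e.symm)
        have hi1 := (orderOf_two_iff.1 hi).1
        have hsub : ({1, i, v, i * v, w} : Set X) ⊆ V := by
          rintro z (rfl | rfl | rfl | rfl | rfl)
          exacts [one_mem V, hiV, hvV, mul_mem hiV hvV, hconjv]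
        have h5 : ({1, i, v, i * v, w} : Set X).ncard = 5 := by
          rw [Set.ncard_insert_of_notMem (by simp [Ne.symm hi1, Ne.symm hv1, Ne.symm hiv, Ne.symm hw1]),
            Set.ncard_insert_of_notMem (by simp [Ne.symm hvi, hv1, Ne.symm hwi]),
            Set.ncard_insert_of_notMem (by simp [hi1, Ne.symm hcon.1]),
            Set.ncard_insert_of_notMem (by simp [Ne.symm hcon.2]), Set.ncard_singleton]
        have := Set.ncard_le_ncard hsub
        rw [h5, ← Nat.card_coe_set_eq] at this
        have h3 : Nat.card ↥(V : Set X) = 4 := hV4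
        omega
      have hpo : π (o * y) = l.1 := by rw [map_mul, (QuotientGroup.eq_one_iff o).2 ho |> fun h => (h : π o = 1), one_mul, hy]
      rcases hfour with e | e
      · left
        rw [← map_mul, ← map_mul]
        refine congrArg eL (Subtype.ext ?_)
        have h := congrArg π e
        rw [map_mul, map_mul, map_inv, hpo, mul_assoc, inv_mul_eq_iff_eq_mul] at h
        exact h
      · right
        rw [← map_mul, ← map_mul, ← map_mul]
        refine congrArg eL (Subtype.ext ?_)
        have h := congrArg π e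
        rw [map_mul, map_mul, map_inv, hpo, mul_assoc, inv_mul_eq_iff_eq_mul, map_mul] at h
        exact h
    have hZ8 : Nat.card Z ≤ 8 := by
      have hle : U ≤ Z := centralizer_le (by simp)
      have hidx : (U.subgroupOf Z).index ≤ 2 := by
        rw [index]
        refine (Nat.card_le_card_of_injective (fun q : ↥Z ⧸ U.subgroupOf Z =>
          Quotient.liftOn' q (fun c => decide (eL vL * c.1 = c.1 * eL vL)) fun c c' hcc => ?_) ?_).trans
          (by rw [Nat.card_eq_fintype_card, Fintype.card_bool])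
        · have hm : (c⁻¹ * c').1 ∈ U := Subgroup.mem_subgroupOf.1 (QuotientGroup.leftRel_apply.1 hcc)
          have hk := mem_centralizer_iff.1 hm (eL vL) (Or.inr rfl)
          rw [decide_eq_decide, show c'.1 = c.1 * (c⁻¹ * c').1 by simp]
          set k := (c⁻¹ * c').1
          constructor
          · intro h; rw [← mul_assoc, h, mul_assoc, hk, ← mul_assoc]
          · intro h
            rw [← mul_assoc, mul_assoc c.1 k, ← hk, ← mul_assoc c.1] at h
            exact mul_right_cancel h
        · intro q q' e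
          induction q using QuotientGroup.induction_on with
          | H c =>
          induction q' using QuotientGroup.induction_on with
          | H c' =>
          have e' : (eL vL * c.1 = c.1 * eL vL) ↔ (eL vL * c'.1 = c'.1 * eL vL) := by
            simpa [decide_eq_decide] using e
          have hsame : ∃ t, eL vL * c.1 = c.1 * t ∧ eL vL * c'.1 = c'.1 * t := by
            rcases hcoset c.1 c.2 with h | h
            · exact ⟨_, h, e'.1 h⟩
            · by_cases h' : eL vL * c'.1 = c'.1 * eL vL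
              · exact ⟨_, e'.2 h', h'⟩
              · exact ⟨_, h, (hcoset c'.1 c'.2).resolve_left h'⟩
          obtain ⟨t, ht, ht'⟩ := hsame
          refine QuotientGroup.eq.2 (mem_centralizer_iff.2 ?_)
          rintro g (rfl | rfl)
          · exact (mem_centralizer_singleton_iff.1 (c⁻¹ * c').2).symm
          · have hcv : c.1⁻¹ * eL vL * c.1 = t := by rw [mul_assoc, ht, inv_mul_cancel_left]
            have hcv' : c'.1⁻¹ * eL vL * c'.1 = t := by rw [mul_assoc, ht', inv_mul_cancel_left]
            show eL vL * (c.1⁻¹ * c'.1) = c.1⁻¹ * c'.1 * eL vL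
            have h1 : c'.1 * t * c'.1⁻¹ = eL vL := by rw [← hcv']; group
            have h2 : c.1 * t * c.1⁻¹ = eL vL := by rw [← hcv]; group
            have hh : c.1⁻¹ * (c'.1 * t * c'.1⁻¹) * c.1 = t := by rw [h1, hcv]
            have ht2 : (c.1⁻¹ * c'.1) * t = t * (c.1⁻¹ * c'.1) := by
              calc (c.1⁻¹ * c'.1) * t = c.1⁻¹ * (c'.1 * t * c'.1⁻¹) * c.1 * (c.1⁻¹ * c'.1) := by group
                _ = t * (c.1⁻¹ * c'.1) := by rw [hh]
            -- `t` is `eL vL` up to `eL iL`
            have hci : c.1⁻¹ * c'.1 * eL iL = eL iL * (c.1⁻¹ * c'.1) :=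
              mem_centralizer_singleton_iff.1 (c⁻¹ * c').2
            rcases hcoset c.1 c.2 with h | h
            · have : t = eL vL := mul_left_cancel (ht.symm.trans h)
              rw [this] at ht2; exact ht2.symm
            · have hte : t = eL iL * eL vL := mul_left_cancel (ht.symm.trans h)
              rw [hte] at ht2
              refine mul_left_cancel (a := eL iL) ?_
              calc eL iL * (eL vL * (c.1⁻¹ * c'.1)) = eL iL * eL vL * (c.1⁻¹ * c'.1) := by group
                _ = c.1⁻¹ * c'.1 * (eL iL * eL vL) := ht2.symm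
                _ = eL iL * (c.1⁻¹ * c'.1) * eL vL := by rw [← mul_assoc, hci]
                _ = eL iL * (c.1⁻¹ * c'.1 * eL vL) := by group
      have h := (U.subgroupOf Z).card_mul_index
      rw [Nat.card_congr (subgroupOfEquivOfLe hle).toEquiv] at h
      nlinarith [h, h4, hidx, Nat.zero_le (Nat.card U)]
    obtain ⟨hc1, hc3⟩ := PSL2.card_centralizer_involution hodd' hiLo
    have hcard := PSL2.card_psl_mul (F := F)
    rw [Nat.gcd_eq_left (even_iff_two_dvd.1 (hodd'.tsub_odd odd_one)), ← Nat.card_congr eL.toEquiv] at hcard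
    have hq1 : 1 < Nat.card F := Finite.one_lt_card
    rw [← hZ] at hc1 hc3
    generalize Nat.card F = q at hc1 hc3 hcard hodd' hq1
    have hq : q ≤ 9 := by
      obtain ⟨k, hk⟩ := hodd'
      rcases (by omega : q % 4 = 1 ∨ q % 4 = 3) with h | h
      · have := hc1 h; omega
      · have := hc3 h; omega
    obtain ⟨k, hk⟩ := hodd'
    have hfin : (Nat.card L = 168 ∧ {u : L | orderOf u = 2}.ncard = 21) ∨
        (Nat.card L = 360 ∧ {u : L | orderOf u = 2}.ncard = 45) := by
      interval_cases q <;> norm_num only at hcard <;>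
        first
          | omega
          | (rw [hc1 (by norm_num)] at hwL; omega)
          | (rw [hc3 (by norm_num)] at hwL; omega)
    rcases hfin with ⟨h1, h2⟩ | ⟨h1, h2⟩
    · exact Or.inl ⟨h1, by rw [hclass, h2]⟩
    · exact Or.inr (Or.inl ⟨h1, by rw [hclass, h2]⟩)
  · obtain ⟨eA⟩ := hA
    right; right
    have h1 : Nat.card L = 2520 := by
      rw [Nat.card_congr eA.toEquiv, nat_card_alternatingGroup]; simp [Nat.factorial]
    have h2 : {u : L | orderOf u = 2}.ncard = 105 := by
      rw [ncard_involutions_congr eA, ← a7_involutions]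
      congr 1
      ext u; exact orderOf_two_iff
    exact ⟨h1, by rw [hclass, h2]⟩

end Cfsg.Agent.TwoPointA5
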