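import Cfsg.Agent.EqLemmas
import Mathlib.GroupTheory.Transfer
import Mathlib.GroupTheory.Sylow

/-!
# A transfer for dihedral Sylow 2-subgroups with central involution (owner: helper58)

* `not_conj_of_central` : if the central involution of a dihedral Sylow 2-subgroup is central in the group,
  the two classes of reflections do not fuse
-/

set_option autoImplicit false
set_option linter.style.haveILetI false

namespace Cfsg.Agent.TwoPointA5

open Subgroup MulAction

universe u

theorem not_conj_of_central {Y : Type u} [Group Y] [Finite Y] (P : Sylow 2 Y) {r w : Y}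
    (hr : r ∈ (P : Subgroup Y)) (hw : w ∈ (P : Subgroup Y)) (hwr : w ∉ zpowers r)
    (hidx : Nat.card (P : Subgroup Y) = 2 * orderOf r) (h4 : 4 ∣ orderOf r)
    (hout : ∀ q ∈ (P : Subgroup Y), q ∉ zpowers r → q * q = 1)
    (hz : ∀ g : Y, g * r ^ (orderOf r / 2) = r ^ (orderOf r / 2) * g) :
    ¬ ∃ g : Y, g * w * g⁻¹ = r * w := by
  classical
  haveI : Fact (Nat.Prime 2) := ⟨Nat.prime_two⟩
  rintro ⟨g₀, hg₀⟩
  set H := (P : Subgroup Y)
  set N := orderOf r with hN
  have hNpos : 0 < N := orderOf_pos r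
  have hrN : r ^ N = 1 := pow_orderOf_eq_one r
  -- conjugation by `w` inverts `r`
  have hww : w * w = 1 := hout w hw hwr
  have hwr' : w * r ∉ zpowers r := fun h => hwr (by simpa using mul_mem h (inv_mem (mem_zpowers r)))
  have hinvert : w * r * w⁻¹ = r⁻¹ := by
    have h1 := hout (w * r) (mul_mem hw hr) hwr'
    rw [inv_eq_of_mul_eq_one_right hww]
    exact (inv_eq_of_mul_eq_one_left (by rw [← h1]; group)).symm
  -- the subgroup `M` of index two not containing `r`
  let M₀ : Subgroup Y :=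
    { carrier := {q | ∃ (k : ℤ), 2 ∣ k ∧ (q = r ^ k ∨ q = r ^ k * w)}
      one_mem' := ⟨0, dvd_zero 2, Or.inl (zpow_zero r).symm⟩
      mul_mem' := by
        rintro p q ⟨k, hk, hp⟩ ⟨l, hl, hq⟩
        have hwl : w * r ^ l = r ^ (-l) * w := by
          have : (MulAut.conj w) (r ^ l) = (r⁻¹) ^ l := by rw [map_zpow]; exact congrArg (· ^ l) hinvert
          rw [MulAut.conj_apply, inv_zpow', mul_inv_eq_iff_eq_mul] at this
          exact this
        rcases hp with rfl | rfl <;> rcases hq with rfl | rfl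
        · exact ⟨k + l, dvd_add hk hl, Or.inl (zpow_add r k l).symm⟩
        · exact ⟨k + l, dvd_add hk hl, Or.inr (by rw [zpow_add, mul_assoc])⟩
        · exact ⟨k + -l, dvd_add hk (dvd_neg.2 hl), Or.inr (by rw [mul_assoc, hwl, ← mul_assoc, zpow_add])⟩
        · refine ⟨k + -l, dvd_add hk (dvd_neg.2 hl), Or.inl ?_⟩
          calc r ^ k * w * (r ^ l * w) = r ^ k * (w * r ^ l) * w := by group
            _ = r ^ (k + -l) * (w * w) := by rw [hwl]; group
            _ = r ^ (k + -l) := by rw [hww, mul_one]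
      inv_mem' := by
        rintro p ⟨k, hk, hp⟩
        rcases hp with rfl | rfl
        · exact ⟨-k, dvd_neg.2 hk, Or.inl (zpow_neg r k).symm⟩
        · refine ⟨k, hk, Or.inr ?_⟩
          have : (MulAut.conj w) (r ^ k) = (r⁻¹) ^ k := by rw [map_zpow]; exact congrArg (· ^ k) hinvert
          rw [MulAut.conj_apply, inv_zpow', mul_inv_eq_iff_eq_mul] at this
          refine inv_eq_of_mul_eq_one_right ?_
          calc r ^ k * w * (r ^ k * w) = r ^ k * (w * r ^ k) * w := by group
            _ = w * w := by rw [this]; group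
            _ = 1 := hww }
  have hM₀H : M₀ ≤ H := by
    rintro q ⟨k, -, rfl | rfl⟩
    · exact zpow_mem hr k
    · exact mul_mem (zpow_mem hr k) hw
  set M : Subgroup H := M₀.subgroupOf H with hM
  have hrM : (⟨r, hr⟩ : H) ∉ M := by
    rintro ⟨k, hk, e | e⟩
    · have h1 : r ^ (k - 1) = 1 := by rw [zpow_sub, zpow_one]; exact mul_inv_eq_one.2 e.symm
      rw [← orderOf_dvd_iff_zpow_eq_one, ← hN] at h1
      have h2 : (2 : ℤ) ∣ k - 1 := (Int.natCast_dvd_natCast.2 ((show 2 ∣ 4 by norm_num).trans h4)).trans h1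
      omega
    · exact hwr (by rw [show w = (r ^ k)⁻¹ * r from eq_inv_mul_of_mul_eq e.symm]; exact mul_mem (inv_mem (zpow_mem (mem_zpowers r) k)) (mem_zpowers r))
  -- `H = ⟨r⟩ ∪ ⟨r⟩ w`
  have hcover : ∀ q ∈ H, q ∈ zpowers r ∨ q * w ∈ zpowers r := by
    intro q hq
    have hle : zpowers r ≤ H := zpowers_le.2 hr
    have hi2 : ((zpowers r).subgroupOf H).index = 2 := by
      have h := ((zpowers r).subgroupOf H).card_mul_index
      rw [Nat.card_congr (subgroupOfEquivOfLe hle).toEquiv, Nat.card_zpowers, hidx] at h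
      nlinarith
    by_cases hqr : q ∈ zpowers r
    · exact Or.inl hqr
    · right
      have := (Subgroup.mul_mem_iff_of_index_two hi2 (a := (⟨q, hq⟩ : H)) (b := ⟨w, hw⟩)).2
        (iff_of_false (fun h => hqr (mem_subgroupOf.1 h)) (fun h => hwr (mem_subgroupOf.1 h)))
      exact mem_subgroupOf.1 this
  have hMidx : M.index = 2 := by
    rw [index_eq_two_iff]
    refine ⟨⟨r, hr⟩, fun q => ?_⟩
    have hform : ∃ k : ℤ, q.1 = r ^ k ∨ q.1 = r ^ k * w := by
      rcases hcover q.1 q.2 with h | h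
      · obtain ⟨k, hk⟩ := mem_zpowers_iff.1 h; exact ⟨k, Or.inl hk.symm⟩
      · obtain ⟨k, hk⟩ := mem_zpowers_iff.1 h
        exact ⟨k, Or.inr (by rw [hk, mul_assoc, hww, mul_one])⟩
    have hwinv : ∀ k : ℤ, r ^ k * w * r = r ^ (k - 1) * w := by
      intro k
      have h : w * r = r⁻¹ * w := mul_inv_eq_iff_eq_mul.1 hinvert
      rw [mul_assoc, h, zpow_sub, zpow_one, mul_assoc]
    obtain ⟨k, hk⟩ := hform
    by_cases he : (2 : ℤ) ∣ k
    · refine Or.inr ⟨⟨k, he, hk⟩, fun hmem => hrM ?_⟩
      have h1 : q⁻¹ * (q * ⟨r, hr⟩) ∈ M := mul_mem (inv_mem (show q ∈ M from ⟨k, he, hk⟩)) hmem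
      simpa using h1
    · refine Or.inl ⟨?_, fun hqM => hrM ?_⟩
      · show q.1 * r ∈ M₀
        rcases hk with e | e
        · exact ⟨k + 1, by omega, Or.inl (by rw [e, zpow_add, zpow_one])⟩
        · exact ⟨k - 1, by omega, Or.inr (by rw [e, hwinv])⟩
      · have h1 : q.1 * r ∈ M₀ := by
          rcases hk with e | e
          · exact ⟨k + 1, by omega, Or.inl (by rw [e, zpow_add, zpow_one])⟩
          · exact ⟨k - 1, by omega, Or.inr (by rw [e, hwinv])⟩
        have h2 : q⁻¹ * (q * ⟨r, hr⟩) ∈ M := mul_mem (inv_mem hqM) (show q * ⟨r, hr⟩ ∈ M from h1)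
        simpa using h2
  haveI hMn : M.Normal := normal_of_index_eq_two hMidx
  haveI hcomm : IsMulCommutative (H ⧸ M) := by
    haveI := isCyclic_of_prime_card (α := H ⧸ M) (p := 2) (by rw [← index_eq_card, hMidx])
    infer_instance
  letI : CommGroup (H ⧸ M) := { (inferInstance : Group (H ⧸ M)) with mul_comm := fun a b => mul_comm' a b }
  set φ : H →* H ⧸ M := QuotientGroup.mk' M
  set v : Y →* H ⧸ M := MonoidHom.transfer φ
  set c : H ⧸ M := φ ⟨r, hr⟩ with hc
  have hc1 : c ≠ 1 := fun e => hrM ((QuotientGroup.eq_one_iff _).1 e)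
  have hc2 : c ^ 2 = 1 := by
    rw [← map_pow, QuotientGroup.mk'_apply, QuotientGroup.eq_one_iff]
    exact ⟨2, dvd_refl 2, Or.inl (show r ^ (2 : ℕ) = r ^ (2 : ℤ) from (zpow_natCast r 2).symm)⟩
  -- the value at `r`
  have hvr : v r = c := by
    haveI := Fintype.ofFinite (Quotient (orbitRel (zpowers r) (Y ⧸ H)))
    show MonoidHom.transfer φ r = c
    rw [MonoidHom.transfer_eq_prod_quotient_orbitRel_zpowers_quot]
    set k : Quotient (orbitRel (zpowers r) (Y ⧸ H)) → ℕ := fun q => Function.minimalPeriod (r • ·) q.out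
    have hterm : ∀ q : Quotient (orbitRel (zpowers r) (Y ⧸ H)),
        φ ⟨q.out.out⁻¹ * r ^ k q * q.out.out, QuotientGroup.out_conj_pow_minimalPeriod_mem H r q.out⟩ = c ^ k q := by
      intro q
      have hmem := QuotientGroup.out_conj_pow_minimalPeriod_mem H r q.out
      set g := q.out.out
      set K := k q
      set e : H := ⟨g⁻¹ * r ^ K * g, hmem⟩
      have hord : orderOf e.1 = orderOf (r ^ K) := by
        show orderOf (g⁻¹ * r ^ K * g) = _
        rw [show g⁻¹ * r ^ K * g = (MulAut.conj g⁻¹) (r ^ K) by simp]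
        exact orderOf_injective (MulAut.conj g⁻¹).toMonoidHom (MulAut.conj g⁻¹).injective _
      by_cases hbig : e.1 * e.1 = 1
      · -- an element of order at most two
        have h1 : orderOf (r ^ K) ∣ 2 := hord ▸ orderOf_dvd_of_pow_eq_one (by rw [pow_two]; exact hbig)
        have h2 : r ^ (K * 2) = 1 := by rw [pow_mul]; exact orderOf_dvd_iff_pow_eq_one.1 h1
        rw [← orderOf_dvd_iff_pow_eq_one, ← hN] at h2
        have hdiv : N / 2 ∣ K := by
          obtain ⟨m, hm⟩ := (show 2 ∣ 4 by norm_num).trans h4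
          rw [hm, mul_comm K] at h2
          rw [hm, Nat.mul_div_cancel_left _ two_pos]
          exact (Nat.mul_dvd_mul_iff_left two_pos).1 h2
        obtain ⟨m, hm⟩ := hdiv
        have he : e.1 = r ^ K := by
          show g⁻¹ * r ^ K * g = r ^ K
          rw [hm, pow_mul, mul_assoc, ← ((show Commute g (r ^ (N / 2)) from hz g).pow_right m).eq, inv_mul_cancel_left]
        have he' : e = (⟨r, hr⟩ : H) ^ K := Subtype.ext (by rw [he]; simp)
        rw [he', map_pow]
      · -- inside `⟨r⟩`
        have hin : e.1 ∈ zpowers r := by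
          by_contra h; exact hbig (hout _ e.2 h)
        obtain ⟨m, hm⟩ : ∃ m : ℕ, r ^ m = e.1 := by
          rw [← mem_powers_iff_mem_zpowers] at hin
          exact hin
        have hg : Nat.gcd N m = Nat.gcd N K := by
          have h1 : orderOf (r ^ m) = orderOf (r ^ K) := by rw [hm, hord]
          rw [orderOf_pow, orderOf_pow, ← hN] at h1
          have hd1 : Nat.gcd N m ∣ N := Nat.gcd_dvd_left _ _
          have hd2 : Nat.gcd N K ∣ N := Nat.gcd_dvd_left _ _
          rw [← Nat.div_div_self hd1 hNpos.ne', h1, Nat.div_div_self hd2 hNpos.ne']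
        have hpar : m % 2 = K % 2 := by
          have h2N : 2 ∣ N := (show 2 ∣ 4 by norm_num).trans h4
          have hiff : (2 ∣ m) ↔ (2 ∣ K) := by
            constructor <;> intro hd
            · exact (hg ▸ Nat.dvd_gcd h2N hd : 2 ∣ Nat.gcd N K).trans (Nat.gcd_dvd_right _ _)
            · exact (hg.symm ▸ Nat.dvd_gcd h2N hd : 2 ∣ Nat.gcd N m).trans (Nat.gcd_dvd_right _ _)
          omega
        have he' : e = (⟨r, hr⟩ : H) ^ m := Subtype.ext (by rw [← hm]; simp)
        have hp : ∀ n : ℕ, c ^ n = c ^ (n % 2) := fun n => by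
          conv_lhs => rw [← Nat.mod_add_div n 2, pow_add, pow_mul, hc2, one_pow, mul_one]
        rw [he', map_pow, ← hc, hp m, hp (k q), hpar]
    rw [Finset.prod_congr rfl (fun q _ => hterm q), Finset.prod_pow_eq_pow_sum]
    have hsum : ∑ q, k q = H.index := by
      haveI := Fintype.ofFinite (Y ⧸ H)
      haveI hne : ∀ q : Quotient (orbitRel (zpowers r) (Y ⧸ H)),
          NeZero (Function.minimalPeriod (r • ·) q.out) := fun q =>
        ⟨(Function.IsPeriodicPt.minimalPeriod_pos (n := N) hNpos (by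
          show (r • ·)^[N] q.out = q.out
          rw [smul_iterate_apply, hrN, one_smul])).ne'⟩
      haveI := fun q : Quotient (orbitRel (zpowers r) (Y ⧸ H)) =>
        Fintype.ofFinite (ZMod (Function.minimalPeriod (r • ·) q.out))
      rw [index_eq_card, Nat.card_congr (Subgroup.quotientEquivSigmaZMod H r), Nat.card_sigma]
      exact Finset.sum_congr rfl fun q _ => (Nat.card_zmod _).symm
    obtain ⟨m, hm⟩ : Odd (∑ q, k q) := by
      rw [hsum]; exact Nat.not_even_iff_odd.1 fun he => P.not_dvd_index he.two_dvd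
    rw [hm, pow_add, pow_mul, hc2, one_pow, pow_one, one_mul]
  have h1 : v (g₀ * w * g₀⁻¹) = v w := by
    rw [map_mul, map_mul, map_inv, mul_comm (v g₀), mul_inv_cancel_right]
  rw [hg₀, map_mul, hvr] at h1
  exact hc1 (mul_eq_right.1 h1)

end Cfsg.Agent.TwoPointA5
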