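import Cfsg.Agent.Lib.TwoPointA5.Setting
import Cfsg.Agent.Lib.TwoPointA5.KleinShape
import Cfsg.Agent.Lib.OddOrderTheorem.Basic
import Cfsg.Agent.S0494

/-!
# Two-point stabiliser A₄ or A₅: the even degrees (owner: helper58)

* `even_cases` : the four possibilities for the degree and the order
-/

set_option autoImplicit false
set_option linter.style.haveILetI false
set_option linter.unusedSectionVars false

namespace Cfsg.Agent.TwoPointA5

open MulAction Subgroup

universe u v

/-- A group with simple normal subgroup of order 60 and trivial centraliser has order at most 120. -/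
theorem card_le_of_simple_sixty {Y : Type u} [Group Y] [Finite Y] (L : Subgroup Y) [L.Normal]
    [IsSimpleGroup L] (h : Nat.card L = 60) (hC : centralizer (L : Set Y) = ⊥) : Nat.card Y ≤ 120 := by
  obtain ⟨e⟩ := S0494.result h
  have hinj : Function.Injective (MulAut.conjNormal : Y →* MulAut L) := by
    rw [injective_iff_map_eq_one]
    intro g hg
    refine mem_bot.1 (hC ▸ mem_centralizer_iff.2 fun l hl => ?_)
    have := congrArg Subtype.val (DFunLike.congr_fun hg (⟨l, hl⟩ : L))
    rw [MulAut.conjNormal_apply, MulAut.one_apply] at this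
    exact (mul_inv_eq_iff_eq_mul.1 this).symm
  have h1 := Nat.card_le_card_of_injective _ hinj
  have h2 : Nat.card (MulAut L) = 120 := by
    rw [Nat.card_congr (MulAut.congr e).toEquiv,
      ← Nat.card_congr (Equiv.ofBijective _ (S2119.result 5 (by norm_num) (by norm_num))),
      Nat.card_eq_fintype_card, Fintype.card_perm, Fintype.card_fin]
    rfl
  omega

namespace Ctx

variable {G : Type u} {Ω : Type v} [Group G] [MulAction G Ω] [Finite G] [Finite Ω] {a b : Ω} {ι : ℕ} {i x : G}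
  (C : Ctx G Ω a b ι i x)
include C

theorem fixTwo_of_even (heven : Even (Nat.card Ω)) {u : G} (hu : orderOf u = 2) {p : Ω} (hp : u • p = p) :
    FixTwo Ω u := by
  by_contra hf
  have h1 := fixN_modEq (Φ := Ω) hu
  have h2 : fixN Ω u = 1 := by
    rw [fixN, Nat.card_eq_one_iff_exists]
    exact ⟨⟨p, hp⟩, fun q => Subtype.ext (by_contra fun hne => hf ⟨hu, q.1, p, hne, q.2, hp⟩)⟩
  rw [h2, Nat.ModEq, Nat.even_iff.1 heven] at h1
  norm_num at h1

theorem four_le_stab : pairFour a b i ≤ stabilizer G a := fun _ h => h.2.1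

/-- The part of the stabiliser of `a` normalising the four group and centralising `i`. -/
theorem card_cent_normalizer : Nat.card ↥(centralizer ({i} : Set G) ⊓
    normalizer (pairFour a b i : Set G) ⊓ stabilizer G a) = 4 * (fixV a b i - 1) := by
  set M := centralizer ({i} : Set G) ⊓ normalizer (pairFour a b i : Set G) ⊓ stabilizer G a
  set S := {p : Ω | ∀ v ∈ pairFour a b i, v • p = p} with hS
  have horb : orbit ↥M b = S \ {a} := by
    ext q
    constructor
    · rintro ⟨⟨c, ⟨hc, hcN⟩, hca⟩, rfl⟩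
      refine ⟨fun v hv => ?_, fun e => C.ne.symm (smul_left_cancel c
        ((e : c • b = a).trans (mem_stabilizer_iff.1 hca).symm))⟩
      have := mem_stabilizer_iff.1 ((mem_normalizer_iff''.1 hcN v).1 hv).2.2
      rw [mul_smul, mul_smul, inv_smul_eq_iff] at this
      exact this
    · rintro ⟨hq, hqa⟩
      obtain ⟨g, hg, hgN, hga, hgb⟩ := C.sigma_pairs (p := a) (q := q) (Ne.symm hqa)
        (fun v hv => mem_stabilizer_iff.1 hv.2.1) hq
      exact ⟨⟨g, ⟨mem_centralizer_singleton_iff.2 hg, hgN⟩, hga⟩, hgb⟩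
  rw [← (stabilizer ↥M b).card_mul_index, index_stabilizer, horb,
    Set.ncard_diff_singleton_of_mem (show a ∈ S from fun v hv => mem_stabilizer_iff.1 hv.2.1), fixV,
    Nat.card_coe_set_eq]
  congr 1
  rw [← C.card_four]
  refine Nat.card_congr ⟨fun c => ⟨c.1.1, c.1.2.1.1, c.1.2.2, c.2⟩,
    fun c => ⟨⟨c.1, ⟨c.2.1, le_normalizer c.2⟩, c.2.2.1⟩, c.2.2.2⟩, fun _ => rfl, fun _ => rfl⟩

/-- The Klein shape of the stabiliser in even degree. -/
theorem even_params [FaithfulSMul G Ω] (heven : Even (Nat.card Ω)) :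
    ∃ (a' e δ ov : ℕ) (ε : ℤ), Odd a' ∧ Odd e ∧ Odd δ ∧ Odd ov ∧ (ε = 1 ∨ ε = -1) ∧
      fixN Ω i - 1 = a' * e * (δ * ov) ∧ fixV a b i - 1 = e * ov ∧
      ((ι : ℤ) + swapN G a b * fixN Ω i = (δ : ℤ) ^ 2 * ((4 * a' + ε) * (2 * a' + ε))) ∧
      Nat.card ↥(Cfsg.oddCore ↥(stabilizer G a)) = δ ^ 3 * ov ∧ Shape ↥(stabilizer G a) a' e ε := by
  haveI : Fact (Nat.Prime 2) := ⟨Nat.prime_two⟩
  set X := stabilizer G a with hX
  set V := (pairFour a b i).subgroupOf X with hV
  have h4 : Nat.card V = 4 := by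
    rw [Nat.card_congr (subgroupOfEquivOfLe C.four_le_stab).toEquiv, C.card_four]
  have hn : 2 ≤ Nat.card Ω := le_trans C.conjI.two_le_fixN C.conjI.fixN_le
  have h8 : ¬ 8 ∣ Nat.card X := by
    rw [C.card_stab']
    have hodd : Odd (ι * (Nat.card Ω - 1)) := by
      refine Nat.odd_mul.2 ⟨?_, Nat.Even.sub_odd (by omega) heven odd_one⟩
      rcases C.kd.iota with h | h <;> rw [h] <;> decide
    rintro ⟨k, hk⟩
    obtain ⟨m, hm⟩ := hodd
    rw [mul_assoc, hm] at hk
    omega
  have hconj : ∀ u v : X, orderOf u = 2 → orderOf v = 2 → ∃ g : X, g * u * g⁻¹ = v := by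
    intro u v hu hv
    have hu' : FixTwo Ω (u : G) := C.fixTwo_of_even heven ((Subgroup.orderOf_coe u).trans hu)
      (mem_stabilizer_iff.1 u.2)
    have hv' : FixTwo Ω (v : G) := C.fixTwo_of_even heven ((Subgroup.orderOf_coe v).trans hv)
      (mem_stabilizer_iff.1 v.2)
    obtain ⟨g, hga, hg⟩ := C.conjI.conj_in_stab hu' (mem_stabilizer_iff.1 u.2)
    obtain ⟨h, hha, hh⟩ := C.conjI.conj_in_stab hv' (mem_stabilizer_iff.1 v.2)
    refine ⟨⟨h, hha⟩ * ⟨g, hga⟩⁻¹, Subtype.ext ?_⟩
    simp only [Subgroup.coe_mul, Subgroup.coe_inv]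
    rw [← hh, ← hg]; group
  have hxN : (⟨x, C.xa⟩ : X) ∈ normalizer (V : Set X) := by
    rw [mem_normalizer_iff]
    intro v
    simp only [hV, mem_subgroupOf, Subgroup.coe_mul, Subgroup.coe_inv]
    exact mem_normalizer_iff.1 C.x_mem_normalizer v.1
  have hxi : (⟨x, C.xa⟩ : X) * ⟨i, C.ia⟩ * (⟨x, C.xa⟩ : X)⁻¹ ≠ ⟨i, C.ia⟩ := fun e =>
    C.xne (congrArg Subtype.val e)
  have hexp : ∀ v ∈ V, v * v = 1 := fun v hv => Subtype.ext (C.four_sq hv)
  obtain ⟨a', e, δ, ov, ε, ha, he, hδ, hov, hε, hci, hcv, hcard, hO, hshape⟩ :=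
    kleinShape V h4 hexp h8 hconj (i := ⟨i, C.ia⟩) C.i_mem_four (by rw [← Subgroup.orderOf_coe]; exact C.ord) hxN hxi
  have hci' : Nat.card ↥(centralizer ({(⟨i, C.ia⟩ : X)} : Set X)) = 4 * (fixN Ω i - 1) := by
    rw [← C.card_cent_stab]
    refine Nat.card_congr ⟨fun c => ⟨c.1.1, mem_centralizer_singleton_iff.2
        (congrArg Subtype.val (mem_centralizer_singleton_iff.1 c.2)), c.1.2⟩,
      fun c => ⟨⟨c.1, c.2.2⟩, mem_centralizer_singleton_iff.2
        (Subtype.ext (mem_centralizer_singleton_iff.1 c.2.1))⟩, fun _ => rfl, fun _ => rfl⟩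
  have hf1 : fixN Ω i - 1 = a' * e * (δ * ov) := by
    rw [hci'] at hci; omega
  -- the centraliser of the four group
  set M := (centralizer ({i} : Set G) ⊓ normalizer (pairFour a b i : Set G)).subgroupOf X with hM
  have hMcard : Nat.card M = 4 * (fixV a b i - 1) := by
    rw [← C.card_cent_normalizer]
    exact Nat.card_congr ⟨fun c => ⟨c.1.1, c.2, c.1.2⟩, fun c => ⟨⟨c.1, c.2.2⟩, c.2.1⟩, fun _ => rfl, fun _ => rfl⟩
  have hCM : centralizer (V : Set X) ≤ M := by
    intro c hc
    have hcomm : ∀ v ∈ pairFour a b i, v * c.1 = c.1 * v := fun v hv =>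
      congrArg Subtype.val (mem_centralizer_iff.1 hc ⟨v, C.four_le_stab hv⟩ hv)
    exact ⟨mem_centralizer_singleton_iff.2 (hcomm i C.i_mem_four).symm,
      centralizer_le_normalizer _ (mem_centralizer_iff.2 hcomm)⟩
  have hMN : M ≤ normalizer (V : Set X) := by
    intro c hc
    rw [mem_normalizer_iff]
    intro v
    simp only [hV, mem_subgroupOf, Subgroup.coe_mul, Subgroup.coe_inv]
    exact mem_normalizer_iff.1 hc.2 v.1
  have hxc : (⟨x, C.xa⟩ : X) ∉ centralizer (V : Set X) := fun hc =>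
    hxi (mul_inv_eq_iff_eq_mul.2 (mem_centralizer_iff.1 hc (⟨i, C.ia⟩ : X) C.i_mem_four).symm)
  have hN := card_normalizer_klein_sylow V h4 hexp h8 hxN hxc
  have hs1 : fixV a b i - 1 = e * ov := by
    have hne : Nat.card M ≠ Nat.card ↥(normalizer (V : Set X)) := fun h => by
      have hxM : (⟨x, C.xa⟩ : X) ∈ M := (eq_of_le_of_card_ge hMN h.ge).symm ▸ hxN
      exact C.xne (mul_inv_eq_iff_eq_mul.2 (mem_centralizer_singleton_iff.1 hxM.1))
    obtain ⟨k, hk⟩ := card_dvd_of_le hCM
    have hdvd := card_dvd_of_le hMN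
    rw [hN, hk, mul_comm 3] at hdvd
    have hk1 : k = 1 := by
      rcases (Nat.dvd_prime Nat.prime_three).1 ((Nat.mul_dvd_mul_iff_left Nat.card_pos).1 hdvd) with h | h
      · exact h
      · exact absurd (by rw [hk, hN, h, mul_comm]) hne
    rw [hMcard, hk1, mul_one, hcv] at hk
    omega
  refine ⟨a', e, δ, ov, ε, ha, he, hδ, hov, hε, hf1, hs1, ?_, hO, hshape⟩
  have hf2 := C.conjI.two_le_fixN
  rw [C.card_stab, hci'] at hcard
  push_cast at hcard
  exact mul_left_cancel₀ (mul_ne_zero (by norm_num) (by exact_mod_cast (by omega : fixN Ω i - 1 ≠ 0))) hcard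

/-- **The even degrees.** -/
theorem even_cases [FaithfulSMul G Ω] (heven : Even (Nat.card Ω)) :
    (ι = 3 ∧ Nat.card Ω = 6 ∧ Nat.card G = 360) ∨
    (ι = 3 ∧ Nat.card Ω = 16 ∧ Nat.card G = 2880 ∧ Nat.card ↥(Cfsg.oddCore ↥(stabilizer G a)) = 3 ∧
      IsSimpleGroup (↥(stabilizer G a) ⧸ Cfsg.oddCore ↥(stabilizer G a))) ∨
    (ι = 15 ∧ Nat.card Ω = 12 ∧ Nat.card G = 7920 ∧ IsSimpleGroup ↥(stabilizer G a)) ∨
    (ι = 3 ∧ Nat.card Ω = 28 ∧ Nat.card G = 9072) := by
  obtain ⟨a', e, δ, ov, ε, ha, he, hδ, hov, hε, hf1, hs1, hw, hO, hshape⟩ := C.even_params heven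
  have hadm := C.admPair
  have hcount := C.count
  have hf2 := C.conjI.two_le_fixN
  have hfn := C.conjI.fixN_le
  have hs2 := C.two_le_fixV
  have hsf := C.fixV_le
  have hfpar : Even (fixN Ω i) := Nat.even_iff.2 (C.fix_parity.trans (Nat.even_iff.1 heven))
  have hcard := C.card_group
  rw [C.card_stab'] at hcard
  rcases lt_or_eq_of_le hsf with hlt | heq
  · -- the four group fixes fewer points
    obtain ⟨k, hk, hfs⟩ := C.fix_sub_eq hlt
    obtain ⟨s', hs'⟩ : ∃ s', fixV a b i = s' + 1 := ⟨fixV a b i - 1, by omega⟩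
    have hform : (a' * δ = fixV a b i + 1 ∧ fixN Ω i = fixV a b i * fixV a b i) ∨
        (a' * δ = 2 * fixV a b i + 1 ∧ fixN Ω i + fixV a b i = 2 * fixV a b i * fixV a b i) := by
      have hu : fixN Ω i - 1 = a' * δ * (fixV a b i - 1) := by rw [hf1, hs1]; ring
      have hpos : 0 < fixV a b i - 1 := by omega
      rcases hk with rfl | rfl
      · left
        have hf : fixN Ω i = fixV a b i * fixV a b i := by
          rw [hs'] at hfs ⊢
          rw [one_mul, Nat.add_sub_cancel] at hfs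
          have : (s' + 1) * (s' + 1) = (s' + 1) * s' + (s' + 1) := by ring
          omega
        refine ⟨Nat.eq_of_mul_eq_mul_right hpos ?_, hf⟩
        rw [← hu, hf, hs', Nat.add_sub_cancel]
        have : (s' + 1) * (s' + 1) = (s' + 1 + 1) * s' + 1 := by ring
        omega
      · right
        have hf : fixN Ω i + fixV a b i = 2 * fixV a b i * fixV a b i := by
          rw [hs'] at hfs ⊢
          rw [Nat.add_sub_cancel] at hfs
          have : 2 * (s' + 1) * (s' + 1) = 2 * ((s' + 1) * s') + (s' + 1) + (s' + 1) := by ring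
          omega
        refine ⟨Nat.eq_of_mul_eq_mul_right hpos ?_, hf⟩
        rw [← hu, hs', Nat.add_sub_cancel]
        rw [hs'] at hf
        have : 2 * (s' + 1) * (s' + 1) = (2 * (s' + 1) + 1) * s' + 1 + (s' + 1) := by ring
        omega
    have hse : Even (fixV a b i) := by
      rcases hform with ⟨-, h⟩ | ⟨-, h⟩
      · rw [h] at hfpar; exact (Nat.even_mul.1 hfpar).elim id id
      · have : Even (fixN Ω i + fixV a b i) := by rw [h, mul_assoc]; exact even_two_mul _
        exact (Nat.even_add.1 this).1 hfpar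
    obtain ⟨p, l, hp, hl, hpl⟩ := (isPrimePow_nat_iff _).1 C.isPrimePow_fixV
    obtain rfl : p = 2 := by
      rw [← hpl] at hse
      have := (Nat.even_pow.1 hse).1
      exact ((Nat.prime_dvd_prime_iff_eq Nat.prime_two hp).1 this.two_dvd).symm
    have hA4 : ι = 15 → ¬ (a' = 1 ∧ ε = -1) := by
      rintro h15 ⟨h1, h2⟩
      rcases hshape with ⟨-, -, -, h12⟩ | ⟨h, -⟩
      · apply C.kd.notSolvable h15
        haveI : Group.IsSolvable (↥(stabilizer G a) ⧸ Cfsg.oddCore ↥(stabilizer G a)) :=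
          CharApp.isSolvable_of_card_eq_prime_pow_mul 2 3 Nat.prime_two Nat.prime_three _ _ rfl 2 1 (by rw [h12]; rfl)
        haveI : Group.IsSolvable ↥(Cfsg.oddCore ↥(stabilizer G a)) :=
          OddOrderTheorem.solvable (Nat.coprime_two_right.1 (Cores.coprime_card_pPrimeCore 2))
        haveI : Group.IsSolvable ↥(stabilizer G a) :=
          Group.isSolvable_of_ker_le_range (Cfsg.oddCore ↥(stabilizer G a)).subtype
            (QuotientGroup.mk' (Cfsg.oddCore ↥(stabilizer G a)))
            (by rw [QuotientGroup.ker_mk', Subgroup.range_subtype])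
        exact Group.isSolvable_of_isSolvable_injective (f := Subgroup.inclusion inf_le_left)
          (Subgroup.inclusion_injective inf_le_left)
      · have := h h1; omega
    obtain ⟨hs, hf, -, h⟩ := even_caseB hadm ha hδ hε hl hpl.symm hform hA4 (by exact_mod_cast hw)
    rw [hs] at hs1
    have heov : e = 1 ∧ ov = 1 := mul_eq_one.1 (by omega)
    rcases h with ⟨rfl, hd, rfl, rfl⟩ | ⟨rfl, hd, rfl, rfl⟩ <;> rw [hd, hf] at hcount
    · have hn : Nat.card Ω = 28 := by omega
      refine Or.inr (Or.inr (Or.inr ⟨rfl, hn, ?_⟩))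
      rw [hcard, hn]
    · have hn : Nat.card Ω = 12 := by omega
      refine Or.inr (Or.inr (Or.inl ⟨rfl, hn, by rw [hcard, hn], ?_⟩))
      rcases hshape with ⟨h, -⟩ | ⟨-, L, hLn, hLs, -, -, hLe, -⟩
      · omega
      haveI := hLs
      have htop : L = ⊤ := eq_top_of_card_eq L (by rw [← hLe, heov.1, mul_one])
      haveI : IsSimpleGroup (↥(stabilizer G a) ⧸ Cfsg.oddCore ↥(stabilizer G a)) :=
        ((MulEquiv.subgroupCongr htop).trans Subgroup.topEquiv).isSimpleGroup_congr.1 hLs
      haveI : (Cfsg.oddCore ↥(stabilizer G a)).Normal := Cores.pPrimeCore_normal 2 _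
      have hbot : Cfsg.oddCore ↥(stabilizer G a) = ⊥ := eq_bot_of_card_eq _ (by rw [hO, heov.2]; rfl)
      exact (((QuotientGroup.quotientMulEquivOfEq hbot).trans QuotientGroup.quotientBot).isSimpleGroup_congr).1
        inferInstance
  · -- the four group fixes all fixed points
    have hu : a' * δ = 1 := by
      have h : fixN Ω i - 1 = a' * δ * (fixV a b i - 1) := by rw [hf1, hs1]; ring
      rw [heq] at h
      exact (Nat.eq_of_mul_eq_mul_right (by omega) ((one_mul _).trans h)).symm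
    obtain ⟨rfl, rfl, rfl, rfl, hdf⟩ := even_caseA hadm hf2 hfpar hu hε (by exact_mod_cast hw)
    rcases hdf with ⟨hd, hf⟩ | ⟨hd, hf⟩ | ⟨hd, hf⟩ <;> rw [hd, hf] at hcount
    · have hn : Nat.card Ω = 6 := by omega
      exact Or.inl ⟨rfl, hn, by rw [hcard, hn]⟩
    · have hn : Nat.card Ω = 16 := by omega
      rcases hshape with ⟨-, h, -⟩ | ⟨-, L, hLn, hLs, -, hLC, hLe, hLc⟩
      · norm_num at h
      haveI := hLn
      haveI := hLs
      have h60 : Nat.card L = 60 := by norm_num at hLc; exact_mod_cast hLc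
      have hle := card_le_of_simple_sixty L h60 hLC
      rw [← hLe, h60] at hle
      have he1 : e = 1 := by
        obtain ⟨k, hk⟩ := he
        omega
      subst he1
      have htop : L = ⊤ := eq_top_of_card_eq L (by rw [← hLe, mul_one])
      refine Or.inr (Or.inl ⟨rfl, hn, by rw [hcard, hn], ?_,
        ((MulEquiv.subgroupCongr htop).trans Subgroup.topEquiv).isSimpleGroup_congr.1 hLs⟩)
      rw [heq, hf] at hs1
      rw [hO]
      omega
    · exfalso
      have := C.isPrimePow_fixV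
      rw [heq, hf] at this
      exact absurd this (by
        rw [isPrimePow_nat_iff_bounded_log]
        decide)

end Ctx

end Cfsg.Agent.TwoPointA5
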