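import Cfsg.Agent.Lib.TwoPointA5.Level
import Cfsg.Agent.Lib.ZStar.Glauberman
import Cfsg.Agent.Lib.ZStar.Unique
import Cfsg.Agent.Lib.Constrained.Basic
import Cfsg.Agent.Lib.Cores.Basic
import Cfsg.Agent.Lib.Cores.Subnormal
import Cfsg.Agent.Lib.Perm.Burnside
import Cfsg.Agent.Lib.OddOrderTheorem.Basic

/-!
# Two-point stabiliser A₄ or A₅: odd degree with involutions fixing one point (owner: helper58)

* `lam_one_conclusion` : one such involution per point gives `G = C(J) O(G)`
* `lam_one_false` : which is impossible without regular normal subgroup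
* `swap_ne_one` : `d ≠ 1`
-/

set_option autoImplicit false
set_option linter.style.haveILetI false
set_option linter.unusedSectionVars false

namespace Cfsg.Agent.TwoPointA5

open MulAction Subgroup

universe u v

namespace Ctx

variable {G : Type u} {Ω : Type v} [Group G] [MulAction G Ω] [Finite G] [Finite Ω] {a b : Ω} {ι : ℕ} {i x : G}
  (C : Ctx G Ω a b ι i x)
include C

theorem exists_unique_single (hodd : Odd (Nat.card Ω)) (hlam : lamN G a b = 1) :
    ∃ J : G, orderOf J = 2 ∧ J • a = a ∧ (∀ p : Ω, J • p = p → p = a) ∧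
      ∀ u : G, orderOf u = 2 → u • a = a → (∀ p : Ω, u • p = p → p = a) → u = J := by
  have h := single_count C.ne C.t2 hodd
  rw [← lamN, hlam, Set.ncard_eq_one] at h
  obtain ⟨J, hJ⟩ := h
  obtain ⟨h1, h2, h3⟩ := (Set.ext_iff.1 hJ J).2 rfl
  refine ⟨J, h1, h3, fun p hp => by_contra fun hne => h2 ⟨h1, p, a, hne, hp, h3⟩, fun u hu hua hu1 => ?_⟩
  exact (Set.ext_iff.1 hJ u).1 ⟨hu, fun ⟨_, p, q, hpq, hp, hq⟩ => hpq ((hu1 p hp).trans (hu1 q hq).symm), hua⟩

theorem exists_smul_eq' (p : Ω) : ∃ g : G, g • a = p := by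
  by_cases h : a = p
  · exact ⟨1, by rw [one_smul, h]⟩
  · obtain ⟨g, hg, -⟩ := C.t2 a b p a C.ne (Ne.symm h)
    exact ⟨g, hg⟩

theorem exists_isolated (hodd : Odd (Nat.card Ω)) (hlam : lamN G a b = 1) :
    ∃ J : G, IsIsolatedInvolution J ∧ J • a = a ∧ ∀ p : Ω, J • p = p → p = a := by
  haveI : Fact (Nat.Prime 2) := ⟨Nat.prime_two⟩
  obtain ⟨J, hJ, hJa, hJ1, huniq⟩ := C.exists_unique_single hodd hlam
  refine ⟨J, ?_, hJa, hJ1⟩
  have hstab : ∀ g : G, (g * J * g⁻¹) • a = a → g * J * g⁻¹ = J := by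
    intro g hg
    refine huniq _ ((orderOf_injective (MulAut.conj g).toMonoidHom (MulAut.conj g).injective J).trans hJ) hg
      fun p hp => ?_
    rw [conj_smul_iff] at hp hg
    exact smul_left_cancel g⁻¹ ((hJ1 _ hp).trans (hJ1 _ hg).symm)
  -- a Sylow subgroup inside the stabiliser
  let H := stabilizer G a
  obtain ⟨T, hT⟩ := (IsPGroup.of_card (G := zpowers (⟨J, hJa⟩ : H)) (n := 1) (p := 2) (by
    rw [Nat.card_zpowers, ← Subgroup.orderOf_coe, pow_one]; exact hJ)).exists_le_sylow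
  have hidx : ¬ 2 ∣ ((T : Subgroup H).map H.subtype).index := by
    rw [index_map_subtype, C.conjI.index_stab_eq, Nat.prime_two.dvd_mul]
    rintro (h | h)
    · exact T.not_dvd_index h
    · exact Nat.not_even_iff_odd.2 hodd (even_iff_two_dvd.2 h)
  let P : Sylow 2 G := (T.isPGroup'.map H.subtype).toSylow hidx
  refine ZStar.isolated_of_sylow P hJ ⟨⟨J, hJa⟩, hT (mem_zpowers _), rfl⟩ fun g hg => hstab g ?_
  obtain ⟨w, -, hw⟩ := hg
  rw [← hw]; exact mem_stabilizer_iff.1 w.2

/-- **One involution per point with one fixed point.** -/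
theorem lam_one_conclusion (hodd : Odd (Nat.card Ω)) (hlam : lamN G a b = 1) :
    ∃ J : G, orderOf J = 2 ∧ centralizer ({J} : Set G) ⊔ Cfsg.oddCore G = ⊤ := by
  haveI : Fact (Nat.Prime 2) := ⟨Nat.prime_two⟩
  obtain ⟨J, hiso, -, -⟩ := C.exists_isolated hodd hlam
  refine ⟨J, hiso.1, eq_top_iff.2 fun g _ => ?_⟩
  haveI : (Cfsg.oddCore G).Normal := Cores.pPrimeCore_normal 2 G
  have hO : Odd (Nat.card ↥(Cfsg.oddCore G)) := Nat.coprime_two_right.1 (Cores.coprime_card_pPrimeCore 2)
  have hc : ∀ k : ℤ, g * J ^ k * g⁻¹ * (J ^ k)⁻¹ ∈ Cfsg.oddCore G := by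
    have h1 := ZStar.zStar_of_brauerSuzuki ZStar.uniqueInvolution hiso g
    have hcomm : Commute (g : G ⧸ Cfsg.oddCore G) (J : G ⧸ Cfsg.oddCore G) := by
      have h2 := (QuotientGroup.eq_one_iff (N := Cfsg.oddCore G) _).2 h1
      simp only [QuotientGroup.mk_mul, QuotientGroup.mk_inv] at h2
      rw [mul_inv_eq_one, mul_inv_eq_iff_eq_mul] at h2
      exact h2.symm
    intro k
    rw [← QuotientGroup.eq_one_iff]
    simp only [QuotientGroup.mk_mul, QuotientGroup.mk_inv, QuotientGroup.mk_zpow]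
    rw [(hcomm.zpow_right k).eq, mul_inv_cancel_right, mul_inv_cancel]
  obtain ⟨o, ho, hog⟩ := Constrained.exists_mul_mem_centralizer (p := 2) (O := Cfsg.oddCore G) (T := zpowers J)
    (fun h => Nat.not_even_iff_odd.2 hO (even_iff_two_dvd.2 h))
    (IsPGroup.of_card (n := 1) (by rw [Nat.card_zpowers, hiso.1, pow_one])) (x := g) (fun u hu => by
      obtain ⟨k, rfl⟩ := mem_zpowers_iff.1 hu
      exact hc k)
  rw [show g = o⁻¹ * (o * g) by group]
  refine mul_mem (mem_sup_right (inv_mem ho)) (mem_sup_left (mem_centralizer_iff.2 ?_))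
  rintro _ rfl
  exact mem_centralizer_iff.1 hog _ (mem_zpowers _)

/-- Without regular normal subgroup there is no such configuration. -/
theorem lam_one_false [FaithfulSMul G Ω]
    (hnr : ∀ N : Subgroup G, N.Normal → IsPretransitive ↥N Ω → (∀ p : Ω, stabilizer ↥N p = ⊥) → False)
    (hodd : Odd (Nat.card Ω)) (hlam : lamN G a b = 1) : False := by
  obtain ⟨J, hiso, hJa, hJ1⟩ := C.exists_isolated hodd hlam
  haveI : (Cfsg.oddCore G).Normal := Cores.pPrimeCore_normal 2 G
  by_cases hO : Cfsg.oddCore G = ⊥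
  · obtain ⟨g, hg⟩ := C.exists_smul_eq' b
    have h1 := ZStar.zStar_of_brauerSuzuki ZStar.uniqueInvolution hiso g
    rw [show Cfsg.pPrimeCore 2 G = ⊥ from hO, mem_bot] at h1
    have h2 : J * g = g * J := by rwa [mul_inv_eq_one, mul_inv_eq_iff_eq_mul] at h1
    have h3 : J • b = b := by rw [← hg, ← mul_smul, h2, mul_smul, hJa]
    exact C.ne (hJ1 b h3).symm
  · obtain ⟨N, hNn, hN0, hNle, hmin⟩ := Solvable.exists_minimal_normal hO
    haveI := hNn
    have hNodd : Odd (Nat.card N) :=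
      (Nat.coprime_two_right.1 (Cores.coprime_card_pPrimeCore (G := G) 2)).of_dvd_nat (card_dvd_of_le hNle)
    haveI := OddOrderTheorem.solvable hNodd
    have h2 : IsMultiplyPretransitive G Ω 2 := is_two_pretransitive_iff.2 fun {p q p' q'} => C.t2 p q p' q'
    haveI := isPreprimitive_of_is_two_pretransitive h2
    have hNt : IsPretransitive N Ω := Perm.isPretransitive_of_normal_ne_bot hN0
    rcases Perm.burnside_minimal_normal h2 hN0 hmin with ⟨-, -, hstab⟩ | ⟨hs, -, hstab⟩
    · exact hnr N hNn hNt hstab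
    · haveI := hs
      have hcomm := IsSimpleGroup.comm_iff_isSolvable.2 (inferInstance : Group.IsSolvable N)
      refine hstab a ((eq_bot_iff_forall _).2 fun m hm => Subtype.ext ?_)
      refine eq_of_smul_eq_smul (α := Ω) fun p => ?_
      obtain ⟨k, hk⟩ := MulAction.exists_smul_eq N a p
      rw [OneMemClass.coe_one, one_smul, ← hk]
      show m • k • a = k • a
      rw [← mul_smul, hcomm m k, mul_smul, mem_stabilizer_iff.1 hm]

/-- An involution with two fixed points interchanging `a` and `b` and centralising their stabiliser is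
accompanied by another one. -/
theorem swap_ne_one [FaithfulSMul G Ω] (hodd : Odd (Nat.card Ω)) : swapN G a b ≠ 1 := by
  intro hd
  rcases C.swap_cases with ⟨h, -⟩ | ⟨z, hz, hza, hzb, hzc, ⟨h, -⟩ | ⟨h, -⟩ | ⟨-, -, hfz, hno⟩⟩
  · rcases C.kd.iota with e | e <;> simp [e, hd] at h
  · have := C.iota_pos; omega
  · have := C.iota_pos; omega
  have hfodd : Odd (fixN Ω i) := Nat.odd_iff.2 (C.fix_parity.trans (Nat.odd_iff.1 hodd))
  have hVK : ∀ v ∈ pairFour a b i, v ∈ stabilizer G a ⊓ stabilizer G b := fun v hv => hv.2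
  set j := x * i * x⁻¹ with hj
  have hjV : j ∈ pairFour a b i := C.xnorm i C.i_mem_four
  have hjo : orderOf j = 2 := (orderOf_injective (MulAut.conj x).toMonoidHom (MulAut.conj x).injective i).trans C.ord
  have hzz : z * z = 1 := (orderOf_two_iff.1 hz).2
  have hzi : z * i = i * z := hzc i C.imem
  -- `z i` has one fixed point `p₀`
  have hinv : ∀ v ∈ pairFour a b i, v ≠ 1 → orderOf (z * v) = 2 := by
    intro v hv hv1
    refine orderOf_two_iff.2 ⟨fun e => ?_, ?_⟩
    · have : z = v⁻¹ := eq_inv_of_mul_eq_one_left e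
      have h1 : z • a = a := by rw [this, inv_smul_eq_iff, mem_stabilizer_iff.1 hv.2.1]
      exact C.ne (h1.symm.trans hza)
    · calc z * v * (z * v) = z * (v * z) * v := by group
        _ = 1 := by rw [← hzc v (hVK v hv), ← mul_assoc, hzz, one_mul, C.four_sq hv]
  obtain ⟨⟨p₀, hp₀⟩, huniq⟩ := Nat.card_eq_one_iff_exists.1
    (fixN_eq_one hodd (hinv i C.i_mem_four C.i_ne_one) (hno i C.imem C.ord) : fixN Ω (z * i) = 1)
  have hp₀' : (z * i) • p₀ = p₀ := hp₀
  have honly : ∀ p : Ω, (z * i) • p = p → p = p₀ := fun p hp => congrArg Subtype.val (huniq ⟨p, hp⟩)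
  have hip : i • p₀ = p₀ := honly _ (by
    rw [← mul_smul, show z * i * i = i * (z * i) by rw [← mul_assoc, ← hzi], mul_smul, hp₀'])
  have hzp : z • p₀ = p₀ := by
    have := hp₀'; rwa [mul_smul, hip] at this
  have hzF : SingleOn i z p₀ := ⟨hzi, hip, hzp, fun q _ => sq_smul hz q, fun q hq hzq => honly q (by
    rw [mul_smul, hq, hzq])⟩
  have hjc : z * i * (z * j) = z * j * (z * i) := by
    calc z * i * (z * j) = z * (i * z) * j := by group
      _ = z * z * (i * j) := by rw [← hzi]; group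
      _ = z * z * (j * i) := by rw [C.four_comm C.i_mem_four hjV]
      _ = z * (z * j) * i := by group
      _ = z * (j * z) * i := by rw [hzc j (hVK j hjV)]
      _ = z * j * (z * i) := by group
  have hj1 : j ≠ 1 := (orderOf_two_iff.1 hjo).1
  have hzjp : (z * j) • p₀ = p₀ := honly _ (by rw [← mul_smul, hjc, mul_smul, hp₀'])
  have hjp : j • p₀ = p₀ := by
    have := hzjp; rw [mul_smul, smul_eq_iff_eq_inv_smul, inv_smul_self_iff z p₀ |>.2 hzp] at this
    exact this
  have hzjonly : ∀ p : Ω, (z * j) • p = p → p = p₀ := by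
    obtain ⟨⟨w, hw⟩, huw⟩ := Nat.card_eq_one_iff_exists.1
      (fixN_eq_one hodd (hinv j hjV hj1) (hno j (hVK j hjV) hjo) : fixN Ω (z * j) = 1)
    intro p hp
    exact (congrArg Subtype.val (huw ⟨p, hp⟩)).trans (congrArg Subtype.val (huw ⟨p₀, hzjp⟩)).symm
  have hzjcomm : z * j * i = i * (z * j) := by
    rw [mul_assoc, ← C.four_comm C.i_mem_four hjV, ← mul_assoc, hzi, mul_assoc]
  rcases lt_or_eq_of_le C.fixV_le with hlt | heq
  · -- `z` and `z j` induce the same involution on the fixed points of `i`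
    have hzjF : SingleOn i (z * j) p₀ :=
      ⟨hzjcomm, hip, hzjp, fun q _ => sq_smul (hinv j hjV hj1) q, fun q _ hq => hzjonly q hq⟩
    obtain ⟨q, hq, hmove⟩ := C.four_moves hlt
    have := C.single_agree hfodd hzF hzjF hq
    rw [mul_smul, smul_left_cancel_iff] at this
    exact hmove this.symm
  · -- some involution of the four group fixes all fixed points of `z`
    obtain ⟨p₁, hp₁, hne⟩ : ∃ p₁, z • p₁ = p₁ ∧ p₀ ≠ p₁ := by
      obtain ⟨-, p, q, hpq, hp, hq⟩ := hfz
      by_cases h : p₀ = p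
      · exact ⟨q, hq, h ▸ hpq⟩
      · exact ⟨p, hp, h⟩
    obtain ⟨y, C'⟩ := C.exists_ctx_at hz hne hzp hp₁
    have heq' : fixV p₀ p₁ z = fixN Ω z := by
      rw [C.fixV_eq hz hne hzp hp₁, heq, C.conjI.fixN_eq hfz]
    have hfodd' : Odd (fixN Ω z) := by rwa [C.conjI.fixN_eq hfz]
    have hkey : ∀ v ∈ pairFour a b i, v ≠ 1 → v • p₀ = p₀ →
        SingleOn z v p₀ ∨ (∀ q : Ω, z • q = q → v • q = q) := by
      intro v hv hv1 hvp
      rcases C'.trivial_or_only heq' (hzc v (hVK v hv)).symm hzp hvp with h | h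
      · exact Or.inr h
      · exact Or.inl ⟨(hzc v (hVK v hv)).symm, hzp, hvp, fun q _ => by rw [← mul_smul, C.four_sq hv, one_smul], h⟩
    have hbad : ∀ v ∈ pairFour a b i, orderOf v = 2 → (∀ q : Ω, z • q = q → v • q = q) → False := by
      intro v hv hvo h
      refine hno v (hVK v hv) hvo ⟨hinv v hv (orderOf_two_iff.1 hvo).1, p₀, p₁, hne, ?_, ?_⟩
      · rw [mul_smul, h p₀ hzp, hzp]
      · rw [mul_smul, h p₁ hp₁, hp₁]
    rcases hkey i C.i_mem_four C.i_ne_one hip with hi' | hi'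
    · rcases hkey j hjV hj1 hjp with hj' | hj'
      · refine hbad (i * j) (mul_mem C.i_mem_four hjV) (orderOf_two_iff.2 ⟨fun e => C.xne ?_,
          C.four_sq (mul_mem C.i_mem_four hjV)⟩) fun q hq => ?_
        · rw [← hj]
          exact mul_left_cancel (a := i) (e.trans (C.four_sq C.i_mem_four).symm)
        · rw [mul_smul, ← C'.single_agree hfodd' hi' hj' hq, ← mul_smul, C.four_sq C.i_mem_four, one_smul]
      · exact hbad j hjV hjo hj'
    · exact hbad i C.i_mem_four C.ord hi'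

end Ctx

end Cfsg.Agent.TwoPointA5
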