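import Cfsg.Agent.Lib.TwoPointA5.OddB1
import Cfsg.Agent.Lib.TwoPointA5.KleinShape
import Cfsg.Agent.Lib.TwoPointA5.Even

/-!
# Two-point stabiliser A₄ or A₅: odd degree, all involutions of the induced group fix two points (owner: helper58)

* `oddB2_false` : `f + s = 2 s²` is impossible
-/

set_option autoImplicit false
set_option linter.style.haveILetI false
set_option linter.unusedSectionVars false

namespace Cfsg.Agent.TwoPointA5

open MulAction Subgroup

universe u v

/-- An element whose `2`-power lies in `E` lies in `E` if the square roots of `E` in `T` do. -/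
theorem mem_of_pow_two_pow {G : Type u} [Group G] {T E : Subgroup G}
    (h : ∀ g ∈ T, g * g ∈ E → g ∈ E) : ∀ (k : ℕ) (g : G), g ∈ T → g ^ 2 ^ k ∈ E → g ∈ E := by
  intro k
  induction k with
  | zero => intro g _ hk; rwa [pow_zero, pow_one] at hk
  | succ k ih =>
    intro g hg hk
    exact h g hg (ih (g * g) (mul_mem hg hg) (by rw [← pow_two, ← pow_mul, ← pow_succ']; exact hk))

namespace Ctx

variable {G : Type u} {Ω : Type v} [Group G] [MulAction G Ω] [Finite G] [Finite Ω] {a b : Ω} {ι : ℕ} {i x : G}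
  (C : Ctx G Ω a b ι i x)
include C

theorem fixV_two_lt (hf : fixN Ω i + fixV a b i = 2 * fixV a b i * fixV a b i) : fixV a b i < fixN Ω i := by
  have h := C.two_le_fixV
  nlinarith

/-- The induced group has two involutions interchanging two points. -/
theorem ind_swap (hf : fixN Ω i + fixV a b i = 2 * fixV a b i * fixV a b i) :
    swapN ↥(IndGrp Ω i) (⟨a, C.ia⟩ : ↥(fixedBy Ω i)) ⟨b, C.ib⟩ = 2 := by
  have hlt := C.fixV_two_lt hf
  have hc := (C.indJ_conj hlt).count
  rw [C.ind_iota hlt, Set.ncard_singleton, one_mul, C.fixN_indJ,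
    show Nat.card ↥(fixedBy Ω i) = fixN Ω i from rfl] at hc
  obtain ⟨s', hs'⟩ : ∃ s', fixV a b i = s' + 2 := ⟨fixV a b i - 2, by have := C.two_le_fixV; omega⟩
  obtain ⟨m, hm⟩ : ∃ m, fixN Ω i = m + fixV a b i := ⟨fixN Ω i - fixV a b i, by omega⟩
  rw [hm, Nat.add_sub_cancel, hs', show s' + 2 - 1 = s' + 1 by omega] at hc
  rw [hm, hs'] at hf
  have : m = 2 * ((s' + 2) * (s' + 1)) := by nlinarith
  rw [this] at hc
  exact (Nat.eq_of_mul_eq_mul_right (by positivity) hc).symm

/-- The involutions of the induced point stabiliser fix two points. -/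
theorem ind_fixTwo (hodd : Odd (Nat.card Ω)) (hf : fixN Ω i + fixV a b i = 2 * fixV a b i * fixV a b i)
    {u : ↥(IndGrp Ω i)} (hu : orderOf u = 2) (hua : u • (⟨a, C.ia⟩ : ↥(fixedBy Ω i)) = ⟨a, C.ia⟩) :
    FixTwo ↥(fixedBy Ω i) u := by
  classical
  have hlt := C.fixV_two_lt hf
  have hC := C.indJ_conj hlt
  set a' : ↥(fixedBy Ω i) := ⟨a, C.ia⟩ with ha'
  set b' : ↥(fixedBy Ω i) := ⟨b, C.ib⟩ with hb'
  set D : Set ↥(IndGrp Ω i) := {v | v • a' = b' ∧ v • b' = a'} with hD
  set A : Set ↥(IndGrp Ω i) := {v | FixTwo ↥(fixedBy Ω i) v ∧ v • a' = b' ∧ v • b' = a'} with hA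
  have hA2 : A.ncard = 2 := C.ind_swap hf
  obtain ⟨z, hz⟩ := Set.nonempty_of_ncard_ne_zero (hA2.trans_ne two_ne_zero)
  have hDsub : D ⊆ {z, z * C.indJ} := by
    rintro v ⟨h1, h2⟩
    rcases C.ind_pair (z⁻¹ * v) (by rw [mul_smul, h1, inv_smul_eq_iff, hz.2.1])
      (by rw [mul_smul, h2, inv_smul_eq_iff, hz.2.2]) with e | e
    · exact Or.inl (inv_mul_eq_one.1 e).symm
    · exact Or.inr (by rw [Set.mem_singleton_iff, ← e, mul_inv_cancel_left])
  have hDcard : D.ncard ≤ 2 := (Set.ncard_le_ncard hDsub).trans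
    ((Set.ncard_insert_le _ _).trans (by rw [Set.ncard_singleton]))
  have hAD : A = D := Set.eq_of_subset_of_ncard_le (fun v hv => hv.2) (by omega)
  have hodd' : Odd (Nat.card ↥(fixedBy Ω i)) := Nat.odd_iff.2 (C.fix_parity.trans (Nat.odd_iff.1 hodd))
  have hcnt := single_count hC.ne hC.t2 hodd'
  by_contra hcon
  have h0 : {v : ↥(IndGrp Ω i) | orderOf v = 2 ∧ ¬ FixTwo ↥(fixedBy Ω i) v ∧ v • a' = b' ∧ v • b' = a'}.ncard = 0 := by
    rw [Set.ncard_eq_zero, Set.eq_empty_iff_forall_notMem]
    rintro v ⟨-, hnf, hv⟩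
    exact hnf ((hAD ▸ hv : v ∈ A)).1
  rw [h0, Set.ncard_eq_zero, Set.eq_empty_iff_forall_notMem] at hcnt
  exact hcnt u ⟨hu, hcon, hua⟩

/-- In the centraliser of `i` in the point stabiliser, `i` is not a square and every element inducing an
involution is conjugate to an involution of the four group. -/
theorem sq_eq_one (hodd : Odd (Nat.card Ω)) (hf : fixN Ω i + fixV a b i = 2 * fixV a b i * fixV a b i)
    {c : G} (hc : c * i = i * c) (hca : c • a = a) (h2 : c * c = 1 ∨ c * c = i) (hc1 : c ≠ 1) (hci : c ≠ i) :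
    c * c = 1 ∧ ∃ q : Ω, i • q = q ∧ c • q = q ∧ q ≠ a := by
  have hlt := C.fixV_two_lt hf
  have hC := C.indJ_conj hlt
  set c' : ↥(IndGrp Ω i) := indMk Ω i ⟨c, mem_centralizer_singleton_iff.2 hc⟩ with hc'
  have hu : orderOf c' = 2 := by
    refine orderOf_two_iff.2 ⟨fun e => ?_, ?_⟩
    · rw [hc', ← indMk_one] at e
      rcases C.cent_ker hlt hc fun p hp => (indMk_eq.1 e p hp).trans (one_smul _ p) with h | h
      exacts [hc1 h, hci h]
    · rw [hc', ← indMk_mul, ← indMk_one]
      refine indMk_eq.2 fun p hp => ?_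
      show (c * c) • p = (1 : G) • p
      rcases h2 with e | e <;> rw [e]
      rw [one_smul, hp]
  have hua : c' • (⟨a, C.ia⟩ : ↥(fixedBy Ω i)) = ⟨a, C.ia⟩ := Subtype.ext hca
  have hfix := C.ind_fixTwo hodd hf hu hua
  obtain ⟨g, hga, hg⟩ := hC.conj_in_stab hfix hua
  obtain ⟨d, rfl, hda⟩ := C.ind_stab_lift hga
  refine ⟨?_, ?_⟩
  · rw [indJ, ← indMk_inv, ← indMk_mul, ← indMk_mul, hc'] at hg
    set w := d.1 * (x * i * x⁻¹) * d.1⁻¹ with hw
    have hdi : d.1⁻¹ * i = i * d.1⁻¹ :=
      (show Commute d.1 i from mem_centralizer_singleton_iff.1 d.2).inv_left.eq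
    have hwi : w * i = i * w := mem_centralizer_singleton_iff.1
      (mul_mem (mul_mem d.2 (C.xnorm i C.i_mem_four).1) (inv_mem d.2))
    have hw2 : w * w = 1 := by
      calc w * w = d.1 * (x * i * x⁻¹ * (x * i * x⁻¹)) * d.1⁻¹ := by rw [hw]; group
        _ = 1 := by rw [C.four_sq (C.xnorm i C.i_mem_four), mul_one, mul_inv_cancel]
    have hk : w⁻¹ * c = 1 ∨ w⁻¹ * c = i := by
      refine C.cent_ker hlt ((Commute.mul_left (show Commute w i from hwi).inv_left hc).eq) fun p hp => ?_
      rw [mul_smul, inv_smul_eq_iff]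
      exact (indMk_eq.1 hg p hp).symm
    rcases hk with e | e
    · rw [← inv_mul_eq_one.1 e, hw2]
    · rw [show c = w * i by rw [← e, mul_inv_cancel_left]]
      calc w * i * (w * i) = w * (i * w) * i := by group
        _ = (w * w) * (i * i) := by rw [← hwi]; group
        _ = 1 := by rw [hw2, C.four_sq C.i_mem_four, one_mul]
  · obtain ⟨-, ⟨p, hp⟩, ⟨q, hq⟩, hne, hfp, hfq⟩ := hfix
    by_cases hpa : p = a
    · exact ⟨q, hq, congrArg Subtype.val hfq, fun e => hne (Subtype.ext (hpa.trans e.symm))⟩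
    · exact ⟨p, hp, congrArg Subtype.val hfp, hpa⟩

/-- An elementary group of order eight in the centraliser of `i`. -/
theorem oddB2_elementary (hodd : Odd (Nat.card Ω)) (hf : fixN Ω i + fixV a b i = 2 * fixV a b i * fixV a b i) :
    ∃ T : Subgroup G, T ≤ centralizer ({i} : Set G) ⊓ stabilizer G a ∧ pairFour a b i ≤ T ∧
      (∀ g ∈ T, g * g = 1) ∧ Nat.card T = 8 ∧
      ¬ 16 ∣ Nat.card ↥(centralizer ({i} : Set G) ⊓ stabilizer G a) := by
  classical
  haveI : Fact (Nat.Prime 2) := ⟨Nat.prime_two⟩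
  have hlt := C.fixV_two_lt hf
  have hs : Odd (fixV a b i) := C.fixV_parity hodd hlt
  set V := pairFour a b i with hV
  set Ca := centralizer ({i} : Set G) ⊓ stabilizer G a with hCa
  set M := centralizer ({i} : Set G) ⊓ normalizer (V : Set G) ⊓ stabilizer G a with hMdef
  have hM : Nat.card M = 4 * (fixV a b i - 1) := C.card_cent_normalizer
  have hVM : V ≤ M := fun v hv => ⟨⟨hv.1, le_normalizer hv⟩, hv.2.1⟩
  have hMCa : M ≤ Ca := fun m hm => ⟨hm.1.1, hm.2⟩
  haveI hVn : (V.subgroupOf M).Normal := ⟨fun v hv m => by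
    rw [mem_subgroupOf, Subgroup.coe_mul, Subgroup.coe_mul, Subgroup.coe_inv]
    exact (mem_normalizer_iff.1 m.2.1.2 v.1).1 hv⟩
  have hVp : IsPGroup 2 (V.subgroupOf M) := IsPGroup.of_card (n := 2) (by
    rw [Nat.card_congr (subgroupOfEquivOfLe hVM).toEquiv, C.card_four]; norm_num)
  obtain ⟨P⟩ : Nonempty (Sylow 2 ↥M) := inferInstance
  have hVP : V.subgroupOf M ≤ (P : Subgroup ↥M) := (Cores.le_pCore hVn hVp).trans (Cores.pCore_le_sylow P)
  set T : Subgroup G := (P : Subgroup ↥M).map M.subtype with hT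
  have hTM : T ≤ M := map_subtype_le _
  have hVT : V ≤ T := fun v hv => ⟨⟨v, hVM hv⟩, hVP (mem_subgroupOf.2 hv), rfl⟩
  obtain ⟨n, hn⟩ : ∃ n, Nat.card T = 2 ^ n := by
    rw [hT, card_map_of_injective M.subtype_injective]; exact IsPGroup.iff_card.1 P.2
  have h8 : 8 ∣ Nat.card T := by
    rw [hT, card_map_of_injective M.subtype_injective]
    refine P.pow_dvd_card_of_pow_dvd_card (n := 3) ?_
    obtain ⟨k, hk⟩ := hs
    rw [hM, hk]
    exact ⟨k, by omega⟩
  have hpow : ∀ g ∈ T, g ^ 2 ^ n = 1 := fun g hg => by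
    have := pow_card_eq_one' (x := (⟨g, hg⟩ : T))
    rw [hn] at this
    exact congrArg Subtype.val this
  have hTi : ∀ g ∈ T, g * i = i * g := fun g hg => mem_centralizer_singleton_iff.1 (hTM hg).1.1
  have hTa : ∀ g ∈ T, g • a = a := fun g hg => mem_stabilizer_iff.1 (hTM hg).2
  have hTN : ∀ g ∈ T, g ∈ normalizer (V : Set G) := fun g hg => (hTM hg).1.2
  have hnb : ∀ g ∈ T, g ∉ V → g • b ≠ b := fun g hg hgV e => hgV (C.mem_four_of (hTi g hg) (hTa g hg) e)
  -- an involution outside the four group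
  obtain ⟨y, hyT, hyV, hy2⟩ : ∃ y ∈ T, y ∉ V ∧ y * y = 1 := by
    by_contra hno
    push Not at hno
    have hno' : ∀ g ∈ T, g * g ∈ V → g ∈ V := by
      intro y hy hyy
      by_contra hyV
      have hy1 : y ≠ 1 := fun e => hyV (e ▸ one_mem V)
      have hyi' : y ≠ i := fun e => hyV (e ▸ C.i_mem_four)
      have hyi := hTi y hy
      set j := x * i * x⁻¹ with hj
      rcases C.four_eq hyy with e | e | e | e
      · exact hno y hy hyV e
      · exact hno y hy hyV (C.sq_eq_one hodd hf hyi (hTa y hy) (Or.inr e) hy1 hyi').1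
      all_goals
        have hya := hTa y hy
        have hyj : Commute y j := by
          first
            | (have h0 : Commute y (y * y) := (Commute.refl y).mul_right (Commute.refl y)
               rw [e] at h0
               exact h0)
            | (have h1 : Commute y (i * j) := by
                 have h0 : Commute y (y * y) := (Commute.refl y).mul_right (Commute.refl y)
                 rw [e] at h0
                 exact h0
               have h2 : Commute y (i * (i * j)) := (show Commute y i from hyi).mul_right h1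
               rwa [← mul_assoc, C.four_sq C.i_mem_four, one_mul] at h2)
        have hyV' : ∀ v ∈ V, Commute y v := fun v hv => by
          rcases C.four_eq hv with rfl | rfl | rfl | rfl
          · exact Commute.one_right y
          · exact hyi
          · exact hyj
          · exact (show Commute y i from hyi).mul_right hyj
        have hkey : ∀ m : G, (∀ v ∈ V, m * v * m⁻¹ ∈ V) → m • a = a → m * i * m⁻¹ = y * y → False := by
          intro m hm hma he
          set z := m⁻¹ * y * m with hz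
          have hzi : z * i = i * z := by
            have h1 : y * (m * i * m⁻¹) = m * i * m⁻¹ * y := (hyV' _ (hm i C.i_mem_four)).eq
            calc z * i = m⁻¹ * (y * (m * i * m⁻¹)) * m := by rw [hz]; group
              _ = i * z := by rw [h1, hz]; group
          have hza : z • a = a := by rw [hz, mul_smul, mul_smul, hma, hya, inv_smul_eq_iff, hma]
          have hzz : z * z = i := by
            calc z * z = m⁻¹ * (y * y) * m := by rw [hz]; group
              _ = i := by rw [← he]; group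
          have hz1 : z ≠ 1 := fun e' => C.i_ne_one (by rw [← hzz, e', one_mul])
          have hzi' : z ≠ i := fun e' => C.i_ne_one (by
            rw [← hzz, e', C.four_sq C.i_mem_four])
          have := (C.sq_eq_one hodd hf hzi hza (Or.inr hzz) hz1 hzi').1
          exact C.i_ne_one (hzz.symm.trans this)
        first
          | exact hkey x C.xnorm C.xa e.symm
          | (refine hkey (x * x) (fun v hv => ?_) (by rw [mul_smul, C.xa, C.xa]) ?_
             · rw [show x * x * v * (x * x)⁻¹ = x * (x * v * x⁻¹) * x⁻¹ by group]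
               exact C.xnorm _ (C.xnorm v hv)
             · rw [e, show x * x * i * (x * x)⁻¹ = x * j * x⁻¹ by rw [hj]; group]
               have hx3 : x ^ 3 = 1 := C.xord ▸ pow_orderOf_eq_one x
               rcases C.four_eq (C.xnorm j (C.xnorm i C.i_mem_four)) with h | h | h | h
               · exfalso
                 have : j = 1 := by
                   calc j = x⁻¹ * (x * j * x⁻¹) * x := by group
                     _ = 1 := by rw [h]; group
                 exact C.i_ne_one (by
                   calc i = x⁻¹ * j * x := by rw [hj]; group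
                     _ = 1 := by rw [this]; group)
               · exfalso
                 refine C.xne ?_
                 calc x * i * x⁻¹ = x * (x * j * x⁻¹) * x⁻¹ := by rw [h]
                   _ = x ^ 3 * i * (x ^ 3)⁻¹ := by rw [pow_succ, pow_two, hj]; group
                   _ = i := by rw [hx3]; group
               · exfalso
                 refine C.xne (mul_left_cancel (a := x) (mul_right_cancel (b := x⁻¹) ?_))
                 exact h
               · exact h)
    have hall' : T ≤ V := fun g hg => mem_of_pow_two_pow hno' n g hg (by rw [hpow g hg]; exact one_mem V)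
    have h1 := card_le_of_le hall'
    have h2 := Nat.le_of_dvd Nat.card_pos h8
    rw [show Nat.card V = 4 from C.card_four] at h1
    omega
  have hyi := hTi y hyT
  have hya := hTa y hyT
  have hy1 : y ≠ 1 := fun e => hyV (e ▸ one_mem V)
  set j := x * i * x⁻¹ with hj
  have hjV : j ∈ V := C.xnorm i C.i_mem_four
  have hjT := hVT hjV
  have hjj : j * j = 1 := C.four_sq hjV
  have hii : i * i = 1 := C.four_sq C.i_mem_four
  have hji : j * i = i * j := C.four_comm hjV C.i_mem_four
  -- it centralises the four group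
  have hyj : y * j = j * y := by
    by_contra hne
    have hyinv : y⁻¹ = y := inv_eq_of_mul_eq_one_right hy2
    have hm : y * j * y⁻¹ ∈ V := (mem_normalizer_iff.1 (hTN y hyT) j).1 hjV
    rcases C.four_eq hm with e | e | e | e
    · refine hne ?_
      rw [mul_inv_eq_one] at e
      have : j = 1 := mul_eq_left.1 e
      rw [this]; simp
    · refine C.xne ?_
      calc x * i * x⁻¹ = y⁻¹ * (y * j * y⁻¹) * y := by rw [hj]; group
        _ = y⁻¹ * (i * y) := by rw [e]; group
        _ = i := by rw [← hyi, inv_mul_cancel_left]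
    · exact hne (mul_inv_eq_iff_eq_mul.1 e)
    · have hzz : y * j * (y * j) = i := by
        calc y * j * (y * j) = y * j * y⁻¹ * j := by rw [hyinv]; group
          _ = i := by rw [e, mul_assoc, hjj, mul_one]
      have hz1 : y * j ≠ 1 := fun e' => C.i_ne_one (by rw [← hzz, e', one_mul])
      have hzi : y * j ≠ i := fun e' => hyV (by
        rw [show y = i * j⁻¹ from eq_mul_inv_of_mul_eq e']; exact mul_mem C.i_mem_four (inv_mem hjV))
      have := (C.sq_eq_one hodd hf ((Commute.mul_left (show Commute y i from hyi) hji).eq)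
        (by rw [mul_smul, mem_stabilizer_iff.1 hjV.2.1, hya]) (Or.inr hzz) hz1 hzi).1
      exact C.i_ne_one (hzz.symm.trans this)
  have hcy : ∀ v ∈ V, v * y = y * v := fun v hv => by
    rcases C.four_eq hv with rfl | rfl | rfl | rfl
    · simp
    · exact hyi.symm
    · exact hyj.symm
    · exact ((Commute.mul_right (show Commute y i from hyi) hyj).eq).symm
  let E : Subgroup G :=
    { carrier := {e | e ∈ V ∨ y * e ∈ V}
      one_mem' := Or.inl (one_mem V)
      mul_mem' := by
        rintro p q (hp | hp) (hq | hq)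
        · exact Or.inl (mul_mem hp hq)
        · exact Or.inr (by rw [← mul_assoc, ← hcy p hp, mul_assoc]; exact mul_mem hp hq)
        · exact Or.inr (by rw [← mul_assoc]; exact mul_mem hp hq)
        · refine Or.inl ?_
          have h1 := hcy _ hp
          have : p * q = y * p * (y * q) := by
            calc p * q = y * (y * p) * q := by rw [← mul_assoc y, hy2, one_mul]
              _ = y * p * y * q := by rw [← h1]
              _ = y * p * (y * q) := mul_assoc _ _ _
          rw [this]; exact mul_mem hp hq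
      inv_mem' := by
        rintro p (hp | hp)
        · exact Or.inl (inv_mem hp)
        · refine Or.inr ?_
          have hpp : p * p = 1 := by
            obtain ⟨v, hv, rfl⟩ : ∃ v ∈ V, p = y * v := ⟨y * p, hp, by rw [← mul_assoc, hy2, one_mul]⟩
            calc y * v * (y * v) = y * (v * y) * v := by group
              _ = (y * y) * (v * v) := by rw [hcy v hv]; group
              _ = 1 := by rw [hy2, C.four_sq hv, one_mul]
          rwa [inv_eq_of_mul_eq_one_right hpp] }
  have hVE : V ≤ E := fun v hv => Or.inl hv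
  have hEform : ∀ e ∈ E, e ∈ V ∨ ∃ v ∈ V, e = y * v := by
    rintro e (he | he)
    · exact Or.inl he
    · exact Or.inr ⟨y * e, he, by rw [← mul_assoc, hy2, one_mul]⟩
  have hEsq : ∀ e ∈ E, e * e = 1 := fun e he => by
    rcases hEform e he with h1 | ⟨v, hv, rfl⟩
    · exact C.four_sq h1
    · calc y * v * (y * v) = y * (v * y) * v := by group
        _ = (y * y) * (v * v) := by rw [hcy v hv]; group
        _ = 1 := by rw [hy2, C.four_sq hv, one_mul]
  have hyq : y * y ∈ V := by rw [hy2]; exact one_mem V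
  have hroot : ∀ g ∈ T, g * g ∈ V → g ∈ E := by
    intro g hg hgg
    by_cases hgV : g ∈ V
    · exact hVE hgV
    have hm := C.sigma_agree hs hyi (hTN y hyT) hya (hnb y hyT hyV) hyq (hTi g hg) (hTN g hg)
      (hTa g hg) (hnb g hg hgV) hgg
    exact Or.inr (by rwa [inv_eq_of_mul_eq_one_right hy2] at hm)
  have hroot' : ∀ g ∈ T, g * g ∈ E → g ∈ E := by
    intro g hg hgg
    by_cases hu : g * g ∈ V
    · exact hroot g hg hu
    exfalso
    set u := g * g with hudef
    have hgi := hTi g hg
    have hga := hTa g hg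
    have hui : u * i = i * u := hTi u (mul_mem hg hg)
    have hu1 : u ≠ 1 := fun e => hu (e ▸ one_mem V)
    have hui' : u ≠ i := fun e => hu (e ▸ C.i_mem_four)
    have huu : u * u = 1 := hEsq u hgg
    obtain ⟨-, q, hiq, huq, hqa⟩ := C.sq_eq_one hodd hf hui (hTa u (mul_mem hg hg)) (Or.inl huu) hu1 hui'
    obtain ⟨x', C'⟩ := C.exists_ctx_at C.ord (Ne.symm hqa) C.ia hiq
    set W := pairFour a q i with hW
    have huW : u ∈ W := C'.mem_four_of hui (hTa u (mul_mem hg hg)) huq
    have hiW : i ∈ W := C'.i_mem_four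
    have hWset : (W : Set G) = {1, i, u, i * u} := by
      refine (Set.eq_of_subset_of_ncard_le ?_ ?_).symm
      · rintro z (rfl | rfl | rfl | rfl)
        exacts [one_mem W, hiW, huW, mul_mem hiW huW]
      · rw [← Nat.card_coe_set_eq, show Nat.card ↥(W : Set G) = 4 from C'.card_four,
          Set.ncard_insert_of_notMem, Set.ncard_insert_of_notMem, Set.ncard_insert_of_notMem,
          Set.ncard_singleton]
        · rw [Set.mem_singleton_iff]; exact fun e => C.i_ne_one (mul_eq_right.1 e.symm)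
        · simp only [Set.mem_insert_iff, Set.mem_singleton_iff, not_or]
          exact ⟨Ne.symm hui', fun e => hu1 (mul_eq_left.1 e.symm)⟩
        · simp only [Set.mem_insert_iff, Set.mem_singleton_iff, not_or]
          refine ⟨fun e => C.i_ne_one e.symm, fun e => hu1 e.symm, fun e => hui' ?_⟩
          rw [eq_inv_of_mul_eq_one_right e.symm, inv_eq_of_mul_eq_one_right hii]
    have hWE : ∀ z ∈ W, z ∈ E := by
      intro z hz
      have : z ∈ (W : Set G) := hz
      rw [hWset] at this
      rcases this with rfl | rfl | rfl | rfl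
      exacts [one_mem E, hVE C.i_mem_four, hgg, mul_mem (hVE C.i_mem_four) hgg]
    have hju : Commute j u := by
      rcases hEform u hgg with h | ⟨v, hv, e⟩
      · exact C.four_comm hjV h
      · rw [e]
        exact (show Commute j y from hyj.symm).mul_right (C.four_comm hjV hv)
    have hnorm : ∀ m : G, Commute m i → Commute m u → m ∈ normalizer (W : Set G) := fun m h1 h2 => by
      refine PGroup.mem_normalizer_of_conj_le fun v hv => ?_
      have hc : Commute m v := by
        have : v ∈ (W : Set G) := hv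
        rw [hWset] at this
        rcases this with rfl | rfl | rfl | rfl
        exacts [Commute.one_right m, h1, h2, h1.mul_right h2]
      rw [hc.eq, mul_inv_cancel_right]; exact hv
    have hjq : j • q ≠ q := by
      intro e
      have hjW : j ∈ W := C'.mem_four_of hji (mem_stabilizer_iff.1 hjV.2.1) e
      refine hu ?_
      have hle : V ≤ W := fun v hv => by
        rcases C.four_eq hv with rfl | rfl | rfl | rfl
        exacts [one_mem W, hiW, hjW, mul_mem hiW hjW]
      rw [eq_of_le_of_card_ge hle (by rw [hV, hW, C.card_four, C'.card_four])]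
      exact huW
    have hgq : g • q ≠ q := fun e => hu1 (C'.four_sq (C'.mem_four_of hgi hga e))
    have hsW : Odd (fixV a q i) := by rwa [C.fixV_eq C.ord (Ne.symm hqa) C.ia hiq]
    have hm := C'.sigma_agree hsW hji (hnorm j hji hju) (mem_stabilizer_iff.1 hjV.2.1) hjq
      (by rw [hjj]; exact one_mem W) hgi (hnorm g hgi ((Commute.refl g).mul_right (Commute.refl g))) hga hgq
      huW
    have hgE : g ∈ E := by
      have := mul_mem (hVE hjV) (hWE _ hm)
      rwa [mul_inv_cancel_left] at this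
    exact hu1 (hEsq g hgE)
  have hTE : T = E := le_antisymm (fun g hg => mem_of_pow_two_pow hroot' n g hg (by rw [hpow g hg]; exact one_mem E))
    fun e he => by
      rcases hEform e he with h1 | ⟨v, hv, rfl⟩
      exacts [hVT h1, mul_mem hyT (hVT hv)]
  have hT8 : Nat.card T = 8 := by
    have hset : (E : Set G) = (V : Set G) ∪ (fun v => y * v) '' (V : Set G) := by
      ext e
      constructor
      · intro he
        rcases hEform e he with h1 | ⟨v, hv, rfl⟩
        · exact Or.inl h1
        · exact Or.inr ⟨v, hv, rfl⟩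
      · rintro (h1 | ⟨v, hv, rfl⟩)
        · exact Or.inl h1
        · exact Or.inr (by rw [← mul_assoc, hy2, one_mul]; exact hv)
    have hdis : Disjoint (V : Set G) ((fun v => y * v) '' (V : Set G)) := by
      rw [Set.disjoint_left]
      rintro e he ⟨v, hv, rfl⟩
      exact hyV ((Subgroup.mul_mem_cancel_right _ hv).1 he)
    have h4 : (V : Set G).ncard = 4 := by rw [← Nat.card_coe_set_eq]; exact C.card_four
    rw [hTE]
    show Nat.card ↥(E : Set G) = 8
    rw [Nat.card_coe_set_eq, hset, Set.ncard_union_eq hdis, Set.ncard_image_of_injective _ (mul_right_injective y), h4]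
  refine ⟨T, hTM.trans hMCa, hVT, fun g hg => hEsq g (hTE ▸ hg), hT8, fun h16 => ?_⟩
  have h16M : 2 ^ 4 ∣ Nat.card M := by
    rw [hM]
    obtain ⟨k, hk⟩ := hs
    rw [C.card_cent_stab] at h16
    have hf' : fixN Ω i = 8 * (k * k) + 6 * k + 1 := by
      rw [hk] at hf; nlinarith
    rw [hf', Nat.add_sub_cancel] at h16
    rw [hk, Nat.add_sub_cancel]
    have : 16 ∣ 8 * k * (4 * k + 3) := by rw [show 8 * k * (4 * k + 3) = 4 * (8 * (k * k) + 6 * k) by ring]; exact h16
    have h2 : 2 ∣ k * (4 * k + 3) := Nat.dvd_of_mul_dvd_mul_left (show 0 < 8 by norm_num)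
      (by rwa [← mul_assoc])
    have hk2 : 2 ∣ k := (Nat.Coprime.dvd_of_dvd_mul_right
      (Nat.coprime_two_left.2 ⟨2 * k + 1, by ring⟩) h2)
    obtain ⟨m, rfl⟩ := hk2
    exact ⟨m, by ring⟩
  have h := P.pow_dvd_card_of_pow_dvd_card h16M
  rw [← card_map_of_injective M.subtype_injective, ← hT, hT8] at h
  norm_num at h

/-- **`f + s = 2 s²` is impossible in odd degree when all involutions fix two points.** -/
theorem oddB2_false [FaithfulSMul G Ω] (hodd : Odd (Nat.card Ω))
    (hf : fixN Ω i + fixV a b i = 2 * fixV a b i * fixV a b i)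
    (hall : ∀ u : G, orderOf u = 2 → FixTwo Ω u) (hd : Even (swapN G a b)) : False := by
  classical
  haveI : Fact (Nat.Prime 2) := ⟨Nat.prime_two⟩
  have hlt := C.fixV_two_lt hf
  have hs : Odd (fixV a b i) := C.fixV_parity hodd hlt
  have hs2 := C.two_le_fixV
  have hfodd : Odd (fixN Ω i) := Nat.odd_iff.2 (C.fix_parity.trans (Nat.odd_iff.1 hodd))
  obtain ⟨T, hTle, hVT, hTsq, hT8, hC16⟩ := C.oddB2_elementary hodd hf
  set X := stabilizer G a with hX
  set Ca := centralizer ({i} : Set G) ⊓ X with hCa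
  have hXcard : Nat.card X = Nat.card Ca * (ι + swapN G a b * fixN Ω i) := by rw [C.card_stab, C.card_cent_stab]
  have hcls : Odd (ι + swapN G a b * fixN Ω i) := by
    refine Odd.add_even ?_ (hd.mul_right _)
    rcases C.kd.iota with h | h <;> rw [h] <;> decide
  -- seven divides the order of the point stabiliser
  have h7 : 7 ∣ Nat.card X := by
    have hTX : T ≤ X := hTle.trans inf_le_right
    set T' := T.subgroupOf X with hT'
    have hT'8 : Nat.card T' = 8 := by rw [Nat.card_congr (subgroupOfEquivOfLe hTX).toEquiv, hT8]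
    obtain ⟨P, hP⟩ := (IsPGroup.of_card (n := 3) (show Nat.card T' = 2 ^ 3 by rw [hT'8]; rfl)).exists_le_sylow
    have h16 : ¬ 16 ∣ Nat.card X := fun h => hC16 (Nat.Coprime.dvd_of_dvd_mul_right
      (Nat.Coprime.pow_left 4 (Nat.coprime_two_left.2 hcls)) (hXcard ▸ h))
    have hPT : (P : Subgroup X) = T' := by
      refine (eq_of_le_of_card_ge hP ?_).symm
      obtain ⟨k, hk⟩ := IsPGroup.iff_card.1 P.2
      have h1 : ¬ 4 ≤ k := fun h => h16 (((show 16 = 2 ^ 4 from rfl) ▸ Nat.pow_dvd_pow 2 h).trans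
        (hk ▸ card_subgroup_dvd_card _))
      rw [hT'8, hk]
      calc 2 ^ k ≤ 2 ^ 3 := Nat.pow_le_pow_right two_pos (by omega)
        _ = 8 := rfl
    have hsq : ∀ p ∈ (P : Subgroup X), p * p = 1 := fun p hp => Subtype.ext (hTsq _ (by rw [hPT] at hp; exact hp))
    haveI : IsMulCommutative (P : Subgroup X) := ⟨⟨fun p q => Subtype.ext (by
      have h1 := hsq _ p.2
      have h2 := hsq _ q.2
      have h3 := hsq _ (mul_mem p.2 q.2)
      calc p.1 * q.1 = (p.1 * q.1)⁻¹ := (inv_eq_of_mul_eq_one_right h3).symm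
        _ = q.1 * p.1 := by rw [mul_inv_rev, inv_eq_of_mul_eq_one_right h1, inv_eq_of_mul_eq_one_right h2])⟩⟩
    set i' : X := ⟨i, mem_stabilizer_iff.2 C.ia⟩ with hi'
    have hiP : i' ∈ (P : Subgroup X) := by
      rw [hPT]; exact mem_subgroupOf.2 (hVT C.i_mem_four)
    set K : Subgroup (ConjAct X) :=
      (normalizer ((P : Subgroup X) : Set X)).comap ConjAct.ofConjAct.toMonoidHom with hK
    have horb : orbit ↥K i' = ((P : Subgroup X) : Set X) \ {1} := by
      ext p
      constructor
      · rintro ⟨k, rfl⟩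
        refine ⟨?_, fun e => ?_⟩
        · show k.1 • i' ∈ (P : Subgroup X)
          rw [ConjAct.smul_def]
          exact (mem_normalizer_iff.1 k.2 i').1 hiP
        · have e' : k.1 • i' = 1 := e
          rw [ConjAct.smul_def, mul_inv_eq_one, mul_eq_left] at e'
          exact C.i_ne_one (congrArg Subtype.val e')
      · rintro ⟨hp, hp1⟩
        have hpo : orderOf p.1 = 2 := orderOf_two_iff.2
          ⟨fun e => hp1 (Subtype.ext e), congrArg Subtype.val (hsq p hp)⟩
        obtain ⟨g, hga, hg⟩ := C.conjI.conj_in_stab (hall p.1 hpo) (mem_stabilizer_iff.1 p.2)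
        set g' : X := ⟨g, mem_stabilizer_iff.2 hga⟩ with hg'
        have hgp : g'⁻¹⁻¹ * i' * g'⁻¹ = p := by rw [inv_inv]; exact Subtype.ext hg
        obtain ⟨n, hn, hn'⟩ := P.conj_eq_normalizer_conj_of_mem i' g'⁻¹ hiP (hgp.symm ▸ hp)
        refine ⟨⟨ConjAct.toConjAct n⁻¹, inv_mem hn⟩, ?_⟩
        show ConjAct.toConjAct n⁻¹ • i' = p
        rw [ConjAct.smul_def, ConjAct.ofConjAct_toConjAct, inv_inv, ← hn', hgp]
    have h7K : (stabilizer ↥K i').index = 7 := by
      rw [index_stabilizer, horb, Set.ncard_diff_singleton_of_mem (one_mem (P : Subgroup X)),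
        ← Nat.card_coe_set_eq]
      rw [show Nat.card ↥((P : Subgroup X) : Set X) = 8 by rw [hPT]; exact hT'8]
    have h1 := (stabilizer ↥K i').index_dvd_card
    rw [h7K] at h1
    exact h1.trans ((card_subgroup_dvd_card K).trans (Nat.card_congr (ConjAct.ofConjAct (G := ↥X)).toEquiv).dvd)
  -- the induced point stabiliser has Klein four Sylow subgroups
  have hC := C.indJ_conj hlt
  set Y := stabilizer ↥(IndGrp Ω i) (⟨a, C.ia⟩ : ↥(fixedBy Ω i)) with hY
  set J : ↥Y := ⟨C.indJ, mem_stabilizer_iff.2 hC.fa⟩ with hJdef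
  have hJo : orderOf J = 2 := by rw [← Subgroup.orderOf_coe]; exact hC.ord
  have hpair : Nat.card ↥(centralizer ({C.indJ} : Set ↥(IndGrp Ω i)) ⊓ Y ⊓
      stabilizer ↥(IndGrp Ω i) (⟨b, C.ib⟩ : ↥(fixedBy Ω i))) = 2 := by
    have hset : (↑(centralizer ({C.indJ} : Set ↥(IndGrp Ω i)) ⊓ Y ⊓
        stabilizer ↥(IndGrp Ω i) (⟨b, C.ib⟩ : ↥(fixedBy Ω i))) : Set ↥(IndGrp Ω i)) = {1, C.indJ} := by
      ext r
      constructor
      · rintro ⟨⟨-, h1⟩, h2⟩
        exact C.ind_pair r (mem_stabilizer_iff.1 h1) (mem_stabilizer_iff.1 h2)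
      · rintro (rfl | rfl)
        · exact one_mem _
        · exact ⟨⟨mem_centralizer_singleton_iff.2 rfl, mem_stabilizer_iff.2 hC.fa⟩, mem_stabilizer_iff.2 hC.fb⟩
    rw [← SetLike.coe_sort_coe, Nat.card_coe_set_eq, hset,
      Set.ncard_pair fun e => (orderOf_two_iff.1 hC.ord).1 e.symm]
  have hcJ : Nat.card ↥(centralizer ({C.indJ} : Set ↥(IndGrp Ω i)) ⊓ Y) = 2 * (fixV a b i - 1) := by
    rw [hC.card_cent_stab, C.fixN_indJ, hpair]
  have hYcard : Nat.card Y = 2 * (fixV a b i - 1) * (2 * fixV a b i + 1) := by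
    rw [hC.card_stab, hcJ, C.ind_iota hlt, Set.ncard_singleton, C.ind_swap hf, C.fixN_indJ]; ring
  have hcJY : Nat.card ↥(centralizer ({J} : Set ↥Y)) = 2 * (fixV a b i - 1) := by
    rw [← hcJ]
    refine Nat.card_congr ⟨fun r => ⟨r.1.1, mem_centralizer_singleton_iff.2
      (congrArg Subtype.val (mem_centralizer_singleton_iff.1 r.2)), r.1.2⟩,
      fun r => ⟨⟨r.1, r.2.2⟩, mem_centralizer_singleton_iff.2 (Subtype.ext (mem_centralizer_singleton_iff.1 r.2.1))⟩,
      fun _ => rfl, fun _ => rfl⟩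
  let φ : ↥Ca →* ↥Y := MonoidHom.mk' (fun g => ⟨indMk Ω i ⟨g.1, g.2.1⟩,
      mem_stabilizer_iff.2 (Subtype.ext (mem_stabilizer_iff.1 g.2.2))⟩)
    (fun g g' => Subtype.ext (indMk_mul i ⟨g.1, g.2.1⟩ ⟨g'.1, g'.2.1⟩))
  have hker : ∀ g : ↥Ca, φ g = 1 ↔ g.1 = 1 ∨ g.1 = i := by
    intro g
    rw [← map_one φ]
    refine Subtype.ext_iff.trans (indMk_eq.trans ⟨fun h => C.cent_ker hlt (mem_centralizer_singleton_iff.1 g.2.1)
      fun p hp => (h p hp).trans (one_smul _ p), ?_⟩)
    rintro (e | e) p hp <;> simp [e, hp]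
  set Q : Subgroup ↥Y := (T.subgroupOf Ca).map φ with hQ
  have hQ4 : Nat.card Q = 4 := by
    have h := (φ.comp (T.subgroupOf Ca).subtype).ker.card_mul_index
    rw [index_ker, MonoidHom.range_comp, (T.subgroupOf Ca).range_subtype,
      Nat.card_congr (subgroupOfEquivOfLe hTle).toEquiv, hT8, ← hQ] at h
    have hk : Nat.card (φ.comp (T.subgroupOf Ca).subtype).ker = 2 := by
      have hiT : (⟨⟨i, hTle (hVT C.i_mem_four)⟩, mem_subgroupOf.2 (hVT C.i_mem_four)⟩ : ↥(T.subgroupOf Ca)) ≠ 1 :=
        fun e => C.i_ne_one (congrArg (fun z => z.1.1) e)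
      have hset : ((φ.comp (T.subgroupOf Ca).subtype).ker : Set ↥(T.subgroupOf Ca)) =
          {1, ⟨⟨i, hTle (hVT C.i_mem_four)⟩, mem_subgroupOf.2 (hVT C.i_mem_four)⟩} := by
        ext g
        simp only [SetLike.mem_coe, MonoidHom.mem_ker, MonoidHom.coe_comp, Function.comp_apply,
          Subgroup.coe_subtype, hker, Set.mem_insert_iff, Set.mem_singleton_iff, Subtype.ext_iff]
        rfl
      rw [← SetLike.coe_sort_coe, Nat.card_coe_set_eq, hset, Set.ncard_pair hiT.symm]
    rw [hk] at h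
    omega
  have hQsq : ∀ q ∈ Q, q * q = 1 := by
    rintro _ ⟨g, hg, rfl⟩
    rw [← map_mul, show g * g = 1 from Subtype.ext (hTsq g.1 hg), map_one]
  have hY8 : ¬ 8 ∣ Nat.card Y := by
    intro h
    refine hC16 ?_
    rw [C.card_cent_stab]
    have : 4 * (fixN Ω i - 1) = 2 * Nat.card Y := by
      rw [hYcard]
      obtain ⟨k, hk⟩ := hs
      rw [hk] at hf ⊢
      rw [show fixN Ω i = 8 * (k * k) + 6 * k + 1 by nlinarith, Nat.add_sub_cancel, Nat.add_sub_cancel]
      ring
    rw [this, show 16 = 2 * 8 from rfl]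
    exact mul_dvd_mul_left 2 h
  have hJQ : J ∈ Q := ⟨⟨x * i * x⁻¹, hTle (hVT (C.xnorm i C.i_mem_four))⟩,
    mem_subgroupOf.2 (hVT (C.xnorm i C.i_mem_four)), rfl⟩
  have hconjY : ∀ u : ↥Y, orderOf u = 2 → ∃ g : ↥Y, g * J * g⁻¹ = u := by
    intro u hu
    rw [← Subgroup.orderOf_coe] at hu
    obtain ⟨g, hga, hg⟩ := hC.conj_in_stab (C.ind_fixTwo hodd hf hu (mem_stabilizer_iff.1 u.2))
      (mem_stabilizer_iff.1 u.2)
    exact ⟨⟨g, mem_stabilizer_iff.2 hga⟩, Subtype.ext hg⟩
  obtain ⟨n, hn, hnJ⟩ : ∃ n ∈ normalizer (Q : Set ↥Y), n * J * n⁻¹ ≠ J := by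
    obtain ⟨P, hP⟩ := (IsPGroup.of_card (n := 2) (show Nat.card Q = 2 ^ 2 by rw [hQ4]; rfl)).exists_le_sylow
    have hPQ : (P : Subgroup ↥Y) = Q := by
      refine (eq_of_le_of_card_ge hP ?_).symm
      obtain ⟨k, hk⟩ := IsPGroup.iff_card.1 P.2
      have h1 : ¬ 3 ≤ k := fun h => hY8 (((show 8 = 2 ^ 3 from rfl) ▸ Nat.pow_dvd_pow 2 h).trans
        (hk ▸ card_subgroup_dvd_card _))
      rw [hQ4, hk]
      calc 2 ^ k ≤ 2 ^ 2 := Nat.pow_le_pow_right two_pos (by omega)
        _ = 4 := rfl
    obtain ⟨u, huQ, hu1, huJ⟩ : ∃ u ∈ Q, u ≠ 1 ∧ u ≠ J := by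
      by_contra hcon
      push Not at hcon
      have hsub : (Q : Set ↥Y) ⊆ {1, J} := fun q hq => by
        by_cases h : q = 1
        · exact Or.inl h
        · exact Or.inr (hcon q hq h)
      have := Set.ncard_le_ncard hsub
      rw [← Nat.card_coe_set_eq, show Nat.card ↥(Q : Set ↥Y) = 4 from hQ4] at this
      have h2 := Set.ncard_insert_le (1 : ↥Y) {J}
      rw [Set.ncard_singleton] at h2
      omega
    obtain ⟨g, hg⟩ := hconjY u (orderOf_two_iff.2 ⟨hu1, hQsq u huQ⟩)
    haveI : IsMulCommutative (P : Subgroup ↥Y) := ⟨⟨fun p q => Subtype.ext (by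
      have hp := hQsq _ ((SetLike.ext_iff.1 hPQ _).1 p.2)
      have hq := hQsq _ ((SetLike.ext_iff.1 hPQ _).1 q.2)
      have hpq := hQsq _ ((SetLike.ext_iff.1 hPQ _).1 (mul_mem p.2 q.2))
      calc p.1 * q.1 = (p.1 * q.1)⁻¹ := (inv_eq_of_mul_eq_one_right hpq).symm
        _ = q.1 * p.1 := by rw [mul_inv_rev, inv_eq_of_mul_eq_one_right hp, inv_eq_of_mul_eq_one_right hq])⟩⟩
    have hg' : g⁻¹⁻¹ * J * g⁻¹ = u := by rw [inv_inv, hg]
    obtain ⟨n, hn, hn'⟩ := P.conj_eq_normalizer_conj_of_mem J g⁻¹ ((SetLike.ext_iff.1 hPQ _).2 hJQ)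
      (hg'.symm ▸ (SetLike.ext_iff.1 hPQ u).2 huQ)
    rw [show (P : Set ↥Y) = (Q : Set ↥Y) from congrArg (SetLike.coe) hPQ] at hn
    refine ⟨n⁻¹, inv_mem hn, ?_⟩
    rw [inv_inv, ← hn', hg']
    exact huJ
  obtain ⟨a', e, δ, ov, ε, ha, he, hδ, hov, hε, hcent, -, hY', -, -⟩ :=
    kleinShape Q hQ4 hQsq hY8 (fun u v hu hv => by
      obtain ⟨g, hg⟩ := hconjY u hu
      obtain ⟨g', hg'⟩ := hconjY v hv
      refine ⟨g' * g⁻¹, ?_⟩
      rw [← hg, ← hg']; group) hJQ hJo hn hnJ
  set A := a' * e * δ * ov with hA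
  have hsA : fixV a b i = 2 * A + 1 := by
    rw [hcJY, show a' * e * (δ * ov) = A by rw [hA]; ring] at hcent
    omega
  have hw : (δ : ℤ) ^ 2 * ((4 * a' + ε) * (2 * a' + ε)) = 3 + 4 * (a' * e * δ * ov : ℕ) := by
    rw [hcJY, hYcard, hsA, Nat.add_sub_cancel] at hY'
    push_cast at hY'
    have hA0 : (A : ℤ) ≠ 0 := by
      have : A ≠ 0 := by omega
      exact_mod_cast this
    refine mul_left_cancel₀ (mul_ne_zero two_ne_zero (mul_ne_zero two_ne_zero hA0) : (2 * (2 * (A : ℤ))) ≠ 0) ?_
    rw [← hA]; linear_combination -hY'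
  have hfin := odd_klein ha hδ he hov hε (by push_cast at hw ⊢; exact hw)
  rw [← hA] at hfin
  have hf7 : fixN Ω i % 7 = 0 := by
    rcases hfin with ⟨-, e'⟩ | ⟨-, e'⟩ <;> rw [hsA, e'] at hf <;> omega
  rw [hXcard, C.card_cent_stab, mul_assoc] at h7
  rcases (Nat.Prime.dvd_mul (by norm_num : Nat.Prime 7)).1 h7 with h | h
  · norm_num at h
  rcases (Nat.Prime.dvd_mul (by norm_num : Nat.Prime 7)).1 h with h | h
  · omega
  · have h' : 7 ∣ swapN G a b * fixN Ω i := dvd_mul_of_dvd_right (Nat.dvd_of_mod_eq_zero hf7) _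
    rcases C.kd.iota with e' | e' <;> rw [e'] at h <;> omega

end Ctx

end Cfsg.Agent.TwoPointA5
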