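import Cfsg.Agent.Lib.TwoPointA5.OddA
import Cfsg.Agent.Lib.TwoPointA5.OddB2
import Cfsg.Agent.Lib.TwoPointA5.Lam
import Cfsg.Agent.Lib.Perm.Burnside

/-!
# Two-point stabiliser A₄ or A₅: the possible degrees and group orders (owner: helper58)

* `t2_of_pretransitive`, `kdAll_four`, `kdAll_five` : the hypotheses
* `simple_of_stab_simple` : a two-transitive group of non-prime-power degree with simple point stabiliser
  is simple
* `iso_alternating` : groups of order `n!/2` on `n` points
* `odd_cases` : the possibilities in odd degree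
-/

set_option autoImplicit false
set_option linter.style.haveILetI false
set_option linter.unusedSectionVars false

namespace Cfsg.Agent.TwoPointA5

open MulAction Subgroup

universe u v

variable {G : Type u} {Ω : Type v} [Group G] [MulAction G Ω]

theorem t2_of_pretransitive (h2 : IsMultiplyPretransitive G Ω 2) : T2 G Ω := fun _ _ _ _ hpq hpq' =>
  is_two_pretransitive_iff.1 h2 hpq hpq'

/-- All two-point stabilisers are isomorphic. -/
theorem pair_stab_equiv (t2 : T2 G Ω) {a b p q : Ω} (hab : a ≠ b) (hpq : p ≠ q) :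
    Nonempty (↥(stabilizer G p ⊓ stabilizer G q) ≃* ↥(stabilizer G a ⊓ stabilizer G b)) := by
  obtain ⟨g, hga, hgb⟩ := t2 a b p q hab hpq
  have hmap : (stabilizer G a ⊓ stabilizer G b).map (MulAut.conj g).toMonoidHom =
      stabilizer G p ⊓ stabilizer G q := by
    ext k
    simp only [mem_map_equiv, MulAut.conj_symm_apply, mem_inf, mem_stabilizer_iff, mul_smul, inv_smul_eq_iff,
      hga, hgb]
  exact ⟨((MulEquiv.subgroupCongr hmap.symm).trans
    (equivMapOfInjective _ (MulAut.conj g).toMonoidHom (MulAut.conj g).injective).symm)⟩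

theorem kdAll_four (t2 : T2 G Ω) {a b : Ω} (hab : a ≠ b)
    (e : ↥(stabilizer G a ⊓ stabilizer G b) ≃* ↥(alternatingGroup (Fin 4))) :
    ∀ p q : Ω, p ≠ q → KData (stabilizer G p ⊓ stabilizer G q) 3 := fun _ _ hpq => by
  obtain ⟨f⟩ := pair_stab_equiv t2 hab hpq
  exact kdata_four (f.trans e)

theorem kdAll_five (t2 : T2 G Ω) {a b : Ω} (hab : a ≠ b)
    (e : ↥(stabilizer G a ⊓ stabilizer G b) ≃* ↥(alternatingGroup (Fin 5))) :
    ∀ p q : Ω, p ≠ q → KData (stabilizer G p ⊓ stabilizer G q) 15 := fun _ _ hpq => by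
  obtain ⟨f⟩ := pair_stab_equiv t2 hab hpq
  exact kdata_five (f.trans e)

/-- A two-transitive group of non-prime-power degree with a simple point stabiliser is simple. -/
theorem simple_of_stab_simple [Finite G] [Finite Ω] [FaithfulSMul G Ω] (h2 : IsMultiplyPretransitive G Ω 2)
    (hn : ¬ IsPrimePow (Nat.card Ω)) (hn2 : 2 ≤ Nat.card Ω) (a : Ω) (hs : IsSimpleGroup ↥(stabilizer G a)) :
    IsSimpleGroup G := by
  classical
  haveI := h2
  haveI : IsPreprimitive G Ω := isPreprimitive_of_is_two_pretransitive h2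
  haveI : IsPretransitive G Ω := inferInstance
  haveI : Nontrivial Ω := Finite.one_lt_card_iff_nontrivial.1 (by omega)
  haveI hG : Nontrivial G := by
    obtain ⟨p, q, hpq⟩ := exists_pair_ne Ω
    obtain ⟨g, hg⟩ := exists_smul_eq G p q
    exact ⟨g, 1, fun e => hpq (by rw [← hg, e, one_smul])⟩
  obtain ⟨N, ⟨hNn, hNne⟩, hmin⟩ := (wellFounded_lt (α := Subgroup G)).has_min
    {N : Subgroup G | N.Normal ∧ N ≠ ⊥} ⟨⊤, inferInstance, top_ne_bot⟩
  haveI := hNn
  have hmin' : ∀ M : Subgroup G, M.Normal → M ≤ N → M = ⊥ ∨ M = N := fun M hM hle => by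
    by_contra hc
    push Not at hc
    exact hmin M ⟨hM, hc.1⟩ (lt_of_le_of_ne hle hc.2)
  haveI hNt : IsPretransitive ↥N Ω := by
    haveI : IsPreprimitive G Ω := isPreprimitive_of_is_two_pretransitive h2
    exact Perm.isPretransitive_of_normal_ne_bot hNne
  rcases Perm.burnside_minimal_normal h2 hNne hmin' with ⟨-, ⟨p, hp, hexp⟩, hreg⟩ | ⟨hsimple, -, hstab⟩
  · exfalso
    refine hn ?_
    have h := (stabilizer ↥N a).index_mul_card
    rw [index_stabilizer_of_transitive, hreg a, card_bot, mul_one] at h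
    haveI : Fact p.Prime := ⟨hp⟩
    have hP : IsPGroup p ↥N := fun n => ⟨1, by rw [pow_one]; exact hexp n⟩
    obtain ⟨k, hk⟩ := IsPGroup.iff_card.1 hP
    rw [h, hk]
    refine (hp.prime.isPrimePow).pow fun e => ?_
    rw [e, pow_zero] at hk
    omega
  · haveI hn' : (N.subgroupOf (stabilizer G a)).Normal := inferInstance
    have htop : N = ⊤ := by
      rcases hs.eq_bot_or_eq_top_of_normal _ hn' with h | h
      · exfalso
        refine hstab a (eq_bot_iff.2 fun n hn => ?_)
        have hm : (⟨n.1, hn⟩ : ↥(stabilizer G a)) ∈ N.subgroupOf (stabilizer G a) := n.2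
        rw [h, mem_bot, Subtype.ext_iff] at hm
        exact mem_bot.2 (Subtype.ext hm)
      · refine eq_top_iff.2 fun g _ => ?_
        obtain ⟨n, hn⟩ := exists_smul_eq ↥N a (g • a)
        have hm : n.1⁻¹ * g ∈ stabilizer G a :=
          mem_stabilizer_iff.2 (by rw [mul_smul, ← hn]; exact inv_smul_smul n.1 a)
        have := subgroupOf_eq_top.1 h hm
        rw [show g = n.1 * (n.1⁻¹ * g) from (mul_inv_cancel_left _ _).symm]
        exact mul_mem n.2 this
    subst htop
    exact Subgroup.topEquiv.symm.isSimpleGroup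

/-- A group of order `n!/2` acting faithfully on `n` points is alternating. -/
theorem iso_alternating [Finite G] [Finite Ω] [FaithfulSMul G Ω] {n : ℕ} (hΩ : Nat.card Ω = n) (hn : 2 ≤ n)
    (hG : 2 * Nat.card G = n.factorial) : Nonempty (G ≃* ↥(alternatingGroup (Fin n))) := by
  classical
  subst hΩ
  let e := Finite.equivFin Ω
  let f : G →* Equiv.Perm (Fin (Nat.card Ω)) := e.permCongrHom.toMonoidHom.comp (MulAction.toPermHom G Ω)
  have hf : Function.Injective f := e.permCongrHom.injective.comp MulAction.toPerm_injective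
  have hi : f.range.index = 2 := by
    have h := f.range.card_mul_index
    rw [Nat.card_congr (MonoidHom.ofInjective hf).toEquiv.symm, Nat.card_perm, Nat.card_eq_fintype_card (α := Fin _),
      Fintype.card_fin] at h
    have hpos : 0 < Nat.card G := Nat.card_pos
    nlinarith
  exact ⟨(MonoidHom.ofInjective hf).trans (MulEquiv.subgroupCongr (Equiv.Perm.eq_alternatingGroup_of_index_eq_two hi))⟩

namespace Ctx

variable [Finite G] [Finite Ω] {a b : Ω} {ι : ℕ} {i x : G} (C : Ctx G Ω a b ι i x)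
include C

/-- **The odd degrees.** -/
theorem odd_cases [FaithfulSMul G Ω] (hodd : Odd (Nat.card Ω)) :
    lamN G a b = 1 ∨
    (ι = 15 ∧ Nat.card Ω = 7 ∧ Nat.card G = 2520) ∨
    (ι = 3 ∧ Nat.card Ω = 15 ∧ Nat.card G = 2520 ∧ IsSimpleGroup ↥(stabilizer G a)) ∨
    (ι = 3 ∧ Nat.card Ω = 91 ∧ Nat.card G = 98280 ∧
      ∀ N : Subgroup ↥(stabilizer G a), N.Normal → 2 ∣ Nat.card N → 360 ∣ Nat.card N) := by
  rcases C.odd_dichotomy hodd with h | ⟨hd, hall⟩
  · exact Or.inl h
  refine Or.inr ?_
  rcases C.fixV_le.lt_or_eq with hlt | heq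
  · exfalso
    obtain ⟨e, he, hfs⟩ := C.fix_sub_eq hlt
    obtain ⟨s', hs'⟩ : ∃ s', fixV a b i = s' + 1 := ⟨fixV a b i - 1, by have := C.two_le_fixV; omega⟩
    obtain ⟨m, hm⟩ : ∃ m, fixN Ω i = m + fixV a b i := ⟨fixN Ω i - fixV a b i, by omega⟩
    rw [hm, Nat.add_sub_cancel, hs', Nat.add_sub_cancel] at hfs
    rcases he with rfl | rfl
    · exact C.oddB1_false hodd (by rw [hm, hs', hfs]; ring) hall
    · exact C.oddB2_false hodd (by rw [hm, hs', hfs]; ring) hall hd
  · exact C.oddA_cases hodd hall hd heq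

end Ctx

end Cfsg.Agent.TwoPointA5
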