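import Cfsg.Agent.Lib.TwoPointA5.Even
import Cfsg.Agent.Lib.Perm.Burnside
import Cfsg.Agent.Lib.Cores.Subnormal
import Cfsg.Agent.Lib.SmallOrders.Orders.Below6232
import Cfsg.Agent.Lib.SmallOrders.Orders.Between
import Cfsg.Agent.Lib.SmallOrders.Orders.Below1092
import Cfsg.Agent.Lib.OddOrderTheorem.Basic
import Mathlib.RingTheory.AdjoinRoot
import Mathlib.LinearAlgebra.AffineSpace.AffineEquiv
import Mathlib.LinearAlgebra.Matrix.GeneralLinearGroup.Card

/-!
# Two-point stabiliser A₄: the degrees 16, 28 and 91 (owner: helper13)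

* `socle_cases` : the minimal normal subgroup is regular or simple
* `affine16` : degree 16 gives the affine group over four elements
* `false28`, `false91` : degrees 28 and 91 do not occur
-/

set_option autoImplicit false
set_option linter.style.haveILetI false
set_option linter.unusedSectionVars false

namespace Cfsg.Agent.TwoPointA5

open MulAction Subgroup

universe u v

/-- The simple groups of order at most 6232, as far as needed. -/
theorem small_simple {H : Type u} [Group H] [Finite H] [IsSimpleGroup H] (hH : ¬ IsMulCommutative H)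
    (h : Nat.card H ≤ 6232) :
    Nat.card H ∈ [60, 168, 360, 504, 660, 1092, 2448, 2520, 3420, 4080, 5616, 6048, 6072] := by
  simp only [List.mem_cons, List.mem_nil_iff, or_false]
  rcases Nat.lt_or_ge 1092 (Nat.card H) with h1 | h1
  · rcases Nat.lt_or_ge 3640 (Nat.card H) with h2 | h2
    · have := SmallOrders.Below6232.mem_orders hH h2 h
      omega
    · have := SmallOrders.Between.mem_orders hH h1 h2
      omega
  · have h3 := SmallOrders.Below1092.mem_orders hH h1
    simp only [List.mem_cons, List.mem_nil_iff, or_false] at h3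
    omega

namespace Ctx

variable {G : Type u} {Ω : Type v} [Group G] [MulAction G Ω] [Finite G] [Finite Ω] {a b : Ω} {ι : ℕ} {i x : G}
  (C : Ctx G Ω a b ι i x)
include C

/-- The minimal normal subgroup is regular elementary abelian, or simple with nontrivial stabilisers. -/
theorem socle_cases [FaithfulSMul G Ω] :
    ∃ N : Subgroup G, N.Normal ∧
      ((IsMulCommutative N ∧ (∃ p : ℕ, p.Prime ∧ ∀ n : N, n ^ p = 1) ∧ IsPretransitive N Ω ∧
          (∀ c : Ω, stabilizer N c = ⊥) ∧ Nat.card N = Nat.card Ω) ∨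
        (IsSimpleGroup N ∧ 1 < Nat.card (stabilizer N a) ∧
          Nat.card N = Nat.card Ω * Nat.card (stabilizer N a) ∧
          Nat.card (stabilizer N a) ∣ Nat.card (stabilizer G a))) := by
  have h2 : IsMultiplyPretransitive G Ω 2 :=
    is_two_pretransitive_iff.2 fun {p q p' q'} h h' => C.t2 p q p' q' h h'
  haveI : Nontrivial G := ⟨⟨i, 1, C.i_ne_one⟩⟩
  obtain ⟨N, hN, hNb, hmin⟩ := Cores.exists_minimal_normal (G := G)
  haveI := isPreprimitive_of_is_two_pretransitive h2
  have hNt : IsPretransitive N Ω := Perm.isPretransitive_of_normal_ne_bot hNb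
  haveI : Nonempty Ω := ⟨a⟩
  refine ⟨N, hN, ?_⟩
  rcases Perm.burnside_minimal_normal h2 hNb hmin with ⟨hc, hp, hreg⟩ | ⟨hs, -, hnr⟩
  · exact Or.inl ⟨hc, hp, hNt, hreg, Perm.card_eq_of_regular hNt hreg⟩
  · refine Or.inr ⟨hs, Subgroup.one_lt_card_iff_ne_bot _ |>.2 (hnr a), ?_, ?_⟩
    · rw [← (stabilizer N a).card_mul_index, index_stabilizer_of_transitive, mul_comm]
    · rw [← Subgroup.card_map_of_injective (f := N.subtype) N.subtype_injective]
      refine Subgroup.card_dvd_of_le ?_
      rintro _ ⟨n, hn, rfl⟩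
      exact mem_stabilizer_iff.2 (mem_stabilizer_iff.1 hn)

/-- For even degree an even point stabiliser of a normal subgroup has order divisible by four. -/
theorem four_dvd_stab [FaithfulSMul G Ω] (heven : Even (Nat.card Ω)) {N : Subgroup G} [N.Normal]
    (h : 2 ∣ Nat.card (stabilizer N a)) : 4 ∣ Nat.card (stabilizer N a) := by
  obtain ⟨t, ht⟩ := exists_prime_orderOf_dvd_card' (G := stabilizer N a) 2
    (hp := ⟨Nat.prime_two⟩) h
  set u : G := ((t : N) : G) with hu
  have huo : orderOf u = 2 := by rw [hu, Subgroup.orderOf_coe, Subgroup.orderOf_coe, ht]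
  have hua : u • a = a := mem_stabilizer_iff.1 t.2
  obtain ⟨-, p, q, hpq, hp, hq⟩ := C.fixTwo_of_even heven huo hua
  obtain ⟨r, hra, hr⟩ : ∃ r, r ≠ a ∧ u • r = r := by
    by_cases hpa : p = a
    · exact ⟨q, fun e => hpq (hpa.trans e.symm), hq⟩
    · exact ⟨p, hpa, hp⟩
  obtain ⟨y, C'⟩ := C.exists_ctx_at huo (Ne.symm hra) hua hr
  rw [← C'.card_four, ← Subgroup.card_map_of_injective (f := N.subtype) N.subtype_injective]
  refine Subgroup.card_dvd_of_le fun v hv => ?_
  have hvN : v ∈ N := by
    have h1 : u ∈ N := (t : N).2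
    have h3 : y * u * y⁻¹ ∈ N := Subgroup.Normal.conj_mem inferInstance u h1 y
    rcases C'.four_eq hv with rfl | rfl | rfl | rfl
    · exact one_mem N
    · exact h1
    · exact h3
    · exact mul_mem h1 h3
  exact ⟨⟨v, hvN⟩, mem_stabilizer_iff.2 (mem_stabilizer_iff.1 hv.2.1), rfl⟩

end Ctx

variable {G : Type u} {Ω : Type v} [Group G] [MulAction G Ω] [Finite G] [Finite Ω] {a b : Ω} {i x : G}

/-- Degree 28 does not occur. -/
theorem false28 [FaithfulSMul G Ω] (C : Ctx G Ω a b 3 i x) (hn : Nat.card Ω = 28)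
    (hG : Nat.card G = 9072) : False := by
  have hGa : Nat.card (stabilizer G a) = 324 := by rw [C.card_stab', hn]
  obtain ⟨N, hN, ⟨-, ⟨p, hp, hpow⟩, -, -, hcard⟩ | ⟨hs, h1, hcard, hdvd⟩⟩ := C.socle_cases
  · have key : ∀ r : ℕ, r.Prime → r ∣ 28 → r = p := by
      intro r hr hr28
      haveI := Fact.mk hr
      obtain ⟨n, hn'⟩ := exists_prime_orderOf_dvd_card' (G := N) r (by rw [hcard, hn]; exact hr28)
      exact (Nat.prime_dvd_prime_iff_eq hr hp).1 (hn' ▸ orderOf_dvd_of_pow_eq_one (hpow n))
    have := (key 2 Nat.prime_two (by norm_num)).trans (key 7 (by norm_num) (by norm_num)).symm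
    omega
  rw [hn] at hcard
  rw [hGa] at hdvd
  generalize hd : Nat.card (stabilizer N a) = d at h1 hcard hdvd
  have hd' : d ∈ Nat.divisors 324 := Nat.mem_divisors.2 ⟨hdvd, by norm_num⟩
  have hH : ¬ IsMulCommutative N := SmallOrders.not_isMulCommutative_of_card (by
    rw [hcard]; exact Nat.not_prime_mul (by norm_num) (by omega))
  have h4 : 2 ∣ d → 4 ∣ d := fun h => hd ▸ C.four_dvd_stab (hn ▸ by decide) (hd.symm ▸ h)
  have hle : Nat.card N ∣ 9072 := hG ▸ Subgroup.card_subgroup_dvd_card N
  rcases Nat.lt_or_ge 6232 (Nat.card N) with hbig | hsmall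
  · have h9072 : Nat.card N = 9072 := by
      obtain ⟨k, hk⟩ := hle
      rcases Nat.lt_or_ge k 2 with hk2 | hk2
      · interval_cases k <;> omega
      · nlinarith
    exact SmallOrders.BlockDegrees.card_ne_of_blockBool hH 7 96 (by decide +kernel) h9072
  · have hmem := small_simple hH hsmall
    rw [hcard] at hmem
    have key : ∀ d ∈ Nat.divisors 324, (28 * d ∈ [60, 168, 360, 504, 660, 1092, 2448, 2520, 3420, 4080,
        5616, 6048, 6072]) → 2 ∣ d ∧ ¬ 4 ∣ d := by decide +kernel
    obtain ⟨k2, k4⟩ := key d hd' hmem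
    exact k4 (h4 k2)

/-- No element of order two or five centralises an element of order 13 in degree 91. -/
theorem no_commute91 [FaithfulSMul G Ω] (C : Ctx G Ω a b 3 i x) (hn : Nat.card Ω = 91)
    {z u : G} (hz : orderOf z = 13) {r : ℕ} (hr : r = 2 ∨ r = 5) (hu : orderOf u = r)
    (hc : Commute z u) : False := by
  haveI : Fact r.Prime := ⟨by rcases hr with rfl | rfl <;> norm_num⟩
  have hstab : ∀ p : Ω, Nat.card (stabilizer G p) = 1080 := fun p => by
    classical
    obtain ⟨g, hg, -⟩ := C.t2 a b p (if p = a then b else a) C.ne (by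
      split_ifs with h
      · rw [h]; exact C.ne
      · exact h)
    rw [← hg, Nat.card_congr (stabilizerEquivStabilizer (g := g) (a := a) rfl).symm.toEquiv,
      C.card_stab', hn]
  -- a fixed point of `u`
  have hP : IsPGroup r (Subgroup.zpowers u) :=
    IsPGroup.of_card (n := 1) (by rw [pow_one, Nat.card_zpowers, hu])
  obtain ⟨p, hp⟩ := hP.nonempty_fixed_point_of_prime_not_dvd_card Ω (by
    rw [hn]; rcases hr with rfl | rfl <;> norm_num)
  have hup : u • p = p := hp ⟨u, Subgroup.mem_zpowers u⟩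
  have hfree : ∀ k l : ℕ, k < 13 → l < 13 → z ^ k • p = z ^ l • p → k = l := by
    intro k l hk hl h
    wlog hle : l ≤ k generalizing k l
    · exact (this l k hl hk h.symm (by omega)).symm
    by_contra hne
    have hm : z ^ (k - l) ∈ stabilizer G p := by
      rw [mem_stabilizer_iff]
      apply smul_left_cancel (z ^ l)
      rw [← mul_smul, ← pow_add, Nat.add_sub_cancel' hle, h]
    have h13 : orderOf (z ^ (k - l)) = 13 := by
      rw [orderOf_pow' z (by omega), hz]
      rw [show Nat.gcd 13 (k - l) = 1 from (Nat.Prime.coprime_iff_not_dvd (by norm_num)).2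
        (fun hd => absurd (Nat.le_of_dvd (by omega) hd) (by omega))]
    have := Subgroup.orderOf_dvd_natCard _ hm
    rw [h13, hstab] at this
    norm_num at this
  have hq : ∀ k : ℕ, u • (z ^ k • p) = z ^ k • p := fun k => by
    rw [← mul_smul, ← (hc.pow_left k).eq, mul_smul, hup]
  have hne : p ≠ z ^ 1 • p := fun e => absurd (hfree 0 1 (by norm_num) (by norm_num) (by rwa [pow_zero, one_smul])) (by norm_num)
  rcases hr with rfl | rfl
  · -- the count of fixed points
    obtain ⟨y, C'⟩ := C.exists_ctx_at hu hne hup (hq 1)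
    have hf : 13 ≤ fixN Ω u := by
      rw [fixN]
      refine le_of_eq_of_le (by rw [Nat.card_fin]) (Nat.card_le_card_of_injective
        (fun k : Fin 13 => (⟨z ^ (k : ℕ) • p, hq k⟩ : fixedBy Ω u))
        (fun k l h => Fin.ext (hfree k l k.2 l.2 (congrArg Subtype.val h))))
    have hlt := C'.fix_lt
    have hd := C'.swap_pos
    have hpar := C'.fix_parity
    have hcount := C'.count
    rw [hn] at hlt hpar hcount
    generalize fixN Ω u = f at hf hlt hpar hcount
    generalize swapN G p (z ^ 1 • p) = d at hd hcount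
    have hf17 : f ≤ 17 := by
      by_contra hlt'
      obtain ⟨c, hc⟩ : ∃ c, f = c + 18 := ⟨f - 18, by omega⟩
      have h1 : 18 * 17 ≤ f * (f - 1) := Nat.mul_le_mul (by omega) (by omega)
      have h2 : 1 * (f * (f - 1)) ≤ d * (f * (f - 1)) := Nat.mul_le_mul_right _ hd
      omega
    interval_cases f <;> omega
  · -- the two-point stabiliser has order twelve
    have hm : u ∈ stabilizer G p ⊓ stabilizer G (z ^ 1 • p) :=
      ⟨mem_stabilizer_iff.2 hup, mem_stabilizer_iff.2 (hq 1)⟩
    have h5 := Subgroup.orderOf_dvd_natCard _ hm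
    rw [hu, (C.kdAll p _ hne).card] at h5
    norm_num at h5

/-- Degree 91 does not occur. -/
theorem false91 [FaithfulSMul G Ω] (C : Ctx G Ω a b 3 i x) (hn : Nat.card Ω = 91)
    (hG : Nat.card G = 98280)
    (hN : ∀ N : Subgroup (stabilizer G a), N.Normal → 2 ∣ Nat.card N → 360 ∣ Nat.card N) : False := by
  have hGa : Nat.card (stabilizer G a) = 1080 := by rw [C.card_stab', hn]
  obtain ⟨N, hNn, ⟨-, ⟨p, hp, hpow⟩, -, -, hcard⟩ | ⟨hs, h1, hcard, hdvd⟩⟩ := C.socle_cases
  · have key : ∀ r : ℕ, r.Prime → r ∣ 91 → r = p := by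
      intro r hr hr28
      haveI := Fact.mk hr
      obtain ⟨n, hn'⟩ := exists_prime_orderOf_dvd_card' (G := N) r (by rw [hcard, hn]; exact hr28)
      exact (Nat.prime_dvd_prime_iff_eq hr hp).1 (hn' ▸ orderOf_dvd_of_pow_eq_one (hpow n))
    have := (key 13 (by norm_num) (by norm_num)).trans (key 7 (by norm_num) (by norm_num)).symm
    omega
  rw [hn] at hcard
  rw [hGa] at hdvd
  have hH : ¬ IsMulCommutative N := SmallOrders.not_isMulCommutative_of_card (by
    rw [hcard]; exact Nat.not_prime_mul (by norm_num) (by omega))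
  have h2 : 2 ∣ Nat.card (stabilizer N a) := by
    by_contra h
    have hodd : Odd (Nat.card N) := by
      rw [hcard, Nat.odd_mul]
      exact ⟨by decide, Nat.odd_iff.2 (by omega)⟩
    haveI := OddOrderTheorem.solvable hodd
    exact hH ⟨⟨IsSimpleGroup.comm_iff_isSolvable.mpr inferInstance⟩⟩
  have e : (N.subgroupOf (stabilizer G a)).map (stabilizer G a).subtype = (stabilizer N a).map N.subtype := by
    rw [Subgroup.subgroupOf_map_subtype]
    ext g
    constructor
    · rintro ⟨hgN, hga⟩
      exact ⟨⟨g, hgN⟩, mem_stabilizer_iff.2 (mem_stabilizer_iff.1 hga), rfl⟩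
    · rintro ⟨n, hn', rfl⟩
      exact ⟨n.2, mem_stabilizer_iff.2 (mem_stabilizer_iff.1 hn')⟩
  have e' : Nat.card (N.subgroupOf (stabilizer G a)) = Nat.card (stabilizer N a) := by
    rw [← Subgroup.card_map_of_injective (f := (stabilizer G a).subtype) (Subgroup.subtype_injective _), e,
      Subgroup.card_map_of_injective N.subtype_injective]
  have h360 := hN (N.subgroupOf (stabilizer G a)) inferInstance (e'.symm ▸ h2)
  rw [e'] at h360
  haveI : Fact (Nat.Prime 13) := ⟨by norm_num⟩
  -- an element of order thirteen centralised by one of order two or five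
  suffices h : ∃ z : N, orderOf z = 13 ∧ ∃ r : ℕ, (r = 2 ∨ r = 5) ∧
      r ∣ Nat.card (centralizer ({z} : Set N)) by
    obtain ⟨z, hz, r, hr, hrd⟩ := h
    haveI : Fact r.Prime := ⟨by rcases hr with rfl | rfl <;> norm_num⟩
    obtain ⟨y, hy⟩ := exists_prime_orderOf_dvd_card' r hrd
    refine no_commute91 C hn (z := (z : G)) (u := ((y : N) : G))
      (by rw [Subgroup.orderOf_coe, hz]) hr (by rw [Subgroup.orderOf_coe, Subgroup.orderOf_coe, hy]) ?_
    exact (congrArg Subtype.val (Subgroup.mem_centralizer_singleton_iff.1 y.2)).symm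
  obtain ⟨k, hk⟩ := h360
  obtain ⟨l, hl⟩ := hdvd
  have hk' : k = 1 ∨ k = 3 := by
    have : 3 = k * l := by
      have : 360 * 3 = 360 * (k * l) := by rw [← mul_assoc, ← hk, ← hl]
      omega
    exact Nat.prime_three.eq_one_or_self_of_dvd k ⟨l, this⟩
  rcases hk' with rfl | rfl
  · have hc : Nat.card N = 32760 := by rw [hcard, hk]
    obtain ⟨z, j, hmem, hz, hNz, hC⟩ := SmallOrders.BlockDegrees.mem_of_blockBool hH hc 13 181 [(105, 4)]
      (by decide +kernel)
    simp only [List.mem_singleton, Prod.mk.injEq] at hmem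
    obtain ⟨hd, rfl⟩ := hmem
    rw [hd] at hNz
    exact ⟨z, hz, 2, Or.inl rfl, by omega⟩
  · have hc : Nat.card N = 98280 := by rw [hcard, hk]
    obtain ⟨z, j, hmem, hz, hNz, hC⟩ := SmallOrders.BlockDegrees.mem_of_blockBool hH hc 13 314
      [(105, 2), (105, 4), (105, 6), (105, 12), (378, 2), (378, 4)] (by decide +kernel)
    simp only [List.mem_cons, List.mem_nil_iff, or_false, Prod.mk.injEq] at hmem
    refine ⟨z, hz, 5 - 3 * (if Nat.card (Sylow 13 N) = 105 then 1 else 0), ?_, ?_⟩
    · split_ifs <;> simp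
    · rcases hmem with ⟨hd, rfl⟩ | ⟨hd, rfl⟩ | ⟨hd, rfl⟩ | ⟨hd, rfl⟩ | ⟨hd, rfl⟩ | ⟨hd, rfl⟩ <;>
        rw [hd] at hNz ⊢ <;> norm_num <;> omega

open Polynomial in
/-- The field with four elements and an elementary abelian group with an operator of order three. -/
theorem exists_module_four {V : Type u} [AddCommGroup V] (h2 : ∀ v : V, 2 • v = 0) (T : V →+ V)
    (hT : ∀ v, T (T v) + T v + v = 0) :
    ∃ (F : Type) (_ : Field F) (_ : Fintype F), Fintype.card F = 4 ∧
      ∃ φ : F →+* AddMonoid.End V, ∀ L : V →+ V, (∀ v, L (T v) = T (L v)) →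
        ∀ (c : F) (v : V), L (φ c v) = φ c (L v) := by
  classical
  set p : (ZMod 2)[X] := X ^ 2 + X + 1 with hp
  have hdeg : p.natDegree = 2 := by
    rw [hp]; compute_degree!
  have hm : p.Monic := by
    rw [hp]; monicity!
  have hirr : Irreducible p := by
    rw [Polynomial.Monic.irreducible_iff_roots_eq_zero_of_degree_le_three hm (by omega) (by omega),
      Multiset.eq_zero_iff_forall_notMem]
    intro c hc
    have h := (mem_roots'.1 hc).2
    rw [hp, IsRoot.def, eval_add, eval_add, eval_pow, eval_X, eval_one] at h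
    clear hc
    revert h
    revert c
    decide
  haveI := Fact.mk hirr
  letI : Module (ZMod 2) V := AddCommGroup.zmodModule h2
  let b : ZMod 2 →+* AddMonoid.End V := Module.toAddMonoidEnd (ZMod 2) V
  let T' : AddMonoid.End V := T
  have hcomm : ∀ c, Commute (b c) T' := fun c =>
    AddMonoidHom.ext fun v => (ZMod.map_smul T c v).symm
  let ψ : (ZMod 2)[X] →+* AddMonoid.End V := eval₂RingHom' b T' hcomm
  have hψp : ψ p = 0 := by
    show eval₂ b T' p = 0
    rw [hp, eval₂_add, eval₂_add, eval₂_X_pow, eval₂_X, eval₂_one, sq]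
    exact AddMonoidHom.ext hT
  let φ : AdjoinRoot p →+* AddMonoid.End V := Ideal.Quotient.lift (Ideal.span {p}) ψ (fun q hq => by
    obtain ⟨r, rfl⟩ := Ideal.mem_span_singleton'.1 hq
    rw [map_mul, hψp, mul_zero])
  have hfin : Module.Finite (ZMod 2) (AdjoinRoot p) := (AdjoinRoot.powerBasis hm.ne_zero).finite
  haveI : Finite (AdjoinRoot p) := Module.finite_of_finite (ZMod 2)
  letI := Fintype.ofFinite (AdjoinRoot p)
  refine ⟨AdjoinRoot p, inferInstance, inferInstance, ?_, φ, fun L hL c v => ?_⟩
  · rw [← Nat.card_eq_fintype_card, Module.natCard_eq_pow_finrank (K := ZMod 2),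
      (AdjoinRoot.powerBasis hm.ne_zero).finrank, AdjoinRoot.powerBasis_dim, hdeg, Nat.card_zmod]
    norm_num
  · obtain ⟨q, rfl⟩ := AdjoinRoot.mk_surjective c
    show L (ψ q v) = ψ q (L v)
    revert v
    induction q using Polynomial.induction_on with
    | C c =>
      intro v
      show L (eval₂ b T' (C c) v) = eval₂ b T' (C c) (L v)
      rw [eval₂_C]
      exact ZMod.map_smul L c v
    | add q r hq hr =>
      intro v
      rw [map_add]
      exact (map_add L _ _).trans (congrArg₂ (· + ·) (hq v) (hr v))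
    | monomial n c hq =>
      intro v
      rw [pow_succ, ← mul_assoc, map_mul]
      have hX : ψ X = T' := eval₂_X ..
      rw [hX]
      exact (hq (T v)).trans (congrArg _ (hL v))

/-- Degree 16 gives the affine group over the field with four elements. -/
theorem affine16 [FaithfulSMul G Ω] (C : Ctx G Ω a b 3 i x) (hn : Nat.card Ω = 16) (hG : Nat.card G = 2880)
    (hO : Nat.card ↥(Cfsg.oddCore ↥(stabilizer G a)) = 3)
    (hs : IsSimpleGroup (↥(stabilizer G a) ⧸ Cfsg.oddCore ↥(stabilizer G a))) :
    ∃ (F : Type) (_ : Field F) (_ : Fintype F), Fintype.card F = 4 ∧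
      Nonempty (G ≃* ((Fin 2 → F) ≃ᵃ[F] (Fin 2 → F))) := by
  classical
  have hGa : Nat.card (stabilizer G a) = 180 := by rw [C.card_stab', hn]
  obtain ⟨N, hN, ⟨hc, ⟨p, hp, hpow⟩, hNt, hreg, hcard⟩ | ⟨hs', h1, hcard, hdvd⟩⟩ := C.socle_cases
  swap
  · exfalso
    rw [hn] at hcard
    rw [hGa] at hdvd
    have hH : ¬ IsMulCommutative N := SmallOrders.not_isMulCommutative_of_card (by
      rw [hcard]; exact Nat.not_prime_mul (by norm_num) (by omega))
    have hd' : Nat.card (stabilizer N a) ∈ Nat.divisors 180 := Nat.mem_divisors.2 ⟨hdvd, by norm_num⟩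
    have hmem := small_simple hH (by
      rw [hcard]
      have := Nat.le_of_dvd (by norm_num) hdvd
      omega)
    rw [hcard] at hmem
    revert hmem
    generalize Nat.card (stabilizer N a) = d at hd'
    revert d
    decide +kernel
  rw [hn] at hcard
  -- exponent two
  have hp2 : p = 2 := by
    haveI := Fact.mk Nat.prime_two
    obtain ⟨n, hn'⟩ := exists_prime_orderOf_dvd_card' (G := N) 2 (by rw [hcard]; norm_num)
    exact ((Nat.prime_dvd_prime_iff_eq Nat.prime_two hp).1 (hn' ▸ orderOf_dvd_of_pow_eq_one (hpow n))).symm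
  subst hp2
  -- the core of order three is central in the stabiliser
  set O := Cfsg.oddCore ↥(stabilizer G a) with hOdef
  haveI : O.Normal := by rw [hOdef]; infer_instance
  have hcent : ∀ h : stabilizer G a, ∀ o ∈ O, h * o = o * h := by
    set Z := (MulAut.conjNormal : stabilizer G a →* MulAut O).ker with hZ
    have hOZ : O ≤ Z := by
      intro o ho
      haveI : IsCyclic O := isCyclic_of_prime_card (hO.trans rfl : Nat.card O = 3) (hp := ⟨Nat.prime_three⟩)
      letI := IsCyclic.commGroup (α := O)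
      rw [hZ, MonoidHom.mem_ker]
      refine MulEquiv.ext fun y => Subtype.ext ?_
      rw [MulAut.conjNormal_apply, MulAut.one_apply]
      have := congrArg Subtype.val (mul_comm (⟨o, ho⟩ : O) y)
      exact mul_inv_eq_iff_eq_mul.2 this
    have hidx : Z.index ≤ 2 := by
      haveI : IsCyclic O := isCyclic_of_prime_card (hO.trans rfl : Nat.card O = 3) (hp := ⟨Nat.prime_three⟩)
      rw [hZ, Subgroup.index_ker]
      refine (Subgroup.card_le_card_group _).trans ?_
      rw [IsCyclic.card_mulAut, hO]
      exact le_of_eq (Nat.totient_prime Nat.prime_three)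
    have htop : Z = ⊤ := by
      rcases hs.eq_bot_or_eq_top_of_normal (Z.map (QuotientGroup.mk' O))
        (Subgroup.Normal.map inferInstance _ (QuotientGroup.mk'_surjective O)) with h | h
      · exfalso
        have hZO : Z = O := le_antisymm (by
          intro z hz
          rw [← QuotientGroup.eq_one_iff]
          exact Subgroup.mem_bot.1 (h ▸ Subgroup.mem_map_of_mem _ hz)) hOZ
        rw [hZO] at hidx
        have h2 := O.card_mul_index
        rw [hO, hGa] at h2
        omega
      · have h2 := congrArg (Subgroup.comap (QuotientGroup.mk' O)) h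
        rw [Subgroup.comap_map_eq, QuotientGroup.ker_mk', sup_eq_left.2 hOZ, Subgroup.comap_top] at h2
        exact h2
    intro h o ho
    have := MonoidHom.mem_ker.1 (htop ▸ Subgroup.mem_top h : h ∈ Z)
    have h2 := congrArg Subtype.val (DFunLike.congr_fun this ⟨o, ho⟩)
    rw [MulAut.conjNormal_apply, MulAut.one_apply] at h2
    exact mul_inv_eq_iff_eq_mul.1 h2
  -- an element of order three fixing only `a`
  obtain ⟨o, ho⟩ := exists_prime_orderOf_dvd_card' (G := O) 3 (hp := ⟨Nat.prime_three⟩) (by rw [hO])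
  set w : G := ((o : stabilizer G a) : G) with hw
  have hwo : orderOf w = 3 := by rw [hw, Subgroup.orderOf_coe, Subgroup.orderOf_coe, ho]
  have hw3 : w * (w * w) = 1 := by
    rw [← pow_two, ← pow_succ']; exact orderOf_dvd_iff_pow_eq_one.1 (by rw [hwo])
  have hwc : ∀ h : G, h • a = a → h * w = w * h := fun h hh =>
    congrArg Subtype.val (hcent ⟨h, mem_stabilizer_iff.2 hh⟩ o o.2)
  have hwa : w • a = a := mem_stabilizer_iff.1 (o : stabilizer G a).2
  have hfix : ∀ q, w • q = q → q = a := by
    intro q hq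
    by_contra hne
    have hone : w = 1 := eq_of_smul_eq_smul (α := Ω) fun r => by
      rw [one_smul]
      by_cases hra : r = a
      · rw [hra, hwa]
      obtain ⟨h, h1, h2⟩ := C.t2 a q a r (Ne.symm hne) (Ne.symm hra)
      rw [← h2, ← mul_smul, ← hwc h h1, mul_smul, hq]
    rw [hone, orderOf_one] at hwo
    omega
  -- the regular normal subgroup as a vector space over four elements
  haveI := hc
  letI : CommGroup N := { (inferInstance : Group N) with mul_comm := fun u v => hc.is_comm.comm u v }
  let cj : G →* MulAut N := MulAut.conjNormal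
  let L : G → (Additive N →+ Additive N) := fun g => (cj g).toMonoidHom.toAdditive
  have hcj : ∀ (g : G) (n : N), ((cj g n : N) : G) = g * n * g⁻¹ := fun g n => MulAut.conjNormal_apply g n
  have hinN : ∀ n m : N, cj (m : G) n = n := fun n m => Subtype.ext (by
    rw [hcj]
    have := congrArg Subtype.val (mul_comm m n)
    exact mul_inv_eq_iff_eq_mul.2 this)
  have hT : ∀ v : Additive N, L w (L w v) + L w v + v = 0 := by
    intro v
    set n : N := Additive.toMul v with hv
    show Additive.ofMul (cj w (cj w n) * cj w n * n) = Additive.ofMul 1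
    congr 1
    set t : N := cj w (cj w n) * cj w n * n with ht
    have hfixt : cj w t = t := by
      have h3 : cj w (cj w (cj w n)) = n := by
        rw [← MulAut.mul_apply, ← MulAut.mul_apply, ← map_mul, ← map_mul, mul_assoc, hw3, map_one, MulAut.one_apply]
      rw [ht, map_mul, map_mul, h3, mul_comm (n * cj w (cj w n)) (cj w n), ← mul_assoc,
        mul_comm (cj w n * n) (cj w (cj w n)), ← mul_assoc]
    have hta : w • ((t : G) • a) = (t : G) • a := by
      conv_rhs => rw [← hfixt, hcj, mul_smul, mul_smul, inv_smul_eq_iff.2 hwa.symm]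
    exact Perm.eq_of_smul_eq_of_regular hreg (a := a)
      (show t • a = (1 : N) • a by rw [one_smul]; exact hfix _ hta)
  obtain ⟨F, iF, iFF, hF4, φ, hφ⟩ := exists_module_four (V := Additive N)
    (fun v => by
      have : (Additive.toMul v) ^ 2 = 1 := hpow _
      exact congrArg Additive.ofMul this)
    (L w) hT
  refine ⟨F, iF, iFF, hF4, ?_⟩
  letI : Module F (Additive N) := Module.compHom _ φ
  have hlin : ∀ (g : G) (c : F) (v : Additive N), L g (c • v) = c • L g v := by
    intro g c v
    refine hφ (L g) (fun v => ?_) c v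
    obtain ⟨m, hm⟩ := hNt.exists_smul_eq a (g • a)
    have hh : ((m : G)⁻¹ * g) • a = a := by
      rw [mul_smul, ← hm]; exact inv_smul_smul (m : G) a
    have hg : cj g = cj ((m : G)⁻¹ * g) := by
      refine MulEquiv.ext fun n => ?_
      conv_lhs => rw [show g = (m : G) * ((m : G)⁻¹ * g) by group, map_mul, MulAut.mul_apply]
      rw [hinN]
    show Additive.ofMul (cj g (cj w (Additive.toMul v))) = Additive.ofMul (cj w (cj g (Additive.toMul v)))
    rw [hg, ← MulAut.mul_apply, ← MulAut.mul_apply, ← map_mul, ← map_mul, hwc _ hh]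
  haveI : Finite (Additive N) := inferInstanceAs (Finite N)
  have hrank : Module.finrank F (Additive N) = 2 := by
    have h := Module.natCard_eq_pow_finrank (K := F) (V := Additive N)
    rw [show Nat.card (Additive N) = 4 ^ 2 from hcard, Nat.card_eq_fintype_card, hF4] at h
    exact (Nat.pow_right_injective (by norm_num) h).symm
  let E : Additive N ≃ₗ[F] (Fin 2 → F) := LinearEquiv.ofFinrankEq _ _ (by rw [hrank]; simp)
  haveI : Nonempty Ω := ⟨a⟩
  let pt : (Fin 2 → F) ≃ Ω := (E.symm.toEquiv.trans Additive.toMul).trans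
    (Equiv.ofBijective _ (Perm.bijective_smul_of_regular hNt hreg a))
  let lg : G → ((Fin 2 → F) ≃ₗ[F] (Fin 2 → F)) := fun g =>
    (E.symm.trans (AddEquiv.toLinearEquiv (MulEquiv.toAdditive (cj g)) (hlin g))).trans E
  let aff : G → ((Fin 2 → F) ≃ᵃ[F] (Fin 2 → F)) := fun g =>
    { toEquiv := (pt.trans (MulAction.toPerm g)).trans pt.symm
      linear := lg g
      map_vadd' := fun q v => by
        show pt.symm (g • pt (v + q)) = lg g v + pt.symm (g • pt q)
        apply pt.injective
        rw [Equiv.apply_symm_apply]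
        have hpt : ∀ u u' : Fin 2 → F, pt (u + u') = (Additive.toMul (E.symm u) : N) • pt u' := fun u u' => by
          show (Additive.toMul (E.symm (u + u')) : N) • a = _ • ((Additive.toMul (E.symm u') : N) • a)
          rw [map_add, toMul_add, mul_smul]
        rw [hpt, hpt, Equiv.apply_symm_apply]
        have hl : E.symm (lg g v) = L g (E.symm v) := E.symm_apply_apply _
        rw [hl]
        show g • ((Additive.toMul (E.symm v) : N) : G) • pt q = ((cj g (Additive.toMul (E.symm v)) : N) : G) • g • pt q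
        rw [hcj, ← mul_smul, ← mul_smul, inv_mul_cancel_right] }
  let ψ : G →* ((Fin 2 → F) ≃ᵃ[F] (Fin 2 → F)) := MonoidHom.mk' aff (fun g h => AffineEquiv.ext fun q => by
    show pt.symm ((g * h) • pt q) = pt.symm (g • pt (pt.symm (h • pt q)))
    rw [Equiv.apply_symm_apply, mul_smul])
  have hinj : Function.Injective ψ := by
    intro g h e
    refine eq_of_smul_eq_smul (α := Ω) fun q => ?_
    have h1 := congrArg (fun A : (Fin 2 → F) ≃ᵃ[F] (Fin 2 → F) => A (pt.symm q)) e
    have h2 : pt.symm (g • pt (pt.symm q)) = pt.symm (h • pt (pt.symm q)) := h1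
    rwa [Equiv.apply_symm_apply, pt.symm.injective.eq_iff] at h2
  haveI : Finite ((Fin 2 → F) ≃ₗ[F] (Fin 2 → F)) :=
    Finite.of_injective (fun e => (e : (Fin 2 → F) → Fin 2 → F)) DFunLike.coe_injective
  let dec : ((Fin 2 → F) ≃ᵃ[F] (Fin 2 → F)) → ((Fin 2 → F) ≃ₗ[F] (Fin 2 → F)) × (Fin 2 → F) :=
    fun A => (A.linear, A 0)
  have hdec : Function.Injective dec := fun A B hAB => by
    obtain ⟨h1, h2⟩ := Prod.ext_iff.1 hAB
    refine AffineEquiv.ext fun q => ?_
    have e1 := A.map_vadd 0 q
    have e2 := B.map_vadd 0 q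
    simp only [vadd_eq_add, add_zero] at e1 e2
    rw [e1, e2]
    exact congrArg₂ (· + ·) (congrArg (fun l : (Fin 2 → F) ≃ₗ[F] (Fin 2 → F) => l q) h1) h2
  haveI : Finite ((Fin 2 → F) ≃ᵃ[F] (Fin 2 → F)) := Finite.of_injective dec hdec
  have hGL : Nat.card ((Fin 2 → F) ≃ₗ[F] (Fin 2 → F)) = 180 := by
    rw [← Nat.card_congr (LinearMap.GeneralLinearGroup.generalLinearEquiv F (Fin 2 → F)).toEquiv,
      ← Nat.card_congr (Matrix.GeneralLinearGroup.toLin (n := Fin 2) (R := F)).toEquiv, Matrix.card_GL_field,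
      Fin.prod_univ_two, hF4]
    norm_num
  have hle : Nat.card ((Fin 2 → F) ≃ᵃ[F] (Fin 2 → F)) ≤ 2880 := by
    refine (Nat.card_le_card_of_injective dec hdec).trans (le_of_eq ?_)
    rw [Nat.card_prod, hGL, Nat.card_fun, Nat.card_fin, Nat.card_eq_fintype_card, hF4]
    norm_num
  exact ⟨MulEquiv.ofBijective ψ ((Nat.bijective_iff_injective_and_card ψ).2
    ⟨hinj, le_antisymm (Nat.card_le_card_of_injective ψ hinj) (hle.trans hG.ge)⟩)⟩

end Cfsg.Agent.TwoPointA5
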