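import Cfsg.Agent.Lib.TwoPointA5.Lam

/-!
# The group induced on the fixed points of `i` and the one on those of the four group (owner: helper58)

* `indHom`, `IndGrp` : the action of `C(i)` on the fixed points of `i`
* `sigma_agree` : elements of `C(i) ∩ N(V) ∩ G_a` moving `b` and squaring trivially agree on `fix V`
-/

set_option autoImplicit false
set_option linter.style.haveILetI false
set_option linter.unusedSectionVars false

namespace Cfsg.Agent.TwoPointA5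

open MulAction Subgroup

universe u v

variable {G : Type u} {Ω : Type v} [Group G] [MulAction G Ω]

theorem cent_mem_fixed {i : G} (c : ↥(centralizer ({i} : Set G))) (p : ↥(fixedBy Ω i)) :
    i • (c.1 • p.1) = c.1 • p.1 :=
  Conj.cent_smul (mem_centralizer_singleton_iff.1 c.2) p.2

/-- The homomorphism to the permutations of the fixed points. -/
def indHom (Ω : Type v) [MulAction G Ω] (i : G) :
    ↥(centralizer ({i} : Set G)) →* Equiv.Perm ↥(fixedBy Ω i) :=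
  letI : MulAction ↥(centralizer ({i} : Set G)) ↥(fixedBy Ω i) :=
    { smul := fun c p => ⟨c.1 • p.1, cent_mem_fixed c p⟩
      one_smul := fun p => Subtype.ext (one_smul G p.1)
      mul_smul := fun c d p => Subtype.ext (mul_smul c.1 d.1 p.1) }
  MulAction.toPermHom _ _

theorem indHom_apply (i : G) (c : ↥(centralizer ({i} : Set G))) (p : ↥(fixedBy Ω i)) :
    ((indHom Ω i c p : ↥(fixedBy Ω i)) : Ω) = c.1 • p.1 := rfl

/-- The induced group. -/
abbrev IndGrp (Ω : Type v) [MulAction G Ω] (i : G) : Subgroup (Equiv.Perm ↥(fixedBy Ω i)) := (indHom Ω i).range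

/-- The image of an element of the centraliser. -/
def indMk (Ω : Type v) [MulAction G Ω] (i : G) (c : ↥(centralizer ({i} : Set G))) : ↥(IndGrp Ω i) :=
  ⟨indHom Ω i c, c, rfl⟩

theorem indMk_smul (i : G) (c : ↥(centralizer ({i} : Set G))) (p : ↥(fixedBy Ω i)) :
    ((indMk Ω i c • p : ↥(fixedBy Ω i)) : Ω) = c.1 • p.1 := rfl

theorem indMk_eq {i : G} {c d : ↥(centralizer ({i} : Set G))} :
    indMk Ω i c = indMk Ω i d ↔ ∀ p : Ω, i • p = p → c.1 • p = d.1 • p :=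
  ⟨fun e p hp => congrArg Subtype.val (Equiv.congr_fun (congrArg Subtype.val e) ⟨p, hp⟩),
    fun e => Subtype.ext (Equiv.ext fun p => Subtype.ext (e p.1 p.2))⟩

theorem indMk_one (i : G) : indMk Ω i 1 = 1 :=
  Subtype.ext (map_one _)

theorem indMk_mul (i : G) (c d : ↥(centralizer ({i} : Set G))) :
    indMk Ω i (c * d) = indMk Ω i c * indMk Ω i d :=
  Subtype.ext (map_mul _ c d)

theorem indMk_inv (i : G) (c : ↥(centralizer ({i} : Set G))) : indMk Ω i c⁻¹ = (indMk Ω i c)⁻¹ :=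
  Subtype.ext (map_inv _ c)

theorem indMk_surjective (i : G) : Function.Surjective (indMk Ω i) := by
  rintro ⟨_, c, rfl⟩; exact ⟨c, rfl⟩

namespace Ctx

variable [Finite G] [Finite Ω] {a b : Ω} {ι : ℕ} {i x : G} (C : Ctx G Ω a b ι i x)
include C

/-- The image of `x i x⁻¹`. -/
def indJ : ↥(IndGrp Ω i) := indMk Ω i ⟨x * i * x⁻¹, (C.xnorm i C.i_mem_four).1⟩

theorem four_act {v : G} (hv : v ∈ pairFour a b i) :
    (∀ p : Ω, i • p = p → v • p = p) ∨ (∀ p : Ω, i • p = p → v • p = (x * i * x⁻¹) • p) := by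
  rcases C.four_eq hv with rfl | rfl | rfl | rfl
  · exact Or.inl fun p _ => one_smul _ _
  · exact Or.inl fun p hp => hp
  · exact Or.inr fun p _ => rfl
  · refine Or.inr fun p hp => ?_
    rw [mul_smul]
    exact Conj.cent_smul (mem_centralizer_singleton_iff.1 (C.xnorm i C.i_mem_four).1) hp

theorem ind_pair (r : ↥(IndGrp Ω i)) (h1 : r • (⟨a, C.ia⟩ : ↥(fixedBy Ω i)) = ⟨a, C.ia⟩)
    (h2 : r • (⟨b, C.ib⟩ : ↥(fixedBy Ω i)) = ⟨b, C.ib⟩) : r = 1 ∨ r = C.indJ := by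
  obtain ⟨c, rfl⟩ := indMk_surjective i r
  have hcV : c.1 ∈ pairFour a b i := C.mem_four_of (mem_centralizer_singleton_iff.1 c.2)
    (congrArg Subtype.val h1) (congrArg Subtype.val h2)
  rcases C.four_act hcV with h | h
  · left
    rw [← indMk_one]
    exact indMk_eq.2 fun p hp => by rw [h p hp]; exact (one_smul _ _).symm
  · exact Or.inr (indMk_eq.2 h)

theorem indJ_conj (h : fixV a b i < fixN Ω i) :
    Conj (⟨a, C.ia⟩ : ↥(fixedBy Ω i)) (⟨b, C.ib⟩ : ↥(fixedBy Ω i)) C.indJ := by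
  have hjV := C.xnorm i C.i_mem_four
  have hJ : orderOf C.indJ = 2 := by
    refine orderOf_two_iff.2 ⟨fun e => ?_, ?_⟩
    · obtain ⟨q, hq, hq'⟩ := C.four_moves h
      rw [← indMk_one, indJ] at e
      exact hq' ((indMk_eq.1 e q hq).trans (one_smul _ _))
    · rw [indJ, ← indMk_mul, ← indMk_one]
      exact indMk_eq.2 fun p _ => by
        show (x * i * x⁻¹ * (x * i * x⁻¹)) • p = (1 : G) • p
        rw [C.four_sq hjV]
  refine ⟨fun e => C.ne (congrArg Subtype.val e), ?_, hJ, Subtype.ext (mem_stabilizer_iff.1 hjV.2.1),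
    Subtype.ext (mem_stabilizer_iff.1 hjV.2.2), fun u hu h1 h2 => ?_⟩
  · rintro ⟨p, hp⟩ ⟨q, hq⟩ ⟨p', hp'⟩ ⟨q', hq'⟩ h1 h2
    obtain ⟨g, hg, hga, hgb⟩ := C.conjI.cent_pairs (p := p) (q := q) (fun e => h1 (Subtype.ext e)) hp hq
    obtain ⟨g', hg', hga', hgb'⟩ := C.conjI.cent_pairs (p := p') (q := q') (fun e => h2 (Subtype.ext e)) hp' hq'
    refine ⟨indMk Ω i ⟨g' * g⁻¹, mul_mem (mem_centralizer_singleton_iff.2 hg')
      (inv_mem (mem_centralizer_singleton_iff.2 hg))⟩, Subtype.ext ?_, Subtype.ext ?_⟩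
    · show (g' * g⁻¹) • p = p'
      rw [← hga, mul_smul, inv_smul_smul, hga']
    · show (g' * g⁻¹) • q = q'
      rw [← hgb, mul_smul, inv_smul_smul, hgb']
  · rcases C.ind_pair u h1 h2 with e | e
    · exact absurd e (orderOf_two_iff.1 hu).1
    · exact ⟨1, one_smul _ _, one_smul _ _, by rw [e]; simp⟩

theorem fixN_indJ : fixN ↥(fixedBy Ω i) C.indJ = fixV a b i := by
  have hjV := C.xnorm i C.i_mem_four
  rw [fixV, fixN]
  refine Nat.card_congr ⟨fun p => ⟨p.1.1, fun v hv => ?_⟩, fun p => ⟨⟨p.1, p.2 i C.i_mem_four⟩,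
    Subtype.ext (p.2 _ hjV)⟩, fun _ => rfl, fun _ => rfl⟩
  rcases C.four_act hv with e | e
  · exact e p.1.1 p.1.2
  · rw [e p.1.1 p.1.2]; exact congrArg Subtype.val p.2

theorem ind_iota (h : fixV a b i < fixN Ω i) : {u : ↥(IndGrp Ω i) | orderOf u = 2 ∧
    u • (⟨a, C.ia⟩ : ↥(fixedBy Ω i)) = ⟨a, C.ia⟩ ∧ u • (⟨b, C.ib⟩ : ↥(fixedBy Ω i)) = ⟨b, C.ib⟩} = {C.indJ} := by
  ext u
  constructor
  · rintro ⟨hu, h1, h2⟩
    exact (C.ind_pair u h1 h2).resolve_left (orderOf_two_iff.1 hu).1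
  · rintro rfl
    exact ⟨(C.indJ_conj h).ord, (C.indJ_conj h).fa, (C.indJ_conj h).fb⟩

/-- An element of the induced point stabiliser is the image of an element of the point stabiliser. -/
theorem ind_stab_lift {r : ↥(IndGrp Ω i)} (h : r • (⟨a, C.ia⟩ : ↥(fixedBy Ω i)) = ⟨a, C.ia⟩) :
    ∃ c : ↥(centralizer ({i} : Set G)), indMk Ω i c = r ∧ c.1 • a = a := by
  obtain ⟨c, rfl⟩ := indMk_surjective i r
  exact ⟨c, rfl, congrArg Subtype.val h⟩

theorem fixV_parity (hodd : Odd (Nat.card Ω)) (h : fixV a b i < fixN Ω i) : Odd (fixV a b i) := by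
  have h1 := fixN_modEq (Φ := ↥(fixedBy Ω i)) (C.indJ_conj h).ord
  rw [C.fixN_indJ, Nat.ModEq] at h1
  refine Nat.odd_iff.2 (h1.trans ?_)
  exact C.fix_parity.trans (Nat.odd_iff.1 hodd)

/-- **Uniqueness on the fixed points of the four group.** -/
theorem sigma_agree (hs : Odd (fixV a b i)) {t y : G} (ht : t * i = i * t)
    (htN : t ∈ normalizer (pairFour a b i : Set G)) (hta : t • a = a) (htb : t • b ≠ b)
    (htq : t * t ∈ pairFour a b i) (hy : y * i = i * y)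
    (hyN : y ∈ normalizer (pairFour a b i : Set G)) (hya : y • a = a) (hyb : y • b ≠ b)
    (hyq : y * y ∈ pairFour a b i) : t⁻¹ * y ∈ pairFour a b i := by
  classical
  set H := centralizer ({i} : Set G) ⊓ normalizer (pairFour a b i : Set G) with hH
  set S := {p : Ω | ∀ v ∈ pairFour a b i, v • p = p} with hS
  have hinv : ∀ h ∈ H, ∀ p ∈ S, h • p ∈ S := by
    intro h hh p hp v hv
    have := hp _ ((mem_normalizer_iff''.1 hh.2 v).1 hv)
    rw [mul_smul, mul_smul, inv_smul_eq_iff] at this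
    exact this
  letI : MulAction ↥H ↥S :=
    { smul := fun h p => ⟨h.1 • p.1, hinv h.1 h.2 p.1 p.2⟩
      one_smul := fun p => Subtype.ext (one_smul G p.1)
      mul_smul := fun g h p => Subtype.ext (mul_smul g.1 h.1 p.1) }
  set R := (MulAction.toPermHom ↥H ↥S).range with hR
  let mk : ↥H → ↥R := fun c => ⟨MulAction.toPerm c, c, rfl⟩
  have hmk : ∀ c c' : ↥H, mk c = mk c' ↔ ∀ p : ↥S, c.1 • p.1 = c'.1 • p.1 := fun c c' =>
    ⟨fun e p => congrArg Subtype.val (Equiv.congr_fun (congrArg Subtype.val e) p),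
      fun e => Subtype.ext (Equiv.ext fun p => Subtype.ext (e p))⟩
  have haS : a ∈ S := fun v hv => mem_stabilizer_iff.1 hv.2.1
  have hbS : b ∈ S := fun v hv => mem_stabilizer_iff.1 hv.2.2
  have hne : (⟨a, haS⟩ : S) ≠ ⟨b, hbS⟩ := fun e => C.ne (congrArg Subtype.val e)
  have t2R : T2 ↥R ↥S := by
    rintro ⟨p, hp⟩ ⟨q, hq⟩ ⟨p', hp'⟩ ⟨q', hq'⟩ h1 h2
    obtain ⟨g, hg, hgN, hga, hgb⟩ := C.sigma_pairs (p := p) (q := q) (fun e => h1 (Subtype.ext e)) hp hq
    obtain ⟨g', hg', hgN', hga', hgb'⟩ := C.sigma_pairs (p := p') (q := q') (fun e => h2 (Subtype.ext e)) hp' hq'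
    refine ⟨mk (⟨g', mem_centralizer_singleton_iff.2 hg', hgN'⟩ * ⟨g, mem_centralizer_singleton_iff.2 hg, hgN⟩⁻¹),
      Subtype.ext ?_, Subtype.ext ?_⟩
    · show (g' * g⁻¹) • p = p'
      rw [← hga, mul_smul, inv_smul_smul, hga']
    · show (g' * g⁻¹) • q = q'
      rw [← hgb, mul_smul, inv_smul_smul, hgb']
  have hcount := single_count (X := ↥R) (Φ := ↥S) hne t2R (by rwa [fixV] at hs)
  set A := {r : ↥R | orderOf r = 2 ∧ ¬ FixTwo ↥S r ∧ r • (⟨a, haS⟩ : S) = ⟨a, haS⟩}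
  -- elements fixing two points of `S` act trivially
  have hker : ∀ c : ↥H, ∀ p q : ↥S, p ≠ q → c.1 • p.1 = p.1 → c.1 • q.1 = q.1 → ∀ w : ↥S, c.1 • w.1 = w.1 := by
    rintro c ⟨p, hp⟩ ⟨q, hq⟩ hpq h1 h2 ⟨w, hw⟩
    replace h1 : c.1 • p = p := h1
    replace h2 : c.1 • q = q := h2
    obtain ⟨g, hg, hgN, hga, hgb⟩ := C.sigma_pairs (p := p) (q := q) (fun e => hpq (Subtype.ext e)) hp hq
    have hm : g⁻¹ * c.1 * g ∈ pairFour a b i := C.mem_four_of
      (mem_centralizer_singleton_iff.1 (mul_mem (mul_mem (inv_mem (mem_centralizer_singleton_iff.2 hg)) c.2.1)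
        (mem_centralizer_singleton_iff.2 hg)))
      (by rw [mul_smul, mul_smul, hga, h1, ← hga, inv_smul_smul])
      (by rw [mul_smul, mul_smul, hgb, h2, ← hgb, inv_smul_smul])
    have hgi : g ∈ H := ⟨mem_centralizer_singleton_iff.2 hg, hgN⟩
    have := hinv g⁻¹ (inv_mem hgi) w hw _ hm
    rw [mul_smul, mul_smul, smul_inv_smul] at this
    exact smul_left_cancel g⁻¹ this
  have hmemA : ∀ z : ↥H, z.1 • a = a → z.1 • b ≠ b → z.1 * z.1 ∈ pairFour a b i → mk z ∈ A := by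
    intro z hza hzb hz2
    refine ⟨orderOf_two_iff.2 ⟨fun e => hzb ?_, Subtype.ext (Equiv.ext fun p => Subtype.ext ?_)⟩, ?_,
      Subtype.ext hza⟩
    · exact congrArg Subtype.val (Equiv.congr_fun (congrArg Subtype.val e) ⟨b, hbS⟩)
    · show z.1 • (z.1 • p.1) = p.1
      rw [← mul_smul]; exact p.2 _ hz2
    · rintro ⟨-, p, q, hpq, hp, hq⟩
      exact hzb (hker z p q hpq (congrArg Subtype.val hp) (congrArg Subtype.val hq) ⟨b, hbS⟩)
  have hB : A.ncard ≤ 1 := by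
    rw [hcount, Set.ncard_le_one_iff]
    intro r r' hr hr'
    obtain ⟨_, c, rfl⟩ := r
    obtain ⟨_, c', rfl⟩ := r'
    refine (hmk c c').2 fun p => ?_
    have h1 : (c⁻¹ * c').1 • a = a := by
      show (c.1⁻¹ * c'.1) • a = a
      rw [mul_smul, show c'.1 • a = b from congrArg Subtype.val hr'.2.2.1, inv_smul_eq_iff]
      exact (congrArg Subtype.val hr.2.2.1).symm
    have h2 : (c⁻¹ * c').1 • b = b := by
      show (c.1⁻¹ * c'.1) • b = b
      rw [mul_smul, show c'.1 • b = a from congrArg Subtype.val hr'.2.2.2, inv_smul_eq_iff]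
      exact (congrArg Subtype.val hr.2.2.2).symm
    have := hker (c⁻¹ * c') ⟨a, haS⟩ ⟨b, hbS⟩ hne h1 h2 p
    have e : c.1⁻¹ • c'.1 • p.1 = p.1 := by rw [← mul_smul]; exact this
    exact (inv_smul_eq_iff.1 e).symm
  have hty := (hmk _ _).1 ((Set.ncard_le_one_iff (Set.toFinite A)).1 hB
    (hmemA ⟨t, mem_centralizer_singleton_iff.2 ht, htN⟩ hta htb htq)
    (hmemA ⟨y, mem_centralizer_singleton_iff.2 hy, hyN⟩ hya hyb hyq)) ⟨b, hbS⟩
  refine C.mem_four_of (mem_centralizer_singleton_iff.1 (mul_mem (inv_mem (mem_centralizer_singleton_iff.2 ht))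
    (mem_centralizer_singleton_iff.2 hy))) ?_ ?_
  · rw [mul_smul, hya, inv_smul_eq_iff, hta]
  · rw [mul_smul, inv_smul_eq_iff]; exact hty.symm

end Ctx

end Cfsg.Agent.TwoPointA5
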