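import Cfsg.Agent.Lib.TwoPointA5.Setting

/-!
# The action of the centraliser of `i` on the fixed points of `i` in odd degree (owner: helper58)

* `single_agree` : two elements inducing involutions with the same single fixed point induce the same
* `trivial_or_single` : when the four group fixes all fixed points, elements of the point stabiliser
  in the centraliser act trivially or with one fixed point
-/

set_option autoImplicit false
set_option linter.style.haveILetI false
set_option linter.unusedSectionVars false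

namespace Cfsg.Agent.TwoPointA5

open MulAction Subgroup

universe u v

variable {G : Type u} {Ω : Type v} [Group G] [MulAction G Ω]

/-- `w` induces an involution on the fixed points of `i` with the only fixed point `p`. -/
structure SingleOn (i w : G) (p : Ω) : Prop where
  comm : w * i = i * w
  mem : i • p = p
  fix : w • p = p
  sq : ∀ q : Ω, i • q = q → w • w • q = q
  only : ∀ q : Ω, i • q = q → w • q = q → q = p

namespace Ctx

variable [Finite G] [Finite Ω] {a b : Ω} {ι : ℕ} {i x : G} (C : Ctx G Ω a b ι i x)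
include C

theorem mem_four_of {g : G} (hg : g * i = i * g) (ha : g • a = a) (hb : g • b = b) : g ∈ pairFour a b i :=
  mem_inf.2 ⟨mem_centralizer_singleton_iff.2 hg, mem_stabilizer_iff.2 ha, mem_stabilizer_iff.2 hb⟩

/-- When the four group fixes as many points as `i` it fixes all fixed points of `i`. -/
theorem four_trivial (h : fixV a b i = fixN Ω i) {v : G} (hv : v ∈ pairFour a b i) {q : Ω} (hq : i • q = q) :
    v • q = q := by
  have hsub : {p : Ω | ∀ w ∈ pairFour a b i, w • p = p} ⊆ fixedBy Ω i := fun p hp => hp i C.i_mem_four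
  have := Set.eq_of_subset_of_ncard_le hsub (le_of_eq (by
    rw [fixV, fixN, Nat.card_coe_set_eq, Nat.card_coe_set_eq] at h; exact h.symm))
  exact ((Set.ext_iff.1 this q).2 hq) v hv

theorem four_moves (h : fixV a b i < fixN Ω i) : ∃ q : Ω, i • q = q ∧ (x * i * x⁻¹) • q ≠ q := by
  by_contra hcon
  push Not at hcon
  refine absurd h (not_lt.2 (le_of_eq ?_))
  rw [fixV, fixN, Nat.card_coe_set_eq, Nat.card_coe_set_eq]
  congr 1
  refine Set.ext fun p => ⟨fun hp v hv => ?_, fun hp => hp i C.i_mem_four⟩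
  rcases C.four_eq hv with rfl | rfl | rfl | rfl
  · exact one_smul _ _
  · exact hp
  · exact hcon p hp
  · rw [mul_smul, hcon p hp, hp]

theorem single_agree_aux (hodd : Odd (fixN Ω i)) {u w : G} (hu : SingleOn i u a) (hw : SingleOn i w a)
    {q : Ω} (hq : i • q = q) : u • q = w • q := by
  classical
  set Ci := centralizer ({i} : Set G) with hCi
  set F := fixedBy Ω i with hF
  have hinv : ∀ c ∈ Ci, ∀ p ∈ F, c • p ∈ F := fun c hc p hp =>
    Conj.cent_smul (mem_centralizer_singleton_iff.1 hc) hp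
  letI act : MulAction ↥Ci ↥F :=
    { smul := fun c p => ⟨c.1 • p.1, hinv c.1 c.2 p.1 p.2⟩
      one_smul := fun p => Subtype.ext (one_smul G p.1)
      mul_smul := fun c d p => Subtype.ext (mul_smul c.1 d.1 p.1) }
  set R := (MulAction.toPermHom ↥Ci ↥F).range with hR
  let mk : ↥Ci → ↥R := fun c => ⟨MulAction.toPerm c, c, rfl⟩
  have hmk : ∀ c c' : ↥Ci, mk c = mk c' ↔ ∀ p : ↥F, c.1 • p.1 = c'.1 • p.1 := fun c c' =>
    ⟨fun e p => congrArg Subtype.val (Equiv.congr_fun (congrArg Subtype.val e) p),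
      fun e => Subtype.ext (Equiv.ext fun p => Subtype.ext (e p))⟩
  have hne : (⟨a, C.ia⟩ : F) ≠ ⟨b, C.ib⟩ := fun e => C.ne (congrArg Subtype.val e)
  have t2R : T2 ↥R ↥F := by
    rintro ⟨p, hp⟩ ⟨r, hr⟩ ⟨p', hp'⟩ ⟨r', hr'⟩ h1 h2
    obtain ⟨g, hg, hga, hgb⟩ := C.conjI.cent_pairs (p := p) (q := r) (fun e => h1 (Subtype.ext e)) hp hr
    obtain ⟨g', hg', hga', hgb'⟩ := C.conjI.cent_pairs (p := p') (q := r') (fun e => h2 (Subtype.ext e)) hp' hr'
    have hm : g' * g⁻¹ ∈ Ci := mul_mem (mem_centralizer_singleton_iff.2 hg')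
      (inv_mem (mem_centralizer_singleton_iff.2 hg))
    refine ⟨mk ⟨g' * g⁻¹, hm⟩, Subtype.ext ?_, Subtype.ext ?_⟩
    · show (g' * g⁻¹) • p = p'
      rw [← hga, mul_smul, inv_smul_smul, hga']
    · show (g' * g⁻¹) • r = r'
      rw [← hgb, mul_smul, inv_smul_smul, hgb']
  have hcount := single_count (X := ↥R) (Φ := ↥F) hne t2R (by rwa [fixN] at hodd)
  set A := {r : ↥R | orderOf r = 2 ∧ ¬ FixTwo ↥F r ∧ r • (⟨a, C.ia⟩ : F) = ⟨a, C.ia⟩}
  set B := {r : ↥R | orderOf r = 2 ∧ ¬ FixTwo ↥F r ∧ r • (⟨a, C.ia⟩ : F) = ⟨b, C.ib⟩ ∧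
    r • (⟨b, C.ib⟩ : F) = ⟨a, C.ia⟩}
  have hmemA : ∀ z : G, ∀ hz : SingleOn i z a, mk ⟨z, mem_centralizer_singleton_iff.2 hz.comm⟩ ∈ A := by
    intro z hz
    refine ⟨orderOf_two_iff.2 ⟨fun e => C.ne ?_, Subtype.ext (Equiv.ext fun p => Subtype.ext (hz.sq p.1 p.2))⟩,
      fun hf => ?_, Subtype.ext hz.fix⟩
    · refine (hz.only b C.ib ?_).symm
      exact congrArg Subtype.val (Equiv.congr_fun (congrArg Subtype.val e) ⟨b, C.ib⟩)
    · obtain ⟨-, p, r, hpr, hp, hr⟩ := hf
      exact hpr (Subtype.ext ((hz.only p.1 p.2 (congrArg Subtype.val hp)).trans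
        (hz.only r.1 r.2 (congrArg Subtype.val hr)).symm))
  -- at most one induced involution without two fixed points interchanges `a` and `b`
  have hB : B.ncard ≤ 1 := by
    rw [Set.ncard_le_one_iff]
    intro r r' hr hr'
    obtain ⟨_, c, rfl⟩ := r
    obtain ⟨_, c', rfl⟩ := r'
    have hdiff : ∀ (k : ↥Ci), k.1 • a = b → k.1 • b = a → c.1⁻¹ * k.1 ∈ pairFour a b i := by
      intro k ka kb
      have hca : c.1 • a = b := congrArg Subtype.val hr.2.2.1
      have hcb : c.1 • b = a := congrArg Subtype.val hr.2.2.2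
      exact C.mem_four_of (mem_centralizer_singleton_iff.1 (mul_mem (inv_mem c.2) k.2))
        (by rw [mul_smul, ka, inv_smul_eq_iff, hca]) (by rw [mul_smul, kb, inv_smul_eq_iff, hcb])
    have hact : ∀ (k : ↥Ci), k.1 • a = b → k.1 • b = a →
        (∀ p : ↥F, k.1 • p.1 = c.1 • p.1) ∨ (∀ p : ↥F, k.1 • p.1 = c.1 • (x * i * x⁻¹) • p.1) := by
      intro k ka kb
      have hk : ∀ p : Ω, k.1 • p = c.1 • ((c.1⁻¹ * k.1) • p) := fun p => by rw [mul_smul, smul_inv_smul]
      rcases C.four_eq (hdiff k ka kb) with e | e | e | e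
      · left; intro p; rw [hk, e, one_smul]
      · left; intro p; rw [hk, e, show i • p.1 = p.1 from p.2]
      · right; intro p; rw [hk, e]
      · right; intro p
        rw [hk, e, mul_smul, show i • ((x * i * x⁻¹) • p.1) = (x * i * x⁻¹) • p.1 from
          hinv _ (C.xnorm i C.i_mem_four).1 p.1 p.2]
    rcases hact c' (congrArg Subtype.val hr'.2.2.1) (congrArg Subtype.val hr'.2.2.2) with e | e
    · exact ((hmk c c').2 fun p => (e p).symm)
    · rcases lt_or_eq_of_le C.fixV_le with hlt | heq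
      · exfalso
        obtain ⟨q₀, hq₀, hmove⟩ := C.four_moves hlt
        set j := x * i * x⁻¹ with hj
        have hjV := C.xnorm i C.i_mem_four
        have hq₁ : i • (j • q₀) = j • q₀ := hinv j hjV.1 q₀ hq₀
        obtain ⟨g, hg, hga, hgb⟩ := C.conjI.cent_pairs (p := q₀) (q := j • q₀) (Ne.symm hmove) hq₀ hq₁
        have hgC : g⁻¹ * j * g ∈ Ci :=
          mul_mem (mul_mem (inv_mem (mem_centralizer_singleton_iff.2 hg)) hjV.1)
            (mem_centralizer_singleton_iff.2 hg)
        set k : ↥Ci := ⟨g⁻¹ * j * g, hgC⟩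
        have hginv : ∀ p : Ω, i • p = p → i • (g⁻¹ • p) = g⁻¹ • p := fun p hp =>
          hinv g⁻¹ (inv_mem (mem_centralizer_singleton_iff.2 hg)) p hp
        have hkfix : FixTwo ↥F (mk k) := by
          refine ⟨orderOf_two_iff.2 ⟨fun e' => C.ne ?_, ?_⟩, ⟨g⁻¹ • a, hginv a C.ia⟩, ⟨g⁻¹ • b, hginv b C.ib⟩,
            fun e' => C.ne (smul_left_cancel g⁻¹ (congrArg Subtype.val e')), Subtype.ext ?_, Subtype.ext ?_⟩
          · have h0 := congrArg Subtype.val (Equiv.congr_fun (congrArg Subtype.val e') ⟨a, C.ia⟩)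
            have h0' : (g⁻¹ * j * g) • a = a := h0
            rw [mul_smul, mul_smul, hga, inv_smul_eq_iff, hga] at h0'
            exact absurd h0' hmove
          · refine Subtype.ext (Equiv.ext fun p => Subtype.ext ?_)
            show (g⁻¹ * j * g) • ((g⁻¹ * j * g) • p.1) = p.1
            rw [← mul_smul, show g⁻¹ * j * g * (g⁻¹ * j * g) = g⁻¹ * (j * j) * g by group, C.four_sq hjV]
            simp
          · show (g⁻¹ * j * g) • (g⁻¹ • a) = g⁻¹ • a
            rw [mul_smul, mul_smul, smul_inv_smul, mem_stabilizer_iff.1 hjV.2.1]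
          · show (g⁻¹ * j * g) • (g⁻¹ • b) = g⁻¹ • b
            rw [mul_smul, mul_smul, smul_inv_smul, mem_stabilizer_iff.1 hjV.2.2]
        have hka : k.1 • a = b := by
          show (g⁻¹ * j * g) • a = b
          rw [mul_smul, mul_smul, hga, ← hgb, inv_smul_smul]
        have hkb : k.1 • b = a := by
          show (g⁻¹ * j * g) • b = a
          rw [mul_smul, mul_smul, hgb, ← mul_smul j, C.four_sq hjV, one_smul, ← hga, inv_smul_smul]
        rcases hact k hka hkb with e' | e'
        · exact hr.2.1 (show FixTwo ↥F (mk c) from ((hmk k c).2 e') ▸ hkfix)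
        · exact hr'.2.1 (show FixTwo ↥F (mk c') from ((hmk k c').2 fun p => (e' p).trans (e p).symm) ▸ hkfix)
      · refine (hmk c c').2 fun p => ?_
        rw [e p, C.four_trivial heq (C.xnorm i C.i_mem_four) p.2]
  have hA : A.ncard ≤ 1 := by rw [hcount]; exact hB
  exact (hmk _ _).1 (((Set.ncard_le_one_iff (Set.toFinite A)).1 hA) (hmemA u hu) (hmemA w hw)) ⟨q, hq⟩

/-- Two elements inducing involutions with the same single fixed point induce the same. -/
theorem single_agree (hodd : Odd (fixN Ω i)) {u w : G} {p : Ω} (hu : SingleOn i u p) (hw : SingleOn i w p)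
    {q : Ω} (hq : i • q = q) : u • q = w • q := by
  obtain ⟨r, hr, hrp⟩ : ∃ r : Ω, i • r = r ∧ p ≠ r := by
    by_cases h : p = a
    · exact ⟨b, C.ib, h ▸ C.ne⟩
    · exact ⟨a, C.ia, h⟩
  obtain ⟨y, C'⟩ := C.exists_ctx_at C.ord hrp hu.mem hr
  exact C'.single_agree_aux hodd hu hw hq

/-- When four groups fix all fixed points, an element fixing a fixed point acts trivially or fixes only it. -/
theorem trivial_or_only (h : fixV a b i = fixN Ω i) {w : G} (hw : w * i = i * w) {p : Ω} (hp : i • p = p)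
    (hwp : w • p = p) : (∀ q : Ω, i • q = q → w • q = q) ∨ (∀ q : Ω, i • q = q → w • q = q → q = p) := by
  by_cases hr : ∀ q : Ω, i • q = q → w • q = q → q = p
  · exact Or.inr hr
  push Not at hr
  obtain ⟨r, hr, hwr, hrp⟩ := hr
  obtain ⟨y, C'⟩ := C.exists_ctx_at C.ord (Ne.symm hrp) hp hr
  refine Or.inl fun q hq => C'.four_trivial ?_ (C'.mem_four_of hw hwp hwr) hq
  rw [C.fixV_eq C.ord (Ne.symm hrp) hp hr, h]

end Ctx

end Cfsg.Agent.TwoPointA5
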