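import Cfsg.Agent.Lib.TwoPointA5.Lam
import Cfsg.Agent.Lib.TwoPointA5.DShape
import Cfsg.Agent.Lib.PGroup.CyclicMaximal

/-!
# Two-point stabiliser A₄ or A₅: odd degree, the four group fixing all fixed points (owner: helper58)

* `odd_dichotomy` : one involution per point with one fixed point, or none
* `oddA_cases` : the possibilities when the four group fixes all fixed points of its involutions
-/

set_option autoImplicit false
set_option linter.style.haveILetI false
set_option linter.unusedSectionVars false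

namespace Cfsg.Agent.TwoPointA5

open MulAction Subgroup

universe u v

namespace Ctx

variable {G : Type u} {Ω : Type v} [Group G] [MulAction G Ω] [Finite G] [Finite Ω] {a b : Ω} {ι : ℕ} {i x : G}
  (C : Ctx G Ω a b ι i x)
include C

theorem odd_dichotomy [FaithfulSMul G Ω] (hodd : Odd (Nat.card Ω)) :
    lamN G a b = 1 ∨ (Even (swapN G a b) ∧ ∀ u : G, orderOf u = 2 → FixTwo Ω u) := by
  have hall : lamN G a b = 0 → ∀ u : G, orderOf u = 2 → FixTwo Ω u := by
    intro h0 u hu
    by_contra hf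
    obtain ⟨⟨p, hp⟩, -⟩ := Nat.card_eq_one_iff_exists.1 (fixN_eq_one hodd hu hf : fixN Ω u = 1)
    obtain ⟨g, rfl⟩ := C.exists_smul_eq' p
    have h := single_count C.ne C.t2 hodd
    rw [← lamN, h0, Set.ncard_eq_zero] at h
    refine Set.eq_empty_iff_forall_notMem.1 h (g⁻¹ * u * g) ⟨?_, ?_, ?_⟩
    · simpa using orderOf_conj_two hu g⁻¹
    · simpa using not_fixTwo_conj hf g⁻¹
    · rw [mul_smul, mul_smul, show u • g • a = g • a from hp, inv_smul_smul]
  rcases C.swap_cases with ⟨hd, h0⟩ | ⟨z, -, -, -, -, ⟨hd, h0⟩ | ⟨-, h1, -⟩ | ⟨hd, -⟩⟩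
  · refine Or.inr ⟨?_, hall h0⟩
    rw [hd]; split <;> decide
  · refine Or.inr ⟨?_, hall h0⟩
    rw [hd]
    rcases C.kd.iota with h | h <;> rw [h] <;> decide
  · exact Or.inl h1
  · exact absurd hd (C.swap_ne_one hodd)

theorem x_fix_four {v : G} (hv : v ∈ pairFour a b i) (h : x * v * x⁻¹ = v) : v = 1 := by
  set j := x * i * x⁻¹ with hj
  rcases C.four_eq hv with rfl | rfl | rfl | rfl
  · rfl
  · exact absurd h C.xne
  · exact absurd (mul_left_cancel (mul_right_cancel h)) C.xne
  · exfalso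
    have hjV := C.xnorm i C.i_mem_four
    have h1 : j * (x * j * x⁻¹) = i * j := by
      rw [← h]
      calc j * (x * j * x⁻¹) = x * i * x⁻¹ * (x * j * x⁻¹) := by rw [hj]
        _ = x * (i * j) * x⁻¹ := by group
    rw [C.four_comm C.i_mem_four hjV] at h1
    have h2 : x * j * x⁻¹ = i := mul_left_cancel h1
    have h3 : x ^ 3 = 1 := by rw [← C.xord]; exact pow_orderOf_eq_one x
    have h4 : x * (x * i * x⁻¹) * x⁻¹ = i := by rw [← hj]; exact h2
    apply C.xne
    calc x * i * x⁻¹ = x * (x * (x * i * x⁻¹) * x⁻¹) * x⁻¹ := by rw [h4]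
      _ = x * x * x * i * (x * x * x)⁻¹ := by group
      _ = i := by rw [← pow_three', h3]; group

/-- Elements of the centraliser of the four group fixing `a` with square in it lie in it. -/
theorem cent_four_no_root (hodd : Odd (Nat.card Ω)) (hall : ∀ u : G, orderOf u = 2 → FixTwo Ω u)
    (heq : fixV a b i = fixN Ω i) {y : G} (hyc : ∀ v ∈ pairFour a b i, v * y = y * v) (hya : y • a = a)
    (hy2 : y * y ∈ pairFour a b i) : y ∈ pairFour a b i := by
  classical
  by_contra hy
  have hfodd : Odd (fixN Ω i) := Nat.odd_iff.2 (C.fix_parity.trans (Nat.odd_iff.1 hodd))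
  have hyi : y * i = i * y := (hyc i C.i_mem_four).symm
  have hsingle : ∀ w : G, (∀ v ∈ pairFour a b i, v * w = w * v) → w • a = a → w * w ∈ pairFour a b i →
      w ∉ pairFour a b i → SingleOn i w a := by
    intro w hwc hwa hw2 hw
    have hwi : w * i = i * w := (hwc i C.i_mem_four).symm
    rcases C.trivial_or_only heq hwi C.ia hwa with h | h
    · exact absurd (C.mem_four_of hwi hwa (h b C.ib)) hw
    · exact ⟨hwi, C.ia, hwa, fun q hq => by rw [← mul_smul]; exact C.four_trivial heq hw2 hq, h⟩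
  set y' := x * y * x⁻¹ with hy'
  have hxN := C.x_mem_normalizer
  have hy'c : ∀ v ∈ pairFour a b i, v * y' = y' * v := by
    intro v hv
    have hv' : x⁻¹ * v * x ∈ pairFour a b i := (mem_normalizer_iff''.1 hxN v).1 hv
    calc v * y' = x * (x⁻¹ * v * x * y) * x⁻¹ := by rw [hy']; group
      _ = x * (y * (x⁻¹ * v * x)) * x⁻¹ := by rw [hyc _ hv']
      _ = y' * v := by rw [hy']; group
  have hy'a : y' • a = a := by
    rw [hy', mul_smul, mul_smul, inv_smul_eq_iff.2 C.xa.symm, hya, C.xa]
  have hsq : y' * y' = x * (y * y) * x⁻¹ := by rw [hy']; group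
  have hy'2 : y' * y' ∈ pairFour a b i := hsq ▸ C.xnorm _ hy2
  have hy'V : y' ∉ pairFour a b i := by
    intro h
    apply hy
    have := (mem_normalizer_iff''.1 hxN y').1 h
    rwa [show x⁻¹ * y' * x = y by rw [hy']; group] at this
  have hagree := C.single_agree hfodd (hsingle y hyc hya hy2 hy) (hsingle y' hy'c hy'a hy'2 hy'V) C.ib
  have hv : y⁻¹ * y' ∈ pairFour a b i := C.mem_four_of
    (mem_centralizer_singleton_iff.1 (mul_mem (inv_mem (mem_centralizer_singleton_iff.2 hyi))
      (mem_centralizer_singleton_iff.2 (hy'c i C.i_mem_four).symm)))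
    (by rw [mul_smul, hy'a, inv_smul_eq_iff, hya]) (by rw [mul_smul, ← hagree, inv_smul_smul])
  have hy2' : x * (y * y) * x⁻¹ = y * y := by
    rw [← hsq]
    set v := y⁻¹ * y' with hvdef
    have e : y' = y * v := by rw [hvdef]; group
    calc y' * y' = y * (v * y) * v := by rw [e]; group
      _ = y * (y * v) * v := by rw [hyc v hv]
      _ = y * y * (v * v) := by group
      _ = y * y := by rw [C.four_sq hv, mul_one]
  have hyy : y * y = 1 := C.x_fix_four hy2 hy2'
  -- an elementary group of order eight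
  set V := pairFour a b i with hV
  set E : Set G := {e | e ∈ V ∨ y⁻¹ * e ∈ V} with hE
  have hyinv : y⁻¹ = y := inv_eq_of_mul_eq_one_right hyy
  have hEdec : ∀ e ∈ E, ∃ v ∈ V, e = v ∨ e = y * v := by
    rintro e (h | h)
    · exact ⟨e, h, Or.inl rfl⟩
    · exact ⟨y⁻¹ * e, h, Or.inr (by group)⟩
  have hEcomm : ∀ e ∈ E, ∀ e' ∈ E, e * e' = e' * e := by
    intro e he e' he'
    have hb : Commute y y := Commute.refl y
    obtain ⟨v, hv, h⟩ := hEdec e he
    obtain ⟨v', hv', h'⟩ := hEdec e' he'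
    have c1 : Commute v v' := C.four_comm hv hv'
    have c2 : Commute v y := hyc v hv
    have c3 : Commute v' y := hyc v' hv'
    rcases h with rfl | rfl <;> rcases h' with rfl | rfl
    · exact c1.eq
    · exact (c2.mul_right c1).eq
    · exact (c3.symm.mul_left c1).eq
    · exact ((hb.mul_right c3.symm).mul_left (c2.mul_right c1)).eq
  have hEa : ∀ e ∈ E, e • a = a := by
    intro e he
    obtain ⟨v, hv, rfl | rfl⟩ := hEdec e he
    · exact mem_stabilizer_iff.1 hv.2.1
    · rw [mul_smul, mem_stabilizer_iff.1 hv.2.1, hya]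
  have hEsq : ∀ e ∈ E, e * e = 1 := by
    intro e he
    obtain ⟨v, hv, rfl | rfl⟩ := hEdec e he
    · exact C.four_sq hv
    · calc y * v * (y * v) = y * (v * y) * v := by group
        _ = y * y * (v * v) := by rw [hyc v hv]; group
        _ = 1 := by rw [hyy, C.four_sq hv, mul_one]
  have hEmul : ∀ e ∈ E, ∀ e' ∈ E, e * e' ∈ E := by
    intro e he e' he'
    obtain ⟨v, hv, h⟩ := hEdec e he
    obtain ⟨v', hv', h'⟩ := hEdec e' he'
    rcases h with rfl | rfl <;> rcases h' with rfl | rfl
    · exact Or.inl (mul_mem hv hv')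
    · refine Or.inr ?_
      rw [show y⁻¹ * (e * (y * v')) = y⁻¹ * (e * y) * v' by group, hyc e hv]
      simpa [mul_assoc] using mul_mem hv hv'
    · exact Or.inr (by rw [← mul_assoc, inv_mul_cancel_left]; exact mul_mem hv hv')
    · refine Or.inl ?_
      rw [show y * v * (y * v') = y * (v * y) * v' by group, hyc v hv, ← mul_assoc y y, hyy, one_mul]
      exact mul_mem hv hv'
  have hE8 : E.ncard = 8 := by
    have e : E = (V : Set G) ∪ (fun v => y * v) '' (V : Set G) := by
      ext w
      constructor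
      · intro hw
        obtain ⟨v, hv, rfl | rfl⟩ := hEdec w hw
        · exact Or.inl hv
        · exact Or.inr ⟨v, hv, rfl⟩
      · rintro (hw | ⟨v, hv, rfl⟩)
        · exact Or.inl hw
        · exact Or.inr (by simpa using hv)
    have hdisj : Disjoint (V : Set G) ((fun v => y * v) '' (V : Set G)) := by
      refine Set.disjoint_left.2 ?_
      rintro w hw ⟨v, hv, rfl⟩
      exact hy (by simpa using mul_mem (show y * v ∈ V from hw) (inv_mem hv))
    rw [e, Set.ncard_union_eq hdisj, Set.ncard_image_of_injective _ (mul_right_injective y),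
      ← Nat.card_coe_set_eq, show Nat.card ↥(V : Set G) = 4 from C.card_four]
  set E' := E \ {1} with hE'
  haveI := Fintype.ofFinite G
  have hfib : ∀ u ∈ E', {e ∈ E' | fixedBy Ω e = fixedBy Ω u}.ncard = 3 := by
    rintro u ⟨huE, hu1⟩
    have huo : orderOf u = 2 := orderOf_two_iff.2 ⟨hu1, hEsq u huE⟩
    have hua := hEa u huE
    obtain ⟨q, huq, haq⟩ : ∃ q : Ω, u • q = q ∧ a ≠ q := by
      obtain ⟨-, p, q, hpq, hp, hq⟩ := hall u huo
      by_cases h : a = p
      · exact ⟨q, hq, h ▸ hpq⟩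
      · exact ⟨p, hp, h⟩
    obtain ⟨x', C'⟩ := C.exists_ctx_at huo haq hua huq
    have heq' : fixV a q u = fixN Ω u := by
      rw [C.fixV_eq huo haq hua huq, heq, C.conjI.fixN_eq (hall u huo)]
    have hfodd' : Odd (fixN Ω u) := by rwa [C.conjI.fixN_eq (hall u huo)]
    set W := pairFour a q u with hW
    -- the elements of `E` in `W`
    have hor : ∀ e ∈ E, e ∈ W ∨ SingleOn u e a := by
      intro e he
      rcases C'.trivial_or_only heq' (hEcomm e he u huE) hua (hEa e he) with h | h
      · exact Or.inl (C'.mem_four_of (hEcomm e he u huE) (hEa e he) (h q huq))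
      · exact Or.inr ⟨hEcomm e he u huE, hua, hEa e he, fun p _ => by rw [← mul_smul, hEsq e he, one_smul], h⟩
    have hge : 4 ≤ {e ∈ E | e ∈ W}.ncard := by
      by_cases hex : ∃ e₀ ∈ E, e₀ ∉ W
      · obtain ⟨e₀, he₀, he₀W⟩ := hex
        have h1 : {e ∈ E | e ∉ W}.ncard ≤ {e ∈ E | e ∈ W}.ncard := by
          refine Set.ncard_le_ncard_of_injOn (fun e => e₀ * e) (fun e he => ?_) (mul_right_injective e₀).injOn
          have hs0 := (hor e₀ he₀).resolve_left he₀W
          have hs1 := (hor e he.1).resolve_left he.2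
          refine ⟨hEmul e₀ he₀ e he.1, C'.mem_four_of (hEcomm _ (hEmul e₀ he₀ e he.1) u huE)
            (hEa _ (hEmul e₀ he₀ e he.1)) ?_⟩
          rw [mul_smul, ← C'.single_agree hfodd' hs0 hs1 huq, ← mul_smul, hEsq e₀ he₀, one_smul]
        have h2 : {e ∈ E | e ∈ W}.ncard + {e ∈ E | e ∉ W}.ncard = 8 := by
          rw [← Set.ncard_union_eq, ← hE8]
          · congr 1; ext e; simp only [Set.mem_union, Set.mem_setOf_eq]; by_cases he : e ∈ W <;> simp [he]
          · exact Set.disjoint_left.2 fun e he he' => he'.2 he.2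
        omega
      · push Not at hex
        rw [show {e ∈ E | e ∈ W} = E from Set.ext fun e => ⟨fun h => h.1, fun h => ⟨h, hex e h⟩⟩, hE8]
        norm_num
    have hW4 : Nat.card W = 4 := C'.card_four
    have hWE : {e ∈ E | e ∈ W} = (W : Set G) := Set.eq_of_subset_of_ncard_le (fun e he => he.2) (by
      rw [← Nat.card_coe_set_eq (W : Set G), show Nat.card ↥(W : Set G) = 4 from hW4]; exact hge)
    have hset : {e ∈ E' | fixedBy Ω e = fixedBy Ω u} = (W : Set G) \ {1} := by
      ext e
      constructor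
      · rintro ⟨⟨he, he1⟩, hfx⟩
        exact ⟨C'.mem_four_of (hEcomm e he u huE) (hEa e he) ((Set.ext_iff.1 hfx q).2 huq), he1⟩
      · rintro ⟨he, he1⟩
        have he' : e ∈ E := (hWE.ge he).1
        refine ⟨⟨he', he1⟩, (Set.eq_of_subset_of_ncard_le (fun p hp => C'.four_trivial heq' he hp) ?_).symm⟩
        have := C.conjI.fixN_eq (hall e (orderOf_two_iff.2 ⟨he1, hEsq e he'⟩))
        rw [← C.conjI.fixN_eq (hall u huo), fixN, fixN, Nat.card_coe_set_eq, Nat.card_coe_set_eq] at this
        exact this.le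
    rw [hset, Set.ncard_diff_singleton_of_mem (one_mem W), ← Nat.card_coe_set_eq (W : Set G),
      show Nat.card ↥(W : Set G) = 4 from hW4]
  have h7 : E'.ncard = 7 := by
    rw [hE', Set.ncard_diff_singleton_of_mem (show (1 : G) ∈ E from Or.inl (one_mem V)), hE8]
  haveI : DecidableEq (Set Ω) := Classical.decEq _
  have h3 : 3 ∣ E'.toFinset.card := by
    rw [Finset.card_eq_sum_card_fiberwise (f := fun e => fixedBy Ω e)
      (t := E'.toFinset.image (fun e => fixedBy Ω e)) (fun e he => Finset.mem_image_of_mem _ he)]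
    refine Finset.dvd_sum fun F hF => ?_
    obtain ⟨u, hu, rfl⟩ := Finset.mem_image.1 hF
    rw [Set.mem_toFinset] at hu
    have := hfib u hu
    rw [← Set.ncard_coe_finset, Finset.coe_filter]
    simp only [Set.mem_toFinset]
    rw [this]
  rw [← Set.ncard_eq_toFinset_card', h7] at h3
  norm_num at h3

/-- **Odd degree, the four group fixing all fixed points.** -/
theorem oddA_cases [FaithfulSMul G Ω] (hodd : Odd (Nat.card Ω)) (hall : ∀ u : G, orderOf u = 2 → FixTwo Ω u)
    (hd : Even (swapN G a b)) (heq : fixV a b i = fixN Ω i) :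
    (ι = 15 ∧ Nat.card Ω = 7 ∧ Nat.card G = 2520) ∨
    (ι = 3 ∧ Nat.card Ω = 15 ∧ Nat.card G = 2520 ∧ IsSimpleGroup ↥(stabilizer G a)) ∨
    (ι = 3 ∧ Nat.card Ω = 91 ∧ Nat.card G = 98280 ∧
      ∀ N : Subgroup ↥(stabilizer G a), N.Normal → 2 ∣ Nat.card N → 360 ∣ Nat.card N) := by
  classical
  haveI : Fact (Nat.Prime 2) := ⟨Nat.prime_two⟩
  have hfodd : Odd (fixN Ω i) := Nat.odd_iff.2 (C.fix_parity.trans (Nat.odd_iff.1 hodd))
  have hcls : Odd (ι + swapN G a b * fixN Ω i) := by
    refine Odd.add_even ?_ (hd.mul_right _)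
    rcases C.kd.iota with h | h <;> rw [h] <;> decide
  set X := stabilizer G a with hX
  set V := pairFour a b i with hVdef
  set Ci := centralizer ({i} : Set G) ⊓ X with hCi
  have hCicard : Nat.card Ci = 4 * (fixN Ω i - 1) := C.card_cent_stab
  have hXcard : Nat.card X = Nat.card Ci * (ι + swapN G a b * fixN Ω i) := by rw [C.card_stab, hCicard]
  have h8X : 8 ∣ Nat.card X := by
    rw [C.card_stab', show 8 = 4 * 2 from rfl, mul_assoc]
    refine mul_dvd_mul_left 4 (dvd_mul_of_dvd_right ?_ ι)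
    obtain ⟨k, hk⟩ := hodd
    exact ⟨k, by omega⟩
  have hVnorm : ∀ c ∈ Ci, ∀ v ∈ V, c⁻¹ * v * c ∈ V := by
    intro c hc v hv
    have hci := mem_centralizer_singleton_iff.1 hc.1
    have hca : c • a = a := mem_stabilizer_iff.1 hc.2
    refine C.mem_four_of (mem_centralizer_singleton_iff.1
      (mul_mem (mul_mem (inv_mem hc.1) hv.1) hc.1)) ?_ ?_
    · rw [mul_smul, mul_smul, hca, mem_stabilizer_iff.1 hv.2.1, inv_smul_eq_iff, hca]
    · rw [mul_smul, mul_smul, C.four_trivial heq hv (Conj.cent_smul hci C.ib), inv_smul_smul]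
  -- the centraliser of the four group
  set M := centralizer (V : Set G) ⊓ X with hM
  have hVM : V ≤ M := fun v hv => ⟨mem_centralizer_iff.2 fun w hw => C.four_comm hw hv, hv.2.1⟩
  have hMC : M ≤ Ci := fun m hm => ⟨mem_centralizer_singleton_iff.2
    (mem_centralizer_iff.1 hm.1 i C.i_mem_four).symm, hm.2⟩
  haveI hVn : (V.subgroupOf M).Normal := ⟨fun v hv m => by
    rw [mem_subgroupOf, Subgroup.coe_mul, Subgroup.coe_mul, Subgroup.coe_inv,
      ← mem_centralizer_iff.1 m.2.1 v.1 hv, mul_inv_cancel_right]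
    exact hv⟩
  have hMquot : ¬ 2 ∣ (V.subgroupOf M).index := by
    intro h
    rw [index_eq_card] at h
    obtain ⟨q, hq⟩ := exists_prime_orderOf_dvd_card' (G := ↥M ⧸ V.subgroupOf M) 2 h
    obtain ⟨y, rfl⟩ := QuotientGroup.mk_surjective q
    obtain ⟨hy1, hy2⟩ := orderOf_two_iff.1 hq
    rw [← QuotientGroup.mk_mul, QuotientGroup.eq_one_iff] at hy2
    exact hy1 ((QuotientGroup.eq_one_iff y).2 (C.cent_four_no_root hodd hall heq
      (fun v hv => mem_centralizer_iff.1 y.2.1 v hv) (mem_stabilizer_iff.1 y.2.2) hy2))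
  have hMcard : Nat.card M = 4 * (V.subgroupOf M).index := by
    rw [← (V.subgroupOf M).card_mul_index, Nat.card_congr (subgroupOfEquivOfLe hVM).toEquiv, C.card_four]
  have h8M : ¬ 8 ∣ Nat.card M := by
    rw [hMcard]; omega
  -- its index in the centraliser of `i`
  have hidx : (M.subgroupOf Ci).index ≤ 2 := by
    set j := x * i * x⁻¹ with hj
    have hjV := C.xnorm i C.i_mem_four
    have hdec : ∀ c ∈ Ci, c * j * c⁻¹ = j ∨ c * j * c⁻¹ = i * j := by
      intro c hc
      have hj1 : j ≠ 1 := fun e => C.i_ne_one (by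
        rw [hj, mul_inv_eq_one] at e; exact mul_left_cancel (e.trans (mul_one x).symm))
      have hm : c * j * c⁻¹ ∈ V := by simpa using hVnorm c⁻¹ (inv_mem hc) j hjV
      rcases C.four_eq hm with e | e | e | e
      · exact absurd (by
          calc j = c⁻¹ * (c * j * c⁻¹) * c := by group
            _ = 1 := by rw [e]; group) hj1
      · exact absurd (show x * i * x⁻¹ = i by
          calc x * i * x⁻¹ = c⁻¹ * (c * j * c⁻¹) * c := by rw [hj]; group
            _ = c⁻¹ * (c * i) := by rw [e, mem_centralizer_singleton_iff.1 hc.1]; group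
            _ = i := inv_mul_cancel_left c i) C.xne
      · exact Or.inl e
      · exact Or.inr e
    rw [index]
    refine (Nat.card_le_card_of_injective (fun q : ↥Ci ⧸ M.subgroupOf Ci =>
      Quotient.liftOn' q (fun c => decide (c.1 * j * c.1⁻¹ = j)) fun c c' hcc => ?_) ?_).trans
      (by rw [Nat.card_eq_fintype_card, Fintype.card_bool])
    · have hm : (c⁻¹ * c').1 ∈ M := mem_subgroupOf.1 (QuotientGroup.leftRel_apply.1 hcc)
      rw [decide_eq_decide, show c'.1 = c.1 * (c⁻¹ * c').1 by simp]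
      set k := (c⁻¹ * c').1
      have hk := mem_centralizer_iff.1 hm.1 j hjV
      have : c.1 * k * j * (c.1 * k)⁻¹ = c.1 * j * c.1⁻¹ := by
        rw [mul_assoc c.1 k j, ← hk]; group
      rw [this]
    · intro q q' e
      induction q using QuotientGroup.induction_on with
      | H c =>
      induction q' using QuotientGroup.induction_on with
      | H c' =>
      have e' : (c.1 * j * c.1⁻¹ = j) ↔ (c'.1 * j * c'.1⁻¹ = j) := by
        simpa [decide_eq_decide] using e
      have hsame : c.1 * j * c.1⁻¹ = c'.1 * j * c'.1⁻¹ := by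
        by_cases h : c.1 * j * c.1⁻¹ = j
        · rw [h, e'.1 h]
        · rw [(hdec c.1 c.2).resolve_left h, (hdec c'.1 c'.2).resolve_left fun h' => h (e'.2 h')]
      refine QuotientGroup.eq.2 (mem_subgroupOf.2 ⟨mem_centralizer_iff.2 fun w hw => ?_, (c⁻¹ * c').2.2⟩)
      show w * (c.1⁻¹ * c'.1) = c.1⁻¹ * c'.1 * w
      set k := c.1⁻¹ * c'.1
      have hki : k * i = i * k := mem_centralizer_singleton_iff.1 (c⁻¹ * c').2.1
      have h1 : Commute k j := by
        show k * j = j * k
        show c.1⁻¹ * c'.1 * j = j * (c.1⁻¹ * c'.1)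
        calc c.1⁻¹ * c'.1 * j = c.1⁻¹ * (c'.1 * j * c'.1⁻¹) * c'.1 := by group
          _ = j * (c.1⁻¹ * c'.1) := by rw [← hsame]; group
      rcases C.four_eq hw with rfl | rfl | rfl | rfl
      · simp
      · exact hki.symm
      · exact h1.eq.symm
      · exact ((Commute.mul_right (show Commute k i from hki) h1).eq).symm
  have hMidx : Nat.card Ci = Nat.card M * (M.subgroupOf Ci).index := by
    rw [← (M.subgroupOf Ci).card_mul_index, Nat.card_congr (subgroupOfEquivOfLe hMC).toEquiv]
  have h8Ci : 8 ∣ Nat.card Ci := Nat.Coprime.dvd_of_dvd_mul_right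
    (Nat.Coprime.pow_left 3 (Nat.coprime_two_left.2 hcls)) (hXcard ▸ h8X)
  have hidx2 : (M.subgroupOf Ci).index = 2 := by
    have := (M.subgroupOf Ci).index_ne_zero_of_finite
    rcases (by omega : (M.subgroupOf Ci).index = 1 ∨ (M.subgroupOf Ci).index = 2) with h | h
    · rw [hMidx, h, mul_one] at h8Ci; exact absurd h8Ci h8M
    · exact h
  have hf3 : fixN Ω i % 4 = 3 := by
    rw [hidx2, hMcard, hCicard] at hMidx
    obtain ⟨k, hk⟩ := Nat.odd_iff.2 (Nat.two_dvd_ne_zero.1 hMquot)
    have := C.conjI.two_le_fixN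
    omega
  have h16X : ¬ 16 ∣ Nat.card X := by
    intro h
    have h' : 16 ∣ Nat.card Ci := Nat.Coprime.dvd_of_dvd_mul_right
      (Nat.Coprime.pow_left 4 (Nat.coprime_two_left.2 hcls)) (hXcard ▸ h)
    rw [hCicard] at h'
    omega
  -- a dihedral Sylow subgroup
  haveI hVn' : (V.subgroupOf Ci).Normal := ⟨fun v hv c => by
    rw [mem_subgroupOf, Subgroup.coe_mul, Subgroup.coe_mul, Subgroup.coe_inv]
    simpa using hVnorm c.1⁻¹ (inv_mem c.2) v.1 hv⟩
  have hVC : V ≤ Ci := hVM.trans hMC
  have hVp : IsPGroup 2 (V.subgroupOf Ci) := IsPGroup.of_card (n := 2) (by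
    rw [Nat.card_congr (subgroupOfEquivOfLe hVC).toEquiv, C.card_four]; rfl)
  obtain ⟨T⟩ : Nonempty (Sylow 2 Ci) := inferInstance
  have hVT : V.subgroupOf Ci ≤ (T : Subgroup Ci) := (Cores.le_pCore hVn' hVp).trans (Cores.pCore_le_sylow T)
  have hT8 : Nat.card (T : Subgroup Ci) = 8 := by
    obtain ⟨k, hk⟩ := IsPGroup.iff_card.1 T.isPGroup'
    have h1 : 8 ∣ Nat.card (T : Subgroup Ci) := T.pow_dvd_card_of_pow_dvd_card (n := 3) h8Ci
    have h2 : ¬ 16 ∣ Nat.card (T : Subgroup Ci) := fun h =>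
      h16X ((h.trans (card_subgroup_dvd_card _)).trans (hXcard ▸ dvd_mul_right _ _))
    rw [hk] at h1 h2 ⊢
    have h3 : 3 ≤ k := (Nat.pow_dvd_pow_iff_le_right (by norm_num)).1 h1
    have h4 : ¬ 4 ≤ k := fun h => h2 ((Nat.pow_dvd_pow_iff_le_right (by norm_num)).2 h)
    rw [show k = 3 by omega]
    rfl
  have hTna : ¬ ∀ s t : (T : Subgroup Ci), s * t = t * s := by
    intro hab
    apply h8M
    have hle : (T : Subgroup Ci) ≤ M.subgroupOf Ci := fun s hs => mem_subgroupOf.2
      ⟨mem_centralizer_iff.2 fun w hw => congrArg (fun z : Ci => (z : G))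
        (congrArg Subtype.val (hab ⟨⟨w, hVC hw⟩, hVT hw⟩ ⟨s, hs⟩)), s.2.2⟩
    rw [← hT8, ← Nat.card_congr (subgroupOfEquivOfLe hMC).toEquiv]
    exact card_dvd_of_le hle
  have eT : Nonempty (DihedralGroup 4 ≃* (T : Subgroup Ci)) := by
    obtain ⟨r, hr⟩ : ∃ r : (T : Subgroup Ci), orderOf r = 4 := by
      by_contra hcon
      push Not at hcon
      refine hTna fun s t => ?_
      have hsq : ∀ w : (T : Subgroup Ci), w * w = 1 := by
        intro w
        have h := orderOf_dvd_natCard w
        rw [hT8] at h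
        obtain ⟨k, hk3, hk⟩ := (Nat.dvd_prime_pow Nat.prime_two (m := 3)).1 h
        have hk1 : k ≤ 1 := by
          by_contra hk'
          rcases (by omega : k = 2 ∨ k = 3) with rfl | rfl
          · exact hcon w hk
          · refine hcon (w ^ 2) ?_
            rw [orderOf_pow' _ two_ne_zero, hk]; rfl
        rw [← pow_two]
        exact orderOf_dvd_iff_pow_eq_one.1 (hk ▸ (pow_dvd_pow 2 hk1).trans (by norm_num))
      calc s * t = (s * t)⁻¹ := (inv_eq_of_mul_eq_one_right (hsq _)).symm
        _ = t * s := by rw [mul_inv_rev, inv_eq_of_mul_eq_one_right (hsq _), inv_eq_of_mul_eq_one_right (hsq _)]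
    obtain ⟨v, hvV, hvr⟩ : ∃ v : (T : Subgroup Ci), (v.1 : G) ∈ V ∧ v ∉ zpowers r := by
      by_contra hcon
      push Not at hcon
      let f : V →* zpowers r :=
        { toFun := fun v => ⟨⟨⟨v.1, hVC v.2⟩, hVT v.2⟩, hcon _ v.2⟩
          map_one' := rfl
          map_mul' := fun v w => rfl }
      have hf : Function.Injective f := fun v w e =>
        Subtype.ext (congrArg (fun z : zpowers r => (z.1.1.1 : G)) e)
      haveI : IsCyclic V := isCyclic_of_injective f hf
      have h1 : Monoid.exponent V ∣ 2 := Monoid.exponent_dvd_of_forall_pow_eq_one fun v =>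
        Subtype.ext (by rw [SubmonoidClass.coe_pow, pow_two]; exact C.four_sq v.2)
      rw [IsCyclic.exponent_eq_card, show Nat.card V = 4 from C.card_four] at h1
      norm_num at h1
    have hv2 : v * v = 1 := Subtype.ext (Subtype.ext (C.four_sq hvV))
    have hridx : (zpowers r).index = 2 := by
      have h := (zpowers r).card_mul_index
      rw [Nat.card_zpowers, hr, hT8] at h
      omega
    haveI := Subgroup.normal_of_index_eq_two hridx
    have hconj : v * r * v⁻¹ ∈ zpowers r := ‹(zpowers r).Normal›.conj_mem r (mem_zpowers r) v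
    have hba : v * r * v⁻¹ = r⁻¹ := by
      obtain ⟨k, hk⟩ := mem_zpowers_iff.1 hconj
      rw [← zpow_mod_orderOf r k, hr] at hk
      have h1 : orderOf (v * r * v⁻¹) = 4 :=
        (orderOf_injective (MulAut.conj v).toMonoidHom (MulAut.conj v).injective r).trans hr
      have hr4 : r ^ (4 : ℕ) = 1 := hr ▸ pow_orderOf_eq_one r
      rcases (by omega : k % 4 = 0 ∨ k % 4 = 1 ∨ k % 4 = 2 ∨ k % 4 = 3) with e | e | e | e <;>
        rw [Nat.cast_ofNat, e] at hk
      · rw [← hk, zpow_zero, orderOf_one] at h1; norm_num at h1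
      · exfalso
        refine hTna ?_
        rw [zpow_one] at hk
        have hc : Commute v r := mul_inv_eq_iff_eq_mul.1 hk.symm
        have hgen : ∀ w : (T : Subgroup Ci), w ∈ zpowers r ∨ v * w ∈ zpowers r := by
          intro w
          by_cases hw : w ∈ zpowers r
          · exact Or.inl hw
          · exact Or.inr ((Subgroup.mul_mem_iff_of_index_two hridx).2 (iff_of_false hvr hw))
        have hform : ∀ w : (T : Subgroup Ci), ∃ m : ℤ, w = r ^ m ∨ w = v * r ^ m := by
          intro w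
          rcases hgen w with h | h
          · obtain ⟨m, hm⟩ := mem_zpowers_iff.1 h
            exact ⟨m, Or.inl hm.symm⟩
          · obtain ⟨m, hm⟩ := mem_zpowers_iff.1 h
            exact ⟨m, Or.inr (by rw [hm, ← mul_assoc, hv2, one_mul])⟩
        intro s t
        have hcz : ∀ m : ℤ, Commute v (r ^ m) := fun m => hc.zpow_right m
        have hrr : ∀ m m' : ℤ, Commute (r ^ m) (r ^ m') := fun m m' => (Commute.refl r).zpow_zpow m m'
        obtain ⟨m, hm⟩ := hform s
        obtain ⟨m', hm'⟩ := hform t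
        rcases hm with rfl | rfl <;> rcases hm' with rfl | rfl
        · exact (hrr m m').eq
        · exact ((hcz m).symm.mul_right (hrr m m')).eq
        · exact ((hcz m').mul_left (hrr m m')).eq
        · exact (((Commute.refl v).mul_right (hcz m')).mul_left ((hcz m).symm.mul_right (hrr m m'))).eq
      · rw [← hk, show (2 : ℤ) = ((2 : ℕ) : ℤ) from rfl, zpow_natCast, orderOf_pow' _ two_ne_zero, hr] at h1
        norm_num at h1
      · rw [← hk, show (3 : ℤ) = ((3 : ℕ) : ℤ) from rfl, zpow_natCast]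
        exact eq_inv_of_mul_eq_one_left (by rw [← pow_succ]; exact hr4)
    exact PGroup.dihedralEquivOfGen hr (by rw [pow_two]; exact hv2) hba hvr (by rw [hT8])
  obtain ⟨eT⟩ := eT
  have hCX : Ci ≤ X := inf_le_right
  let S₀ : Subgroup X := ((T : Subgroup Ci).map Ci.subtype).subgroupOf X
  have hTX : (T : Subgroup Ci).map Ci.subtype ≤ X := (map_subtype_le _).trans hCX
  have hS₀card : Nat.card S₀ = 8 := by
    rw [Nat.card_congr (subgroupOfEquivOfLe hTX).toEquiv, card_map_of_injective Ci.subtype_injective, hT8]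
  let S : Sylow 2 X := (IsPGroup.of_card (G := S₀) (n := 3) (by rw [hS₀card]; rfl)).toSylow (fun h => h16X (by
    have := mul_dvd_mul_left (Nat.card S₀) h
    rwa [card_mul_index, hS₀card] at this))
  have eS : DihedralGroup 4 ≃* ↥(S : Subgroup X) :=
    eT.trans (((T : Subgroup Ci).equivMapOfInjective _ Ci.subtype_injective).trans (subgroupOfEquivOfLe hTX).symm)
  have hconj : ∀ u v : X, orderOf u = 2 → orderOf v = 2 → ∃ g : X, g * u * g⁻¹ = v := by
    intro u v hu hv
    obtain ⟨g, hga, hg⟩ := C.conjI.conj_in_stab (hall u.1 ((Subgroup.orderOf_coe u).trans hu))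
      (mem_stabilizer_iff.1 u.2)
    obtain ⟨h, hha, hh⟩ := C.conjI.conj_in_stab (hall v.1 ((Subgroup.orderOf_coe v).trans hv))
      (mem_stabilizer_iff.1 v.2)
    refine ⟨⟨h, hha⟩ * ⟨g, hga⟩⁻¹, Subtype.ext ?_⟩
    simp only [Subgroup.coe_mul, Subgroup.coe_inv]
    rw [← hh, ← hg]; group
  set i' : X := ⟨i, C.ia⟩ with hi'
  have hi'o : orderOf i' = 2 := by rw [← Subgroup.orderOf_coe]; exact C.ord
  set O := Cfsg.oddCore X with hO
  haveI : O.Normal := Cores.pPrimeCore_normal 2 X
  have hOodd : Odd (Nat.card O) := Nat.coprime_two_right.1 (Cores.coprime_card_pPrimeCore 2)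
  set j := x * i * x⁻¹ with hj
  have hjV : j ∈ V := C.xnorm i C.i_mem_four
  have hcen : ∀ o ∈ O, o * i' = i' * o := by
    set j' : X := ⟨j, mem_stabilizer_iff.1 hjV.2.1⟩ with hj'
    set x' : X := ⟨x, C.xa⟩ with hx'
    -- the fixed points of `i` are fixed by the whole four group
    have hsub : ∀ v : X, v.1 ∈ V → ∀ o ∈ O, o * i' = i' * o → o * v = v * o := by
      intro v hv o ho hoc
      have hoC : o.1 ∈ Ci := ⟨mem_centralizer_singleton_iff.2 (congrArg Subtype.val hoc), o.2⟩
      have h1 : (o⁻¹ * v⁻¹ * o * v : X) ∈ O := by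
        rw [show o⁻¹ * v⁻¹ * o * v = o⁻¹ * (v⁻¹ * o * v⁻¹⁻¹) by group]
        exact mul_mem (inv_mem ho) (‹O.Normal›.conj_mem o ho v⁻¹)
      have h2 : (o⁻¹ * v⁻¹ * o * v : X).1 ∈ V := mul_mem (hVnorm o.1 hoC v.1⁻¹ (inv_mem hv)) hv
      have h3 := klein_map_quotient hOodd (Subtype.ext (C.four_sq h2)) h1
      calc o * v = v * o * (o⁻¹ * v⁻¹ * o * v) := by group
        _ = v * o := by rw [h3, mul_one]
    have hcardv : ∀ v : X, orderOf v = 2 → Nat.card ↥(O ⊓ centralizer ({v} : Set X)) =
        Nat.card ↥(O ⊓ centralizer ({i'} : Set X)) := by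
      intro v hv
      obtain ⟨g, rfl⟩ := hconj i' v hi'o hv
      rw [← card_map_of_injective (f := (MulAut.conj g).toMonoidHom) (inj_conj g)
        (K := O ⊓ centralizer ({i'} : Set X))]
      congr 2
      ext w
      rw [mem_map]
      constructor
      · intro hw
        refine ⟨g⁻¹ * w * g, ⟨by simpa using ‹O.Normal›.conj_mem _ hw.1 g⁻¹, ?_⟩, ?_⟩
        · refine mem_centralizer_singleton_iff.2 ?_
          have h := mem_centralizer_singleton_iff.1 hw.2
          calc g⁻¹ * w * g * i' = g⁻¹ * (w * (g * i' * g⁻¹)) * g := by group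
            _ = i' * (g⁻¹ * w * g) := by rw [h]; group
        · show g * (g⁻¹ * w * g) * g⁻¹ = w
          group
      · rintro ⟨u, hu, rfl⟩
        refine ⟨‹O.Normal›.conj_mem _ hu.1 g, mem_centralizer_singleton_iff.2 ?_⟩
        show g * u * g⁻¹ * (g * i' * g⁻¹) = g * i' * g⁻¹ * (g * u * g⁻¹)
        calc g * u * g⁻¹ * (g * i' * g⁻¹) = g * (u * i') * g⁻¹ := by group
          _ = g * i' * g⁻¹ * (g * u * g⁻¹) := by rw [mem_centralizer_singleton_iff.1 hu.2]; group
    have hA : ∀ v : X, v.1 ∈ V → v ≠ 1 →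
        O ⊓ centralizer ({v} : Set X) = O ⊓ centralizer ({i'} : Set X) := fun v hv hv1 =>
      (eq_of_le_of_card_ge (H := O ⊓ centralizer ({i'} : Set X)) (K := O ⊓ centralizer ({v} : Set X))
        (fun o ho => ⟨ho.1, mem_centralizer_singleton_iff.2
        (hsub v hv o ho.1 (mem_centralizer_singleton_iff.1 ho.2))⟩)
        (hcardv v (orderOf_two_iff.2 ⟨hv1, Subtype.ext (C.four_sq hv)⟩)).le).symm
    have hfix : ∀ v : X, Nat.card ↥(DegThreeP.fixAut (MulAut.conjNormal v : MulAut O)) =
        Nat.card ↥(O ⊓ centralizer ({v} : Set X)) := fun v =>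
      Nat.card_congr ⟨fun o => ⟨o.1.1, o.1.2, mem_centralizer_singleton_iff.2
          (mul_inv_eq_iff_eq_mul.1 ((MulAut.conjNormal_apply v o.1).symm.trans (congrArg Subtype.val o.2))).symm⟩,
        fun o => ⟨⟨o.1, o.2.1⟩, Subtype.ext ((MulAut.conjNormal_apply v _).trans
          (mul_inv_eq_iff_eq_mul.2 (mem_centralizer_singleton_iff.1 o.2.2).symm))⟩, fun _ => rfl, fun _ => rfl⟩
    have hij : i' * j' = j' * i' := Subtype.ext (C.four_comm C.i_mem_four hjV)
    have hii : i' * i' = 1 := (orderOf_two_iff.1 hi'o).2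
    have hjj : j' * j' = 1 := Subtype.ext (C.four_sq hjV)
    let α : MulAut O := MulAut.conjNormal i'
    let β : MulAut O := MulAut.conjNormal j'
    have h := DegThreeP.wielandt_four hOodd α β (by simp only [α, ← map_mul, hii, map_one])
      (by simp only [β, ← map_mul, hjj, map_one]) (by show α * β = β * α; simp only [α, β, ← map_mul, hij])
    have hj1 : j' ≠ 1 := fun e => C.i_ne_one (by
      have e' : j = 1 := congrArg Subtype.val e
      rw [hj, mul_inv_eq_one] at e'
      exact mul_left_cancel (e'.trans (mul_one x).symm))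
    have hij1 : i' * j' ≠ 1 := fun e => C.xne (by
      have e' : i * j = 1 := congrArg Subtype.val e
      rw [mul_eq_one_iff_eq_inv, inv_eq_of_mul_eq_one_right (C.four_sq hjV)] at e'
      exact e'.symm)
    have hinf : DegThreeP.fixAut α ⊓ DegThreeP.fixAut β = DegThreeP.fixAut α := by
      refine inf_eq_left.2 fun o ho => ?_
      have hoi : o.1 * i' = i' * o.1 :=
        (mul_inv_eq_iff_eq_mul.1 ((MulAut.conjNormal_apply i' o).symm.trans (congrArg Subtype.val ho))).symm
      exact Subtype.ext ((MulAut.conjNormal_apply j' _).trans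
        (mul_inv_eq_iff_eq_mul.2 (hsub j' hjV o.1 o.2 hoi).symm))
    rw [hinf, show α * β = MulAut.conjNormal (i' * j') from (map_mul _ i' j').symm, hfix, hfix, hfix,
      hA j' hjV hj1, hA (i' * j') (mul_mem C.i_mem_four hjV) hij1] at h
    set A := Nat.card ↥(O ⊓ centralizer ({i'} : Set X)) with hAdef
    have hOA : Nat.card O = A := Nat.eq_of_mul_eq_mul_right (pow_pos Nat.card_pos 2) (h.trans (by ring))
    intro o ho
    have := eq_of_le_of_card_ge (inf_le_left : O ⊓ centralizer ({i'} : Set X) ≤ O) hOA.le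
    exact mem_centralizer_singleton_iff.1 (this.ge ho).2
  have hC' : Nat.card ↥(centralizer ({i'} : Set X)) = Nat.card Ci :=
    Nat.card_congr ⟨fun c => ⟨c.1.1, mem_centralizer_singleton_iff.2
        (congrArg Subtype.val (mem_centralizer_singleton_iff.1 c.2)), c.1.2⟩,
      fun c => ⟨⟨c.1, c.2.2⟩, mem_centralizer_singleton_iff.2
        (Subtype.ext (mem_centralizer_singleton_iff.1 c.2.1))⟩, fun _ => rfl, fun _ => rfl⟩
  have hVX : V ≤ X := fun v hv => hv.2.1
  obtain ⟨L, hLn, hLs, -, hinvL, hL⟩ := dShape S eS hconj hi'o hcen (V.subgroupOf X)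
    (by rw [Nat.card_congr (subgroupOfEquivOfLe hVX).toEquiv, C.card_four])
    (fun v hv => Subtype.ext (C.four_sq hv)) C.i_mem_four (fun c hc => by
      have hcC : c.1 ∈ Ci := ⟨mem_centralizer_singleton_iff.2
        (congrArg Subtype.val (mem_centralizer_singleton_iff.1 hc)), c.2⟩
      rw [mem_normalizer_iff]
      intro v
      simp only [mem_subgroupOf, Subgroup.coe_mul, Subgroup.coe_inv]
      refine ⟨fun hv => by simpa using hVnorm c.1⁻¹ (inv_mem hcC) v.1 hv, fun hv => ?_⟩
      have := hVnorm c.1 hcC _ hv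
      simpa [mul_assoc] using this)
  haveI := hLn
  haveI := hLs
  rw [hC'] at hL
  have hw : ∀ m : ℕ, Nat.card X = Nat.card Ci * m → ι + swapN G a b * fixN Ω i = m := fun m hm =>
    Nat.eq_of_mul_eq_mul_left Nat.card_pos (hXcard.symm.trans hm)
  have hf2 := C.conjI.two_le_fixN
  have hcount := C.count
  have hfn := C.conjI.fixN_le
  have hG := C.card_group
  rw [← hX, hXcard, hCicard] at hG
  have hrest : (ι = 3 ∧ swapN G a b = 6 ∧ fixN Ω i = 3) ∨ (ι = 15 ∧ swapN G a b = 10 ∧ fixN Ω i = 3) ∨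
      (ι = 3 ∧ swapN G a b = 6 ∧ fixN Ω i = 7) := by
    have hd' := Nat.even_iff.1 hd
    rcases C.admPair with ⟨hι, h⟩ | ⟨hι, h⟩ <;> rcases h with h | h | h | h <;>
      rw [h] at hd' hw ⊢ <;> (try omega) <;> rw [hι] at hw ⊢ <;>
      rcases hL with ⟨-, hL⟩ | ⟨-, hL⟩ | ⟨-, hL⟩ <;> have := hw _ hL <;> omega
  rcases hrest with ⟨hι, hd6, hf⟩ | ⟨hι, hd6, hf⟩ | ⟨hι, hd6, hf⟩ <;> rw [hι, hd6, hf] at hcount hw hXcard hG <;>
    rw [hf] at hCicard <;> norm_num at hcount hG
  · have hn : Nat.card Ω = 15 := by omega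
    refine Or.inr (Or.inl ⟨hι, hn, by rw [hG, hn], ?_⟩)
    rcases hL with ⟨hLc, -⟩ | ⟨-, hL⟩ | ⟨-, hL⟩
    · have hX168 : Nat.card X = 168 := by rw [hXcard, hCicard]
      have hsplit := Subgroup.card_eq_card_quotient_mul_card_subgroup O
      rw [hX168] at hsplit
      have hle := Nat.le_of_dvd Nat.card_pos (card_subgroup_dvd_card L)
      rw [hLc] at hle
      have hO1 : Nat.card O = 1 := by
        rcases Nat.lt_or_ge (Nat.card O) 2 with h | h
        · have := Nat.card_pos (α := O); omega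
        · exfalso; nlinarith
      rw [hO1, mul_one] at hsplit
      have hbot : O = ⊥ := eq_bot_of_card_eq _ hO1
      have htop : L = ⊤ := eq_top_of_card_eq L (by rw [hLc, ← hsplit])
      haveI : IsSimpleGroup (↥X ⧸ O) :=
        ((MulEquiv.subgroupCongr htop).trans Subgroup.topEquiv).isSimpleGroup_congr.1 hLs
      exact (((QuotientGroup.quotientMulEquivOfEq hbot).trans QuotientGroup.quotientBot).isSimpleGroup_congr).1
        inferInstance
    · have := hw _ hL; norm_num at this
    · have := hw _ hL; norm_num at this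
  · have hn : Nat.card Ω = 7 := by omega
    exact Or.inl ⟨hι, hn, by rw [hG, hn]⟩
  · have hn : Nat.card Ω = 91 := by omega
    refine Or.inr (Or.inr ⟨hι, hn, by rw [hG, hn], fun N hN hN2 => ?_⟩)
    have hLc : Nat.card L = 360 := by
      rcases hL with ⟨-, hL⟩ | ⟨hLc, -⟩ | ⟨-, hL⟩
      · have := hw _ hL; norm_num at this
      · exact hLc
      · have := hw _ hL; norm_num at this
    haveI := hN
    obtain ⟨u, hu⟩ := exists_prime_orderOf_dvd_card' (G := N) 2 hN2
    set π := QuotientGroup.mk' O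
    haveI : (N.map π).Normal := hN.map π (QuotientGroup.mk'_surjective O)
    have hu' : orderOf u.1 = 2 := (Subgroup.orderOf_coe u).trans hu
    have hπu : orderOf (π u.1) = 2 := orderOf_two_iff.2 ⟨fun e => (orderOf_two_iff.1 hu').1
      (klein_map_quotient hOodd (orderOf_two_iff.1 hu').2 ((QuotientGroup.eq_one_iff _).1 e)),
      by rw [← map_mul, (orderOf_two_iff.1 hu').2, map_one]⟩
    have hLN : L ≤ N.map π := by
      rcases (hLs.eq_bot_or_eq_top_of_normal ((N.map π).subgroupOf L) inferInstance) with h | h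
      · exfalso
        have : (⟨π u.1, hinvL _ hπu⟩ : L) ∈ (N.map π).subgroupOf L := ⟨u.1, u.2, rfl⟩
        rw [h, mem_bot] at this
        exact (orderOf_two_iff.1 hπu).1 (congrArg Subtype.val this)
      · exact subgroupOf_eq_top.1 h
    rw [← hLc]
    exact (card_dvd_of_le hLN).trans (card_map_dvd N π)

end Ctx

end Cfsg.Agent.TwoPointA5
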