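import Cfsg.Agent.Lib.TwoPointA5.Induced
import Cfsg.Agent.Lib.TwoPointA5.DihTransfer
import Cfsg.Agent.Lib.PGroup.MaximalClass
import Cfsg.Agent.Lib.Cores.Basic

/-!
# Two-point stabiliser A₄ or A₅: odd degree, one involution with one fixed point on `fix i` (owner: helper58)

* `oddB1_false` : `f = s²` is impossible
-/

set_option autoImplicit false
set_option linter.style.haveILetI false
set_option linter.unusedSectionVars false

namespace Cfsg.Agent.TwoPointA5

open MulAction Subgroup

universe u v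

namespace Ctx

variable {G : Type u} {Ω : Type v} [Group G] [MulAction G Ω] [Finite G] [Finite Ω] {a b : Ω} {ι : ℕ} {i x : G}
  (C : Ctx G Ω a b ι i x)
include C

/-- Only `1` and `i` act trivially on the fixed points of `i`. -/
theorem four_ker (hlt : fixV a b i < fixN Ω i) {v : G} (hv : v ∈ pairFour a b i)
    (h : ∀ p : Ω, i • p = p → v • p = p) : v = 1 ∨ v = i := by
  obtain ⟨q, hq, hmove⟩ := C.four_moves hlt
  rcases C.four_eq hv with e | e | e | e
  · exact Or.inl e
  · exact Or.inr e
  · exact absurd (e ▸ h q hq) hmove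
  · exfalso
    have := h q hq
    rw [e, mul_smul, Conj.cent_smul (mem_centralizer_singleton_iff.1 (C.xnorm i C.i_mem_four).1) hq] at this
    exact hmove this

/-- An element of the centraliser of `i` fixing `a` and acting trivially on `fix i` is `1` or `i`. -/
theorem cent_ker (hlt : fixV a b i < fixN Ω i) {g : G} (hg : g * i = i * g)
    (h : ∀ p : Ω, i • p = p → g • p = p) : g = 1 ∨ g = i :=
  C.four_ker hlt (C.mem_four_of hg (h a C.ia) (h b C.ib)) h

theorem fixV_lt_at (hlt : fixV a b i < fixN Ω i) {u : G} (hu : orderOf u = 2) {p q : Ω} (hpq : p ≠ q)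
    (hp : u • p = p) (hq : u • q = q) : fixV p q u < fixN Ω u := by
  rwa [C.fixV_eq hu hpq hp hq, C.conjI.fixN_eq ⟨hu, p, q, hpq, hp, hq⟩]

theorem fixN_at {u : G} (hu : orderOf u = 2) {p q : Ω} (hpq : p ≠ q)
    (hp : u • p = p) (hq : u • q = q) : fixN Ω u = fixN Ω i :=
  C.conjI.fixN_eq ⟨hu, p, q, hpq, hp, hq⟩

theorem fixV_sq_lt {hf : fixN Ω i = fixV a b i * fixV a b i} : fixV a b i < fixN Ω i := by
  have h := C.two_le_fixV
  rw [hf]; exact Nat.lt_mul_self_iff.2 h

/-- An element inducing an involution with the single fixed point `a`. -/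
theorem exists_single (hodd : Odd (Nat.card Ω)) (hf : fixN Ω i = fixV a b i * fixV a b i) :
    ∃ t : G, t • a = a ∧ SingleOn i t a := by
  classical
  have hlt : fixV a b i < fixN Ω i := C.fixV_sq_lt (hf := hf)
  have hC := C.indJ_conj hlt
  have hc := hC.count
  rw [C.ind_iota hlt, Set.ncard_singleton, one_mul, C.fixN_indJ,
    show Nat.card ↥(fixedBy Ω i) = fixN Ω i from rfl, hf, ← Nat.mul_sub_one] at hc
  have hs2 := C.two_le_fixV
  have hd : swapN ↥(IndGrp Ω i) (⟨a, C.ia⟩ : ↥(fixedBy Ω i)) ⟨b, C.ib⟩ = 1 :=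
    (Nat.eq_of_mul_eq_mul_right (Nat.mul_pos (by omega) (by omega)) ((one_mul _).trans hc)).symm
  rw [swapN, Set.ncard_eq_one] at hd
  obtain ⟨r, hr⟩ := hd
  obtain ⟨hrf, hra, hrb⟩ := (Set.ext_iff.1 hr r).2 rfl
  set J := C.indJ
  have hrJ : r * J * r⁻¹ = J := by
    rcases C.ind_pair (r * J * r⁻¹) (by
        rw [mul_smul, mul_smul, inv_smul_eq_iff.2 hrb.symm, hC.fb, hrb])
      (by rw [mul_smul, mul_smul, inv_smul_eq_iff.2 hra.symm, hC.fa, hra]) with e | e
    · exact absurd ((orderOf_conj_two hC.ord r).symm.trans (by rw [e, orderOf_one])) (by norm_num)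
    · exact e
  have hJ1 := (orderOf_two_iff.1 hC.ord).1
  have hB : r * J ∈ {u : ↥(IndGrp Ω i) | orderOf u = 2 ∧ ¬ FixTwo ↥(fixedBy Ω i) u ∧
      u • (⟨a, C.ia⟩ : ↥(fixedBy Ω i)) = ⟨b, C.ib⟩ ∧ u • (⟨b, C.ib⟩ : ↥(fixedBy Ω i)) = ⟨a, C.ia⟩} := by
    have hsa : (r * J) • (⟨a, C.ia⟩ : ↥(fixedBy Ω i)) = ⟨b, C.ib⟩ := by rw [mul_smul, hC.fa, hra]
    have hsb : (r * J) • (⟨b, C.ib⟩ : ↥(fixedBy Ω i)) = ⟨a, C.ia⟩ := by rw [mul_smul, hC.fb, hrb]
    refine ⟨orderOf_two_iff.2 ⟨fun e => hC.ne (by rw [e, one_smul] at hsa; exact hsa), ?_⟩, fun hfx => hJ1 ?_, hsa, hsb⟩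
    · have h1 := mul_inv_eq_iff_eq_mul.1 hrJ
      calc r * J * (r * J) = r * (J * r) * J := by group
        _ = (r * r) * (J * J) := by rw [← h1]; group
        _ = 1 := by rw [(orderOf_two_iff.1 hrf.1).2, (orderOf_two_iff.1 hC.ord).2, mul_one]
    · have := (Set.ext_iff.1 hr (r * J)).1 ⟨hfx, hsa, hsb⟩
      exact mul_eq_left.1 this
  have hodd' : Odd (Nat.card ↥(fixedBy Ω i)) := Nat.odd_iff.2 (C.fix_parity.trans (Nat.odd_iff.1 hodd))
  have hA := single_count hC.ne hC.t2 hodd'
  obtain ⟨J', hJ'⟩ := Set.nonempty_of_ncard_ne_zero (hA.trans_ne (Set.ncard_ne_zero_of_mem hB))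
  obtain ⟨c, rfl, hca⟩ := C.ind_stab_lift hJ'.2.2
  refine ⟨c.1, hca, mem_centralizer_singleton_iff.1 c.2, C.ia, hca, fun q hq => ?_, fun q hq hcq => ?_⟩
  · exact congrArg Subtype.val (sq_smul hJ'.1 (⟨q, hq⟩ : ↥(fixedBy Ω i)))
  · by_contra hne
    exact hJ'.2.1 ⟨hJ'.1, ⟨q, hq⟩, ⟨a, C.ia⟩, fun e => hne (congrArg Subtype.val e),
      Subtype.ext hcq, Subtype.ext hca⟩

/-- The induced single involution is central. -/
theorem single_central (hodd : Odd (Nat.card Ω)) {t : G} (ht : SingleOn i t a) {c : G} (hc : c * i = i * c)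
    (hca : c • a = a) {p : Ω} (hp : i • p = p) : c • t • p = t • c • p := by
  have hfodd : Odd (fixN Ω i) := Nat.odd_iff.2 (C.fix_parity.trans (Nat.odd_iff.1 hodd))
  have hcinv : c⁻¹ * i = i * c⁻¹ := (show Commute c i from hc).inv_left.eq
  have hci' : c⁻¹ • a = a := (inv_smul_self_iff c a).2 hca
  have hS : SingleOn i (c * t * c⁻¹) a := by
    refine ⟨((Commute.mul_left (show Commute c i from hc) ht.comm).mul_left (show Commute c⁻¹ i from hcinv)).eq,
      C.ia, by rw [mul_smul, mul_smul, hci', ht.fix, hca], fun q hq => ?_, fun q hq he => ?_⟩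
    · rw [← mul_smul, show c * t * c⁻¹ * (c * t * c⁻¹) = c * (t * t) * c⁻¹ by group, mul_smul, mul_smul, mul_smul,
        ht.sq _ (Conj.cent_smul hcinv hq), smul_inv_smul]
    · rw [mul_smul, mul_smul] at he
      have := ht.only (c⁻¹ • q) (Conj.cent_smul hcinv hq) (eq_inv_smul_iff.2 he)
      rw [inv_smul_eq_iff.1 this, hca]
  have h := C.single_agree hfodd hS ht (Conj.cent_smul hc hp)
  rwa [mul_smul, mul_smul, inv_smul_smul] at h

/-- No elementary group of order eight. -/
theorem oddB1_elementary (hodd : Odd (Nat.card Ω)) (hf : fixN Ω i = fixV a b i * fixV a b i)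
    (hall : ∀ u : G, orderOf u = 2 → FixTwo Ω u) (E : Subgroup G) (hEa : ∀ e ∈ E, e • a = a)
    (hEsq : ∀ e ∈ E, e * e = 1) (hEc : ∀ e ∈ E, ∀ e' ∈ E, e * e' = e' * e) (hE8 : Nat.card E = 8) : False := by
  classical
  have hlt : fixV a b i < fixN Ω i := C.fixV_sq_lt (hf := hf)
  have hs : Odd (fixV a b i) := C.fixV_parity hodd hlt
  have hfodd : Odd (fixN Ω i) := Nat.odd_iff.2 (C.fix_parity.trans (Nat.odd_iff.1 hodd))
  set P : G → G → Prop := fun u e => ∀ q : Ω, u • q = q → e • q = q → q = a with hP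
  have hsymm : ∀ u e, P u e → P e u := fun u e h q h1 h2 => h q h2 h1
  set E' : Set G := (E : Set G) \ {1} with hE'
  have hpairs : ∀ u ∈ E', ∃ e₀, ∀ e, e ∈ E ∧ P u e ↔ e = e₀ ∨ e = u * e₀ := by
    rintro u ⟨huE, hu1⟩
    have huo : orderOf u = 2 := orderOf_two_iff.2 ⟨hu1, hEsq u huE⟩
    have hua := hEa u huE
    obtain ⟨q, huq, haq⟩ : ∃ q : Ω, u • q = q ∧ a ≠ q := by
      obtain ⟨-, p, q, hpq, hp, hq⟩ := hall u huo
      by_cases h : a = p
      · exact ⟨q, hq, h ▸ hpq⟩
      · exact ⟨p, hp, h⟩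
    obtain ⟨x', C'⟩ := C.exists_ctx_at huo haq hua huq
    have hf' : fixN Ω u = fixV a q u * fixV a q u := by
      rw [C.fixV_eq huo haq hua huq, C.fixN_at huo haq hua huq, hf]
    have hlt' := C.fixV_lt_at hlt huo haq hua huq
    have hfodd' : Odd (fixN Ω u) := by rwa [C.fixN_at huo haq hua huq]
    obtain ⟨t', ht'a, ht'⟩ := C'.exists_single hodd hf'
    have hex : ∃ e₀ ∈ E, P u e₀ := by
      by_contra hno
      push Not at hno
      obtain ⟨e₁, he₁, he₁1, he₁u⟩ : ∃ e₁ ∈ E, e₁ ≠ 1 ∧ e₁ ≠ u := by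
        by_contra hcon
        push Not at hcon
        have hsub : (E : Set G) ⊆ {1, u} := fun e he => by
          by_cases h : e = 1
          · exact Or.inl h
          · exact Or.inr (hcon e he h)
        have := Set.ncard_le_ncard hsub
        rw [← Nat.card_coe_set_eq, show Nat.card ↥(E : Set G) = 8 from hE8] at this
        have h2 := Set.ncard_insert_le (1 : G) {u}
        rw [Set.ncard_singleton] at h2
        omega
      obtain ⟨q₁, hq₁, he₁q, hq₁a⟩ : ∃ q₁, u • q₁ = q₁ ∧ e₁ • q₁ = q₁ ∧ q₁ ≠ a := by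
        have := hno e₁ he₁
        simpa [hP] using this
      obtain ⟨x'', C''⟩ := C.exists_ctx_at huo (Ne.symm hq₁a) hua hq₁
      set W := pairFour a q₁ u with hW
      have he₁W : e₁ ∈ W := C''.mem_four_of (hEc e₁ he₁ u huE) (hEa e₁ he₁) he₁q
      have huW : u ∈ W := C''.i_mem_four
      have hWset : (W : Set G) = {1, u, e₁, u * e₁} := by
        refine (Set.eq_of_subset_of_ncard_le ?_ ?_).symm
        · rintro z (rfl | rfl | rfl | rfl)
          exacts [one_mem W, huW, he₁W, mul_mem huW he₁W]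
        · rw [← Nat.card_coe_set_eq, show Nat.card ↥(W : Set G) = 4 from C''.card_four,
            Set.ncard_insert_of_notMem, Set.ncard_insert_of_notMem, Set.ncard_insert_of_notMem,
            Set.ncard_singleton]
          · rw [Set.mem_singleton_iff]; exact fun e => hu1 (mul_eq_right.1 e.symm)
          · simp only [Set.mem_insert_iff, Set.mem_singleton_iff, not_or]
            exact ⟨Ne.symm he₁u, fun e => he₁1 (mul_eq_left.1 e.symm)⟩
          · simp only [Set.mem_insert_iff, Set.mem_singleton_iff, not_or]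
            refine ⟨fun e => hu1 e.symm, fun e => he₁1 e.symm, fun e => he₁u ?_⟩
            rw [eq_inv_of_mul_eq_one_right e.symm, inv_eq_of_mul_eq_one_right (hEsq u huE)]
      have hWE : ∀ z ∈ W, z ∈ E := by
        intro z hz
        have : z ∈ (W : Set G) := hz
        rw [hWset] at this
        rcases this with rfl | rfl | rfl | rfl
        exacts [one_mem E, huE, he₁, mul_mem huE he₁]
      obtain ⟨e₂, he₂, he₂W⟩ : ∃ e₂ ∈ E, e₂ ∉ W := by
        by_contra hcon
        push Not at hcon
        have := card_le_of_le (show E ≤ W from hcon)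
        rw [hE8, show Nat.card W = 4 from C''.card_four] at this
        omega
      have he₂q : e₂ • q₁ ≠ q₁ := fun e => he₂W (C''.mem_four_of (hEc e₂ he₂ u huE) (hEa e₂ he₂) e)
      have he₂N : e₂ ∈ normalizer (W : Set G) := mem_normalizer_iff.2 fun z => by
        constructor
        · intro hz; rw [hEc e₂ he₂ z (hWE z hz), mul_inv_cancel_right]; exact hz
        · intro hz
          have h1 := hWE _ hz
          have h2 : z = e₂⁻¹ * (e₂ * z * e₂⁻¹) * e₂ := by group
          rw [h2, mul_assoc, hEc _ h1 e₂ he₂, inv_mul_cancel_left]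
          exact hz
      have ht'q : t' • q₁ ≠ q₁ := fun e => hq₁a (ht'.only q₁ hq₁ e)
      have ht'2 : t' * t' ∈ W := C''.mem_four_of
        ((Commute.mul_left (show Commute t' u from ht'.comm) ht'.comm).eq)
        (by rw [mul_smul, ht'a, ht'a]) (by rw [mul_smul]; exact ht'.sq q₁ hq₁)
      have ht'N : t' ∈ normalizer (W : Set G) := by
        refine PGroup.mem_normalizer_of_conj_le fun z hz => ?_
        have hzu : z * u = u * z := mem_centralizer_singleton_iff.1 hz.1
        have hza : z • a = a := mem_stabilizer_iff.1 hz.2.1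
        have hti : t'⁻¹ * u = u * t'⁻¹ := (show Commute t' u from ht'.comm).inv_left.eq
        refine C''.mem_four_of ((Commute.mul_left (Commute.mul_left (show Commute t' u from ht'.comm) hzu)
          (show Commute t'⁻¹ u from hti)).eq) ?_ ?_
        · rw [mul_smul, mul_smul, inv_smul_eq_iff.2 ht'a.symm, hza, ht'a]
        · rw [mul_smul, mul_smul, ← C'.single_central hodd ht' hzu hza (Conj.cent_smul hti hq₁), smul_inv_smul]
          exact mem_stabilizer_iff.1 hz.2.2
      have hWodd : Odd (fixV a q₁ u) := by rwa [C.fixV_eq huo (Ne.symm hq₁a) hua hq₁]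
      have hm := C''.sigma_agree hWodd (hEc e₂ he₂ u huE) he₂N (hEa e₂ he₂) he₂q
        (by rw [hEsq e₂ he₂]; exact one_mem W) ht'.comm ht'N ht'a ht'q ht'2
      have ht'E : t' ∈ E := by
        have := mul_mem he₂ (hWE _ hm)
        rwa [mul_inv_cancel_left] at this
      obtain ⟨z, hz1, hz2, hz3⟩ : ∃ z, u • z = z ∧ t' • z = z ∧ z ≠ a := by
        have := hno t' ht'E
        simpa [hP] using this
      exact hz3 (ht'.only z hz1 hz2)
    obtain ⟨e₀, he₀, hP₀⟩ := hex
    refine ⟨e₀, fun e => ⟨fun ⟨he, hPe⟩ => ?_, ?_⟩⟩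
    · have hS : ∀ z ∈ E, P u z → SingleOn u z a := fun z hz hPz =>
        ⟨hEc z hz u huE, hua, hEa z hz, fun p _ => by rw [← mul_smul, hEsq z hz, one_smul], hPz⟩
      have hker := C'.cent_ker hlt' (g := e₀⁻¹ * e) (hEc _ (mul_mem (inv_mem he₀) he) u huE) fun p hp => by
        rw [mul_smul, C'.single_agree hfodd' (hS e he hPe) (hS e₀ he₀ hP₀) hp, inv_smul_smul]
      rcases hker with h | h
      · exact Or.inl (inv_mul_eq_one.1 h).symm
      · right
        rw [hEc u huE e₀ he₀, ← h, mul_inv_cancel_left]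
    · rintro (rfl | rfl)
      · exact ⟨he₀, hP₀⟩
      · refine ⟨mul_mem huE he₀, fun p hp hep => hP₀ p hp ?_⟩
        rw [mul_smul] at hep
        have := congrArg (u • ·) hep
        rw [sq_smul huo, hp] at this
        exact this
  set line : G → Set G := fun u => insert u {e | e ∈ E ∧ P u e} with hline
  have hne_two : ∀ u ∈ E', ∀ e, P u e → e ≠ 1 ∧ e ≠ u := by
    rintro u ⟨huE, hu1⟩ e hPe
    obtain ⟨-, p, q, hpq, hp, hq⟩ := hall u (orderOf_two_iff.2 ⟨hu1, hEsq u huE⟩)
    constructor
    · rintro rfl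
      exact hpq ((hPe p hp (one_smul _ _)).trans (hPe q hq (one_smul _ _)).symm)
    · rintro rfl
      exact hpq ((hPe p hp hp).trans (hPe q hq hq).symm)
  have hfib : ∀ u ∈ E', {e | e ∈ E' ∧ line e = line u}.ncard = 3 := by
    intro u hu
    obtain ⟨e₀, he₀⟩ := hpairs u hu
    have h0 := (he₀ e₀).2 (Or.inl rfl)
    have h1 := (he₀ (u * e₀)).2 (Or.inr rfl)
    have hlu : line u = {u, e₀, u * e₀} := by
      ext z; simp only [hline, Set.mem_insert_iff, Set.mem_setOf_eq, Set.mem_singleton_iff]
      rw [he₀ z]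
    have hn0 := hne_two u hu e₀ h0.2
    have hn1 := hne_two u hu _ h1.2
    have hne01 : e₀ ≠ u * e₀ := fun e => hu.2 (mul_eq_right.1 e.symm)
    have key : ∀ e, e ∈ E → P u e → line e = {u, e, u * e} := by
      intro e he hPe
      obtain ⟨f₀, hf₀⟩ := hpairs e ⟨he, (hne_two u hu e hPe).1⟩
      have hpair : ∀ z, (z = f₀ ∨ z = e * f₀) ↔ (z = u ∨ z = e * u) := by
        rcases (hf₀ u).1 ⟨hu.1, hsymm u e hPe⟩ with h | h
        · intro z; rw [h]
        · intro z
          rw [h, ← mul_assoc, hEsq e he, one_mul]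
          exact or_comm
      ext z
      simp only [hline, Set.mem_insert_iff, Set.mem_setOf_eq, Set.mem_singleton_iff]
      rw [hf₀ z, hpair z, hEc e he u hu.1]
      tauto
    have hl0 : line e₀ = line u := by rw [key e₀ h0.1 h0.2, hlu]
    have hl1 : line (u * e₀) = line u := by
      rw [key _ h1.1 h1.2, hlu, ← mul_assoc, hEsq u hu.1, one_mul]
      ext z; simp only [Set.mem_insert_iff, Set.mem_singleton_iff]; tauto
    have hset : {e | e ∈ E' ∧ line e = line u} = {u, e₀, u * e₀} := by
      ext z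
      constructor
      · rintro ⟨-, hz⟩
        rw [← hlu, ← hz]; exact Set.mem_insert _ _
      · rintro (rfl | rfl | rfl)
        exacts [⟨hu, rfl⟩, ⟨⟨h0.1, hn0.1⟩, hl0⟩, ⟨⟨h1.1, hn1.1⟩, hl1⟩]
    rw [hset, Set.ncard_insert_of_notMem (by simp [Ne.symm hn0.2, Ne.symm hn1.2]),
      Set.ncard_insert_of_notMem (by simp [hne01]), Set.ncard_singleton]
  have h7 : E'.ncard = 7 := by
    rw [hE', Set.ncard_diff_singleton_of_mem (one_mem E : (1 : G) ∈ (E : Set G)), ← Nat.card_coe_set_eq]
    exact (congrArg (· - 1) hE8).trans rfl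
  haveI := Fintype.ofFinite G
  haveI : DecidableEq (Set G) := Classical.decEq _
  have h3 : 3 ∣ E'.toFinset.card := by
    rw [Finset.card_eq_sum_card_fiberwise (f := line) (t := E'.toFinset.image line)
      (fun e he => Finset.mem_image_of_mem _ he)]
    refine Finset.dvd_sum fun F hF => ?_
    obtain ⟨u, hu, rfl⟩ := Finset.mem_image.1 hF
    rw [Set.mem_toFinset] at hu
    have := hfib u hu
    rw [← Set.ncard_coe_finset, Finset.coe_filter]
    simp only [Set.mem_toFinset]
    rw [this]
  rw [← Set.ncard_eq_toFinset_card', h7] at h3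
  norm_num at h3

/-- **`f = s²` is impossible in odd degree when all involutions fix two points.** -/
theorem oddB1_false (hodd : Odd (Nat.card Ω)) (hf : fixN Ω i = fixV a b i * fixV a b i)
    (hall : ∀ u : G, orderOf u = 2 → FixTwo Ω u) : False := by
  classical
  haveI : Fact (Nat.Prime 2) := ⟨Nat.prime_two⟩
  have hlt : fixV a b i < fixN Ω i := C.fixV_sq_lt (hf := hf)
  have hs : Odd (fixV a b i) := C.fixV_parity hodd hlt
  have hfodd : Odd (fixN Ω i) := Nat.odd_iff.2 (C.fix_parity.trans (Nat.odd_iff.1 hodd))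
  obtain ⟨t₀, ht₀a, ht₀⟩ := C.exists_single hodd hf
  set V := pairFour a b i with hV
  obtain ⟨j, hjdef⟩ : ∃ j, j = x * i * x⁻¹ := ⟨_, rfl⟩
  have hjV : j ∈ V := hjdef ▸ C.xnorm i C.i_mem_four
  have hji : j * i = i * j := C.four_comm hjV C.i_mem_four
  have hja : j • a = a := mem_stabilizer_iff.1 hjV.2.1
  have hjb : j • b = b := mem_stabilizer_iff.1 hjV.2.2
  have hjj : j * j = 1 := C.four_sq hjV
  have hjo : orderOf j = 2 := by
    rw [hjdef]; exact (orderOf_injective (MulAut.conj x).toMonoidHom (MulAut.conj x).injective i).trans C.ord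
  have hii : i * i = 1 := C.four_sq C.i_mem_four
  have hfour : ∀ v ∈ V, v = 1 ∨ v = i ∨ v = j ∨ v = i * j := fun v hv => by rw [hjdef]; exact C.four_eq hv
  have hC := C.indJ_conj hlt
  -- a conjugate of `j` inducing `t₀ j`
  set K' : ↥(IndGrp Ω i) := indMk Ω i ⟨t₀ * j, mul_mem (mem_centralizer_singleton_iff.2 ht₀.comm) hjV.1⟩ with hK'
  have hK'o : orderOf K' = 2 := by
    refine orderOf_two_iff.2 ⟨fun e => ?_, ?_⟩
    · rw [← indMk_one] at e
      have h1 := indMk_eq.1 e b C.ib
      have h1' : (t₀ * j) • b = (1 : G) • b := h1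
      rw [one_smul, mul_smul, hjb] at h1'
      exact C.ne (ht₀.only b C.ib h1').symm
    · rw [hK', ← indMk_mul, ← indMk_one]
      refine indMk_eq.2 fun p hp => ?_
      show (t₀ * j * (t₀ * j)) • p = (1 : G) • p
      rw [one_smul, mul_smul, mul_smul, mul_smul, C.single_central hodd ht₀ hji hja (Conj.cent_smul hji hp),
        ← mul_smul j, hjj, one_smul, ht₀.sq p hp]
  have hK'f : FixTwo ↥(fixedBy Ω i) K' := by
    by_contra hfix
    obtain ⟨q, hq, hmove⟩ := C.four_moves hlt
    have hS : SingleOn i (t₀ * j) a := by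
      refine ⟨(Commute.mul_left (show Commute t₀ i from ht₀.comm) hji).eq, C.ia, by rw [mul_smul, hja, ht₀a],
        fun p hp => congrArg Subtype.val (sq_smul hK'o (⟨p, hp⟩ : ↥(fixedBy Ω i))), fun p hp he => ?_⟩
      by_contra hne
      exact hfix ⟨hK'o, ⟨p, hp⟩, ⟨a, C.ia⟩, fun e => hne (congrArg Subtype.val e), Subtype.ext he,
        Subtype.ext (show (t₀ * j) • a = a by rw [mul_smul, hja, ht₀a])⟩
    have := C.single_agree hfodd hS ht₀ hq
    rw [mul_smul, smul_left_cancel_iff] at this
    exact hmove (hjdef ▸ this)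
  obtain ⟨H, hHa, hH⟩ := hC.conj_in_stab hK'f (Subtype.ext (show (t₀ * j) • a = a by rw [mul_smul, hja, ht₀a]))
  obtain ⟨h, rfl, hha⟩ := C.ind_stab_lift hHa
  obtain ⟨w, hwdef⟩ : ∃ w, w = h.1 * j * h.1⁻¹ := ⟨_, rfl⟩
  have hhinv : h.1⁻¹ • a = a := (inv_smul_self_iff h.1 a).2 hha
  have hwo : orderOf w = 2 := hwdef ▸ orderOf_conj_two hjo h.1
  have hww : w * w = 1 := (orderOf_two_iff.1 hwo).2
  have hwC : w ∈ centralizer ({i} : Set G) := hwdef ▸ mul_mem (mul_mem h.2 hjV.1) (inv_mem h.2)
  have hwi : w * i = i * w := mem_centralizer_singleton_iff.1 hwC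
  have hwa : w • a = a := by rw [hwdef, mul_smul, mul_smul, hhinv, hja, hha]
  have hwact : ∀ p : Ω, i • p = p → w • p = (t₀ * j) • p := by
    rw [Ctx.indJ, ← indMk_inv, ← indMk_mul, ← indMk_mul, hK'] at hH
    intro p hp
    rw [hwdef, hjdef]
    have := indMk_eq.1 hH p hp
    simp only [hjdef] at this
    exact this
  obtain ⟨t, htdef⟩ : ∃ t, t = w * j := ⟨_, rfl⟩
  have hti : t * i = i * t := by rw [htdef]; exact (Commute.mul_left (show Commute w i from hwi) hji).eq
  have hta : t • a = a := by rw [htdef, mul_smul, hja, hwa]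
  have htact : ∀ p : Ω, i • p = p → t • p = t₀ • p := fun p hp => by
    rw [htdef, mul_smul, hwact _ (Conj.cent_smul hji hp), mul_smul, ← mul_smul j, hjj, one_smul]
  have htS : SingleOn i t a := ⟨hti, C.ia, hta, fun q hq => by
      rw [htact _ (Conj.cent_smul hti hq), htact q hq, ht₀.sq q hq],
    fun q hq he => ht₀.only q hq (by rwa [← htact q hq])⟩
  have htb : t • b ≠ b := fun e => C.ne (htS.only b C.ib e).symm
  have ht2 : t * t = 1 ∨ t * t = i := C.cent_ker hlt
    ((Commute.mul_left (show Commute t i from hti) hti).eq) fun p hp => by rw [mul_smul, htS.sq p hp]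
  by_cases hwj : w * j = j * w
  · -- an elementary group of order eight
    have hwV : w ∉ V := fun hm => htb (by rw [htdef, mul_smul, hjb, mem_stabilizer_iff.1 hm.2.2])
    have hwc : ∀ v ∈ V, v * w = w * v := fun v hv => by
      rcases hfour _ hv with rfl | rfl | rfl | rfl
      · simp
      · exact hwi.symm
      · exact hwj.symm
      · exact ((Commute.mul_right (show Commute w i from hwi) hwj).eq).symm
    let E : Subgroup G :=
      { carrier := {e | e ∈ V ∨ w * e ∈ V}
        one_mem' := Or.inl (one_mem V)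
        mul_mem' := by
          rintro p q (hp | hp) (hq | hq)
          · exact Or.inl (mul_mem hp hq)
          · exact Or.inr (by rw [← mul_assoc, ← hwc p hp, mul_assoc]; exact mul_mem hp hq)
          · exact Or.inr (by rw [← mul_assoc]; exact mul_mem hp hq)
          · refine Or.inl ?_
            have h1 := hwc _ hp
            have : p * q = w * p * (w * q) := by
              calc p * q = w * (w * p) * q := by rw [← mul_assoc w, hww, one_mul]
                _ = w * p * w * q := by rw [← h1]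
                _ = w * p * (w * q) := mul_assoc _ _ _
            rw [this]; exact mul_mem hp hq
        inv_mem' := by
          rintro p (hp | hp)
          · exact Or.inl (inv_mem hp)
          · refine Or.inr ?_
            have hpp : p * p = 1 := by
              obtain ⟨v, hv, rfl⟩ : ∃ v ∈ V, p = w * v := ⟨w * p, hp, by rw [← mul_assoc, hww, one_mul]⟩
              calc w * v * (w * v) = w * (v * w) * v := by group
                _ = (w * w) * (v * v) := by rw [hwc v hv]; group
                _ = 1 := by rw [hww, C.four_sq hv, one_mul]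
            rwa [inv_eq_of_mul_eq_one_right hpp] }
    have hform : ∀ e ∈ E, e ∈ V ∨ ∃ v ∈ V, e = w * v := by
      rintro e (he | he)
      · exact Or.inl he
      · exact Or.inr ⟨w * e, he, by rw [← mul_assoc, hww, one_mul]⟩
    refine C.oddB1_elementary hodd hf hall E (fun e he => ?_) (fun e he => ?_) (fun e he e' he' => ?_) ?_
    · rcases hform e he with h1 | ⟨v, hv, rfl⟩
      · exact mem_stabilizer_iff.1 h1.2.1
      · rw [mul_smul, mem_stabilizer_iff.1 hv.2.1, hwa]
    · rcases hform e he with h1 | ⟨v, hv, rfl⟩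
      · exact C.four_sq h1
      · calc w * v * (w * v) = w * (v * w) * v := by group
          _ = (w * w) * (v * v) := by rw [hwc v hv]; group
          _ = 1 := by rw [hww, C.four_sq hv, one_mul]
    · have hcl : ∀ d ∈ E, d * w = w * d := by
        intro d hd
        rcases hform d hd with h1 | ⟨v, hv, rfl⟩
        · exact hwc d h1
        · rw [mul_assoc, hwc v hv]
      have hcv : ∀ d ∈ E, ∀ v ∈ V, d * v = v * d := by
        intro d hd v hv
        rcases hform d hd with h1 | ⟨v', hv', rfl⟩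
        · exact C.four_comm h1 hv
        · rw [mul_assoc, C.four_comm hv' hv, ← mul_assoc, ← hwc v hv, mul_assoc]
      rcases hform e' he' with h1 | ⟨v, hv, rfl⟩
      · exact hcv e he e' h1
      · rw [← mul_assoc, hcl e he, mul_assoc, hcv e he v hv, ← mul_assoc]
    · have hset : (E : Set G) = (V : Set G) ∪ (fun v => w * v) '' (V : Set G) := by
        ext e
        constructor
        · intro he
          rcases hform e he with h1 | ⟨v, hv, rfl⟩
          · exact Or.inl h1
          · exact Or.inr ⟨v, hv, rfl⟩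
        · rintro (h1 | ⟨v, hv, rfl⟩)
          · exact Or.inl h1
          · exact Or.inr (by rw [← mul_assoc, hww, one_mul]; exact hv)
      have hdis : Disjoint (V : Set G) ((fun v => w * v) '' (V : Set G)) := by
        rw [Set.disjoint_left]
        rintro e he ⟨v, hv, rfl⟩
        exact hwV ((Subgroup.mul_mem_cancel_right _ hv).1 he)
      have h4 : (V : Set G).ncard = 4 := by rw [← Nat.card_coe_set_eq]; exact C.card_four
      show Nat.card ↥(E : Set G) = 8
      rw [Nat.card_coe_set_eq, hset, Set.ncard_union_eq hdis, Set.ncard_image_of_injective _ (mul_right_injective w), h4]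
  · -- dihedral Sylow subgroup of the centraliser of `i` in the stabiliser
    have ht2' : t * t = i := by
      refine ht2.resolve_left fun e => hwj ?_
      have h1 : t⁻¹ = j * w := by rw [htdef, mul_inv_rev, inv_eq_of_mul_eq_one_right hjj, inv_eq_of_mul_eq_one_right hww]
      rw [← htdef, ← h1]; exact (inv_eq_of_mul_eq_one_right e).symm
    have hwjw : w * j * w = i * j := by
      rw [← ht2', htdef]
      calc w * j * w = w * j * w * (j * j) := by rw [hjj, mul_one]
        _ = w * j * (w * j) * j := by group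
    have htN : t ∈ normalizer (V : Set G) := by
      rw [htdef]
      refine mul_mem (PGroup.mem_normalizer_of_conj_le fun v hv => ?_) (le_normalizer hjV)
      rw [inv_eq_of_mul_eq_one_right hww]
      rcases hfour _ hv with rfl | rfl | rfl | rfl
      · rw [mul_one, hww]; exact one_mem V
      · rw [hwi, mul_assoc, hww, mul_one]; exact C.i_mem_four
      · rw [hwjw]; exact mul_mem C.i_mem_four hjV
      · rw [show w * (i * j) * w = i * (w * j * w) by rw [← mul_assoc w, hwi]; group, hwjw, ← mul_assoc,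
          hii, one_mul]
        exact hjV
    have htj : t * j ≠ j * t := by
      intro e
      refine hwj ?_
      rw [htdef] at e
      rw [← mul_right_cancel_iff (a := j)]
      exact e.trans (mul_assoc _ _ _).symm
    have ht2V : t * t ∈ V := by rw [ht2']; exact C.i_mem_four
    -- the four group is its own centraliser among 2-elements
    have hself : ∀ y : G, y * i = i * y → y • a = a → y * j = j * y → ∀ k : ℕ, y ^ 2 ^ k ∈ V → y ∈ V := by
      intro y hyi hya hyj k
      induction k generalizing y with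
      | zero => intro h; rwa [pow_zero, pow_one] at h
      | succ k ih =>
        intro h
        have hy2 : y * y ∈ V := ih (y * y) ((Commute.mul_left (show Commute y i from hyi) hyi).eq)
          (by rw [mul_smul, hya, hya]) ((Commute.mul_left (show Commute y j from hyj) hyj).eq)
          (by rw [← pow_two, ← pow_mul, ← pow_succ']; exact h)
        by_cases hyb : y • b = b
        · exact C.mem_four_of hyi hya hyb
        exfalso
        have hyN : y ∈ normalizer (V : Set G) := PGroup.mem_normalizer_of_conj_le fun v hv => by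
          have hc : y * v = v * y := by
            rcases hfour _ hv with rfl | rfl | rfl | rfl
            · simp
            · exact hyi
            · exact hyj
            · exact (Commute.mul_right (show Commute y i from hyi) hyj).eq
          rw [hc, mul_inv_cancel_right]; exact hv
        have hm := C.sigma_agree hs hti htN hta htb ht2V hyi hyN hya hyb hy2
        have h1 : t⁻¹ * y * j = j * (t⁻¹ * y) := C.four_comm hm hjV
        refine htj ?_
        have h2 : t⁻¹ * j = j * t⁻¹ := by
          rw [mul_assoc, hyj, ← mul_assoc, ← mul_assoc] at h1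
          exact mul_right_cancel h1
        calc t * j = t * (j * t⁻¹) * t := by group
          _ = t * (t⁻¹ * j) * t := by rw [h2]
          _ = j * t := by group
    set Ca := centralizer ({i} : Set G) ⊓ stabilizer G a with hCa
    have hVle : V ≤ Ca := fun v hv => ⟨hv.1, hv.2.1⟩
    have h32 : 32 ∣ Nat.card ↥Ca := by
      rw [C.card_cent_stab, hf]
      obtain ⟨m, hm⟩ := hs
      obtain ⟨d, hd⟩ := Nat.even_mul_succ_self m
      rw [hm, show (2 * m + 1) * (2 * m + 1) = 4 * (m * (m + 1)) + 1 by ring, Nat.add_sub_cancel, hd]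
      exact ⟨d, by ring⟩
    obtain ⟨T, hVT⟩ := (show IsPGroup 2 ↥(V.subgroupOf Ca) from IsPGroup.of_card (n := 2) (by
      rw [Nat.card_congr (subgroupOfEquivOfLe hVle).toEquiv, C.card_four]; norm_num)).exists_le_sylow
    set X := ↥(T : Subgroup ↥Ca)
    obtain ⟨n, hn⟩ : ∃ n, Nat.card X = 2 ^ n := T.2.exists_card_eq
    have hn5 : 5 ≤ n := by
      have h := T.pow_dvd_card_of_pow_dvd_card (n := 5) (show 2 ^ 5 ∣ Nat.card ↥Ca by norm_num; exact h32)
      rw [hn] at h
      exact (Nat.pow_dvd_pow_iff_le_right one_lt_two).1 h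
    set i' : X := ⟨⟨i, hVle C.i_mem_four⟩, hVT (mem_subgroupOf.2 C.i_mem_four)⟩ with hi'
    set j' : X := ⟨⟨j, hVle hjV⟩, hVT (mem_subgroupOf.2 hjV)⟩ with hj'
    set A : Subgroup X := (V.subgroupOf Ca).subgroupOf (T : Subgroup ↥Ca) with hA
    have hAmem : ∀ y : X, y ∈ A ↔ y.1.1 ∈ V := fun y => Iff.rfl
    have hA4 : Nat.card A = 2 ^ 2 := by
      rw [hA, Nat.card_congr (subgroupOfEquivOfLe hVT).toEquiv, Nat.card_congr (subgroupOfEquivOfLe hVle).toEquiv,
        C.card_four]
      norm_num
    have hCX : ∀ y : X, y * j' = j' * y → y ∈ A := by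
      intro y hy
      obtain ⟨k, hk⟩ := T.2 y
      refine hself y.1.1 (mem_centralizer_singleton_iff.1 y.1.2.1) (mem_stabilizer_iff.1 y.1.2.2)
        (congrArg (fun z : X => z.1.1) hy) k ?_
      rw [← SubgroupClass.coe_pow, ← SubgroupClass.coe_pow, hk]
      exact one_mem V
    have hAC : centralizer (A : Set X) = A := by
      refine le_antisymm (fun y hy => hCX y ((mem_centralizer_iff.1 hy j' ((hAmem j').2 hjV)).symm)) fun y hy => ?_
      exact mem_centralizer_iff.2 fun z hz => Subtype.ext (Subtype.ext (C.four_comm ((hAmem z).1 hz) ((hAmem y).1 hy)))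
    have hclass := PGroup.maximal_class_of_selfCentralizing n X hn A hA4 hAC
    have hidx4 : (_root_.commutator X).index = 4 := by
      have h1 := PGroup.card_lcs_of_maximal_class (by omega : 3 ≤ n) hn hclass le_rfl (by omega : 1 ≤ n - 1)
      rw [top_lowerCentralSeries_one] at h1
      have h2 := (_root_.commutator X).card_mul_index
      rw [h1, hn, show n = n - 1 - 1 + 2 by omega, pow_add] at h2
      rw [show n - 1 - 1 + 2 - 1 - 1 = n - 1 - 1 by omega] at h2
      exact Nat.eq_of_mul_eq_mul_left (pow_pos two_pos _) h2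
    obtain ⟨r, hr2⟩ := PGroup.cyclic_index_two_of_card_ab n X (by omega) hn hidx4
    have hro : orderOf r = 2 ^ (n - 1) := by
      have h := (zpowers r).card_mul_index
      rw [Nat.card_zpowers, hr2, hn, show 2 ^ n = 2 ^ (n - 1) * 2 by rw [← pow_succ]; congr 1; omega] at h
      omega
    have hrA : r ∉ A := fun h => by
      have h4 : orderOf r ∣ 2 ^ 2 := hA4 ▸ (Subgroup.orderOf_mk r h ▸ orderOf_dvd_natCard (⟨r, h⟩ : A))
      rw [hro, Nat.pow_dvd_pow_iff_le_right one_lt_two] at h4
      omega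
    have hri : ∀ y : X, y * i' = i' * y := fun y =>
      Subtype.ext (Subtype.ext (mem_centralizer_singleton_iff.1 y.1.2.1))
    have hjr : j' ∉ zpowers r := fun hm => hrA (hCX r (by
      obtain ⟨k, hk⟩ := mem_zpowers_iff.1 hm
      rw [← hk]; exact ((Commute.refl r).zpow_right k).eq))
    have hijr : i' * j' ∉ zpowers r := fun hm => hrA (hCX r (by
      obtain ⟨k, hk⟩ := mem_zpowers_iff.1 hm
      have h1 : r * (i' * j') = (i' * j') * r := by rw [← hk]; exact ((Commute.refl r).zpow_right k).eq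
      rw [← mul_assoc, hri r, mul_assoc, mul_assoc] at h1
      exact mul_left_cancel h1))
    have hir : i' ∈ zpowers r := by
      have h := (Subgroup.mul_mem_iff_of_index_two hr2 (a := i' * j') (b := j')).2 (iff_of_false hijr hjr)
      rwa [mul_assoc, show j' * j' = 1 from Subtype.ext (Subtype.ext hjj), mul_one] at h
    -- the image in the induced group
    set Y := stabilizer ↥(IndGrp Ω i) (⟨a, C.ia⟩ : ↥(fixedBy Ω i))
    have hmemY : ∀ g : ↥Ca, indMk Ω i ⟨g.1, g.2.1⟩ ∈ Y := fun g =>
      mem_stabilizer_iff.2 (Subtype.ext (mem_stabilizer_iff.1 g.2.2))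
    let φ : ↥Ca →* ↥Y := MonoidHom.mk' (fun g => ⟨indMk Ω i ⟨g.1, g.2.1⟩, hmemY g⟩)
      (fun g g' => Subtype.ext (indMk_mul i ⟨g.1, g.2.1⟩ ⟨g'.1, g'.2.1⟩))
    have hφeq : ∀ g g' : ↥Ca, φ g = φ g' ↔ ∀ p : Ω, i • p = p → g.1 • p = g'.1 • p := fun g g' =>
      Subtype.ext_iff.trans indMk_eq
    have hφ : Function.Surjective φ := by
      rintro ⟨y, hy⟩
      obtain ⟨c, rfl, hc⟩ := C.ind_stab_lift (mem_stabilizer_iff.1 hy)
      exact ⟨⟨c.1, c.2, mem_stabilizer_iff.2 hc⟩, rfl⟩
    have hker : ∀ g : ↥Ca, φ g = 1 ↔ g.1 = 1 ∨ g.1 = i := by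
      intro g
      rw [← map_one φ, hφeq]
      constructor
      · exact fun h => C.cent_ker hlt (mem_centralizer_singleton_iff.1 g.2.1) fun p hp => (h p hp).trans (one_smul _ p)
      · rintro (e | e) p hp <;> simp [e, hp]
    have hkerT : φ.ker ≤ (T : Subgroup ↥Ca) := by
      intro g hg
      rcases (hker g).1 hg with e | e
      · rw [show g = 1 from Subtype.ext e]; exact one_mem _
      · rw [show g = i'.1 from Subtype.ext e]; exact i'.2
    have hkerr : φ.ker ≤ zpowers r.1 := by
      intro g hg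
      rcases (hker g).1 hg with e | e
      · rw [show g = 1 from Subtype.ext e]; exact one_mem _
      · rw [show g = i'.1 from Subtype.ext e]
        obtain ⟨k, hk⟩ := mem_zpowers_iff.1 hir
        exact mem_zpowers_iff.2 ⟨k, congrArg Subtype.val hk⟩
    have hkcard : Nat.card φ.ker = 2 := by
      have hset : (φ.ker : Set ↥Ca) = {1, i'.1} := by
        ext g
        simp only [SetLike.mem_coe, MonoidHom.mem_ker, Set.mem_insert_iff, Set.mem_singleton_iff, hker,
          Subtype.ext_iff]
        rfl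
      show Nat.card ↥(φ.ker : Set ↥Ca) = 2
      rw [Nat.card_coe_set_eq, hset, Set.ncard_pair fun e => C.i_ne_one (congrArg Subtype.val e).symm]
    have hmapcard : ∀ H : Subgroup ↥Ca, φ.ker ≤ H → Nat.card H = 2 * Nat.card (H.map φ) := by
      intro H hle
      have h := (φ.comp H.subtype).ker.card_mul_index
      rw [index_ker, MonoidHom.range_comp, H.range_subtype,
        show (φ.comp H.subtype).ker = φ.ker.subgroupOf H from rfl,
        Nat.card_congr (subgroupOfEquivOfLe hle).toEquiv, hkcard] at h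
      exact h.symm
    set P : Sylow 2 ↥Y := T.mapSurjective hφ with hP
    have hPc : (P : Subgroup ↥Y) = (T : Subgroup ↥Ca).map φ := rfl
    set R := φ r.1 with hR
    have hRo : orderOf R = 2 ^ (n - 2) := by
      have h := hmapcard _ hkerr
      rw [MonoidHom.map_zpowers, Nat.card_zpowers, Nat.card_zpowers, Subgroup.orderOf_coe, hro,
        show n - 1 = n - 2 + 1 by omega, pow_succ, ← hR] at h
      omega
    have hN4 : 4 ∣ orderOf R := by
      rw [hRo]; exact (show (4 : ℕ) = 2 ^ 2 by norm_num) ▸ Nat.pow_dvd_pow 2 (by omega)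
    have hPcard : Nat.card (P : Subgroup ↥Y) = 2 * orderOf R := by
      have h := hmapcard _ hkerT
      rw [← hPc] at h
      have hX : Nat.card ↥(T : Subgroup ↥Ca) = 2 ^ n := hn
      rw [hX, show 2 ^ n = 2 ^ (n - 2) * 2 ^ 2 by rw [← pow_add]; congr 1; omega] at h
      rw [hRo]; omega
    have houtP : ∀ q ∈ (P : Subgroup ↥Y), q ∉ zpowers R → q * q = 1 := by
      rintro _ ⟨y, hy, rfl⟩ hq
      set y' : X := ⟨y, hy⟩
      have hy' : y' ∉ zpowers r := fun hm => hq (by
        obtain ⟨k, hk⟩ := mem_zpowers_iff.1 hm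
        exact mem_zpowers_iff.2 ⟨k, by rw [hR, ← map_zpow]; exact congrArg φ (congrArg Subtype.val hk)⟩)
      have hz : j' * y' ∈ zpowers r := (Subgroup.mul_mem_iff_of_index_two hr2).2 (iff_of_false hjr hy')
      have hy2 : y' * y' ∈ zpowers r := Subgroup.mul_self_mem_of_index_two hr2 y'
      have hc : Commute (j' * y') (y' * y') := by
        obtain ⟨k, hk⟩ := mem_zpowers_iff.1 hz
        obtain ⟨l, hl⟩ := mem_zpowers_iff.1 hy2
        rw [← hk, ← hl]; exact ((Commute.refl r).zpow_left k).zpow_right l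
      have hcj : y' * y' * j' = j' * (y' * y') := by
        refine mul_right_cancel (b := y') ?_
        rw [mul_assoc (y' * y') j' y', ← hc.eq, mul_assoc, mul_assoc, mul_assoc]
      have hV2 : (y' * y').1.1 ∈ V := (hAmem _).1 (hCX _ hcj)
      rw [← map_mul]
      refine (hker (y * y)).2 ?_
      rcases hfour _ hV2 with e | e | e | e
      · exact Or.inl e
      · exact Or.inr e
      · exact absurd ((show y' * y' = j' from Subtype.ext (Subtype.ext e)) ▸ hy2) hjr
      · exact absurd ((show y' * y' = i' * j' from Subtype.ext (Subtype.ext e)) ▸ hy2) hijr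
    -- the induced single involution is the central one
    set t' : ↥Ca := ⟨t, mem_centralizer_singleton_iff.2 hti, mem_stabilizer_iff.2 hta⟩ with ht'
    have htc : ∀ g : ↥Y, g * φ t' = φ t' * g := by
      intro g
      obtain ⟨g, rfl⟩ := hφ g
      rw [← map_mul, ← map_mul, hφeq]
      intro p hp
      show (g.1 * t) • p = (t * g.1) • p
      rw [mul_smul, mul_smul]
      exact C.single_central hodd htS (mem_centralizer_singleton_iff.1 g.2.1) (mem_stabilizer_iff.1 g.2.2) hp
    have htt : φ t' * φ t' = 1 := by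
      rw [← map_mul]; exact (hker _).2 (Or.inr ht2')
    have ht1 : φ t' ≠ 1 := fun e => htb (by
      have := (hφeq t' 1).1 (by rw [e, map_one]) b C.ib
      rwa [show (1 : ↥Ca).1 = (1 : G) from rfl, one_smul] at this)
    have htP : φ t' ∈ (P : Subgroup ↥Y) := by
      haveI : (zpowers (φ t')).Normal := ⟨fun z hz g => by
        obtain ⟨k, rfl⟩ := mem_zpowers_iff.1 hz
        rw [((show Commute g (φ t') from htc g).zpow_right k).eq, mul_inv_cancel_right]
        exact zpow_mem (mem_zpowers _) k⟩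
      have hp2 : IsPGroup 2 ↥(zpowers (φ t')) := IsPGroup.of_card (n := 1) (by
        rw [Nat.card_zpowers, pow_one]; exact orderOf_two_iff.2 ⟨ht1, htt⟩)
      have := P.is_maximal' (P.2.to_sup_of_normal_right hp2) le_sup_left
      exact this ▸ (le_sup_right : zpowers (φ t') ≤ (P : Subgroup ↥Y) ⊔ zpowers (φ t')) (mem_zpowers _)
    have hRP : R ∈ (P : Subgroup ↥Y) := ⟨r.1, r.2, rfl⟩
    have hR2 : R ^ 2 ≠ 1 := fun e => by
      have h := Nat.le_of_dvd two_pos (orderOf_dvd_of_pow_eq_one e)
      have h4 := Nat.le_of_dvd (orderOf_pos R) hN4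
      omega
    have htR : φ t' ∈ zpowers R := by
      by_contra hno
      have hno' : φ t' * R ∉ zpowers R := fun hm => hno ((Subgroup.mul_mem_cancel_right _ (mem_zpowers R)).1 hm)
      have h1 := houtP _ (mul_mem htP hRP) hno'
      refine hR2 ?_
      calc R ^ 2 = φ t' * φ t' * (R * R) := by rw [htt, one_mul, pow_two]
        _ = φ t' * (φ t' * R) * R := by group
        _ = φ t' * (R * φ t') * R := by rw [← htc R]
        _ = 1 := by rw [← h1]; group
    have htmid : φ t' = R ^ (orderOf R / 2) := by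
      obtain ⟨k, hk⟩ := mem_zpowers_iff.1 htR
      rw [← hk] at htt ht1 ⊢
      obtain ⟨M, hM⟩ : 2 ∣ orderOf R := (show (2 : ℕ) ∣ 4 by norm_num).trans hN4
      have hN : orderOf R / 2 = M := by omega
      rw [hN, ← zpow_natCast R M]
      rw [← zpow_add, ← orderOf_dvd_iff_zpow_eq_one] at htt
      rw [ne_eq, ← orderOf_dvd_iff_zpow_eq_one] at ht1
      rw [eq_comm, ← mul_inv_eq_one, ← zpow_sub, ← orderOf_dvd_iff_zpow_eq_one]
      obtain ⟨c, hc⟩ := htt
      have hM' : (orderOf R : ℤ) = 2 * (M : ℤ) := by exact_mod_cast hM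
      rw [hM'] at hc ht1 ⊢
      have hkc : k = M * c := by linarith
      obtain ⟨d, hd⟩ | ⟨d, hd⟩ := Int.even_or_odd c
      · exact absurd ⟨d, by rw [hkc, hd]; ring⟩ ht1
      · exact ⟨-d, by rw [hkc, hd]; ring⟩
    have hz : ∀ g : ↥Y, g * R ^ (orderOf R / 2) = R ^ (orderOf R / 2) * g := fun g => htmid ▸ htc g
    set J := φ j'.1 with hJ
    have hJP : J ∈ (P : Subgroup ↥Y) := ⟨j'.1, j'.2, rfl⟩
    have hJR : J ∉ zpowers R := by
      intro hm
      obtain ⟨k, hk⟩ := mem_zpowers_iff.1 hm
      have h1 : φ (r.1 ^ k * j'.1⁻¹) = 1 := by rw [map_mul, map_inv, map_zpow, ← hR, hk, hJ, mul_inv_cancel]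
      have h2 : r.1 ^ k * j'.1⁻¹ ∈ zpowers r.1 := hkerr h1
      have h3 : j'.1 ∈ zpowers r.1 := by
        have := mul_mem (inv_mem h2) (zpow_mem (mem_zpowers r.1) k)
        simpa [mul_assoc] using this
      obtain ⟨l, hl⟩ := mem_zpowers_iff.1 h3
      exact hjr (mem_zpowers_iff.2 ⟨l, Subtype.ext hl⟩)
    have hRJR : R * J ∉ zpowers R := fun hm => hJR ((Subgroup.mul_mem_cancel_left _ (mem_zpowers R)).1 hm)
    have hRJ2 : R * J * (R * J) = 1 := houtP _ (mul_mem hRP hJP) hRJR
    have hu2 : orderOf (R * J).1 = 2 := orderOf_two_iff.2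
      ⟨fun e => hRJR ((show R * J = 1 from Subtype.ext e) ▸ one_mem _), congrArg Subtype.val hRJ2⟩
    have hufix : FixTwo ↥(fixedBy Ω i) (R * J).1 := by
      by_contra hfix
      obtain ⟨g, hg⟩ := hφ (R * J)
      have hgi := mem_centralizer_singleton_iff.1 g.2.1
      have hga := mem_stabilizer_iff.1 g.2.2
      rw [← hg] at hu2 hfix
      have hS : SingleOn i g.1 a := by
        refine ⟨hgi, C.ia, hga,
          fun p hp => congrArg Subtype.val (sq_smul hu2 (⟨p, hp⟩ : ↥(fixedBy Ω i))), fun p hp he => ?_⟩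
        by_contra hne
        exact hfix ⟨hu2, ⟨p, hp⟩, ⟨a, C.ia⟩, fun e => hne (congrArg Subtype.val e), Subtype.ext he,
          Subtype.ext hga⟩
      have : φ g = φ t' := (hφeq g t').2 fun p hp => C.single_agree hfodd hS htS hp
      rw [hg] at this
      exact hRJR (this ▸ htR)
    obtain ⟨g, hga, hg⟩ := hC.conj_in_stab hufix (mem_stabilizer_iff.1 (R * J).2)
    have hJind : J.1 = C.indJ := indMk_eq.2 fun p _ => by
      show j • p = (x * i * x⁻¹) • p
      rw [hjdef]
    exact not_conj_of_central P hRP hJP hJR hPcard hN4 houtP hz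
      ⟨⟨g, mem_stabilizer_iff.2 hga⟩, Subtype.ext (by rw [Subgroup.coe_mul, Subgroup.coe_mul, hJind]; exact hg)⟩

end Ctx

end Cfsg.Agent.TwoPointA5
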