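import Cfsg.Agent.Lib.TwoPointA5.Single
import Cfsg.Agent.Lib.TwoPointA5.PairStab
import Cfsg.Agent.Lib.TwoPointA5.Arith

/-!
# The setting: a two-transitive group with two-point stabiliser A₄ or A₅ (owner: helper58)

* `Ctx G Ω a b ι i x` : the hypotheses, an involution `i` of the two-point stabiliser and an element `x`
  permuting the involutions of `V = pairFour a b i`
* `swap_cases` : the involutions interchanging `a` and `b`
* `isPrimePow_fixV` : the Klein group has a prime power number of fixed points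
* `fix_sub_eq` : the count in the action of the centraliser of `i` on its fixed points
-/

set_option autoImplicit false
set_option linter.style.haveILetI false
set_option linter.unusedSectionVars false

namespace Cfsg.Agent.TwoPointA5

open MulAction Subgroup

universe u v

/-- The four group of `i`. -/
def pairFour {G : Type u} {Ω : Type v} [Group G] [MulAction G Ω] (a b : Ω) (i : G) : Subgroup G :=
  centralizer ({i} : Set G) ⊓ (stabilizer G a ⊓ stabilizer G b)

/-- The hypotheses. -/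
structure Ctx (G : Type u) (Ω : Type v) [Group G] [MulAction G Ω] (a b : Ω) (ι : ℕ) (i x : G) : Prop where
  ne : a ≠ b
  t2 : T2 G Ω
  kd : KData (stabilizer G a ⊓ stabilizer G b) ι
  kdAll : ∀ p q : Ω, p ≠ q → KData (stabilizer G p ⊓ stabilizer G q) ι
  ord : orderOf i = 2
  imem : i ∈ stabilizer G a ⊓ stabilizer G b
  xmem : x ∈ stabilizer G a ⊓ stabilizer G b
  xord : orderOf x = 3
  xne : x * i * x⁻¹ ≠ i
  xnorm : ∀ v ∈ pairFour a b i, x * v * x⁻¹ ∈ pairFour a b i

/-- The number of fixed points of the four group. -/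
noncomputable def fixV {G : Type u} {Ω : Type v} [Group G] [MulAction G Ω] (a b : Ω) (i : G) : ℕ :=
  Nat.card {p : Ω | ∀ v ∈ pairFour a b i, v • p = p}

/-- The number of involutions with less than two fixed points interchanging `a` and `b`. -/
noncomputable def lamN (G : Type u) {Ω : Type v} [Group G] [MulAction G Ω] (a b : Ω) : ℕ :=
  {u : G | orderOf u = 2 ∧ ¬ FixTwo Ω u ∧ u • a = b ∧ u • b = a}.ncard

theorem exists_ctx {G : Type u} {Ω : Type v} [Group G] [Finite G] [MulAction G Ω] {a b : Ω} {ι : ℕ}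
    (hab : a ≠ b) (t2 : T2 G Ω) (kdAll : ∀ p q : Ω, p ≠ q → KData (stabilizer G p ⊓ stabilizer G q) ι) :
    ∃ i x : G, Ctx G Ω a b ι i x := by
  have kd := kdAll a b hab
  have h : {u : G | orderOf u = 2 ∧ u ∈ stabilizer G a ⊓ stabilizer G b}.Nonempty := by
    refine Set.nonempty_of_ncard_ne_zero ?_
    rw [kd.ncard]; rcases kd.iota with h | h <;> omega
  obtain ⟨i, hi, hiK⟩ := h
  obtain ⟨-, -, x, hxK, hx3, hxi, hxn⟩ := kd.cent i hiK hi
  exact ⟨i, x, hab, t2, kd, kdAll, hi, hiK, hxK, hx3, hxi, hxn⟩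

theorem inj_conj {G : Type u} [Group G] (g : G) : Function.Injective (MulAut.conj g).toMonoidHom :=
  (MulAut.conj g).injective

namespace Ctx

variable {G : Type u} {Ω : Type v} [Group G] [MulAction G Ω] [Finite G] [Finite Ω] {a b : Ω} {ι : ℕ} {i x : G}
  (C : Ctx G Ω a b ι i x)
include C

theorem ia : i • a = a := mem_stabilizer_iff.1 C.imem.1

theorem ib : i • b = b := mem_stabilizer_iff.1 C.imem.2

theorem xa : x • a = a := mem_stabilizer_iff.1 C.xmem.1

theorem xb : x • b = b := mem_stabilizer_iff.1 C.xmem.2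

theorem conjI : Conj a b i :=
  ⟨C.ne, C.t2, C.ord, C.ia, C.ib, fun u hu ha hb => by
    obtain ⟨k, hk, hku⟩ := C.kd.conj i u C.ord C.imem hu ⟨mem_stabilizer_iff.2 ha, mem_stabilizer_iff.2 hb⟩
    exact ⟨k, mem_stabilizer_iff.1 hk.1, mem_stabilizer_iff.1 hk.2, hku⟩⟩

theorem card_four : Nat.card ↥(pairFour a b i) = 4 := (C.kd.cent i C.imem C.ord).1

theorem four_sq {v : G} (hv : v ∈ pairFour a b i) : v * v = 1 := (C.kd.cent i C.imem C.ord).2.1 v hv

theorem four_comm {v w : G} (hv : v ∈ pairFour a b i) (hw : w ∈ pairFour a b i) : v * w = w * v := by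
  have h1 := C.four_sq hv
  have h2 := C.four_sq hw
  have h3 := C.four_sq (mul_mem hv hw)
  calc v * w = (v * w)⁻¹ := (inv_eq_of_mul_eq_one_right h3).symm
    _ = w * v := by rw [mul_inv_rev, inv_eq_of_mul_eq_one_right h1, inv_eq_of_mul_eq_one_right h2]

theorem i_mem_four : i ∈ pairFour a b i :=
  mem_inf.2 ⟨mem_centralizer_singleton_iff.2 rfl, C.imem⟩

theorem i_ne_one : i ≠ 1 := (orderOf_two_iff.1 C.ord).1

theorem x_mem_normalizer : x ∈ normalizer (pairFour a b i : Set G) := by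
  have hmap : (pairFour a b i).map (MulAut.conj x).toMonoidHom = pairFour a b i :=
    eq_of_le_of_card_ge (by rintro _ ⟨v, hv, rfl⟩; exact C.xnorm v hv)
      (by rw [card_map_of_injective (inj_conj x)])
  exact Subgroup.mem_normalizer_iff_map_conj_eq.2 hmap

theorem four_eq {v : G} (hv : v ∈ pairFour a b i) : v = 1 ∨ v = i ∨ v = x * i * x⁻¹ ∨ v = i * (x * i * x⁻¹) := by
  classical
  by_contra hc
  push Not at hc
  set j := x * i * x⁻¹ with hj
  have hjV := C.xnorm i C.i_mem_four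
  haveI := Fintype.ofFinite ↥(pairFour a b i)
  have hj1 : j ≠ 1 := fun e => C.i_ne_one (by
    rw [hj, mul_inv_eq_one] at e; simpa using e)
  have hij : i * j ≠ 1 := fun e => C.xne (by
    rw [mul_eq_one_iff_eq_inv, inv_eq_of_mul_eq_one_right (C.four_sq hjV)] at e; exact e.symm)
  have hsub : ({⟨1, one_mem _⟩, ⟨i, C.i_mem_four⟩, ⟨j, hjV⟩, ⟨i * j, mul_mem C.i_mem_four hjV⟩, ⟨v, hv⟩} :
      Finset ↥(pairFour a b i)).card ≤ Fintype.card ↥(pairFour a b i) := Finset.card_le_univ _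
  rw [← Nat.card_eq_fintype_card, C.card_four] at hsub
  rw [Finset.card_insert_of_notMem (by simp [Subtype.ext_iff, Ne.symm C.i_ne_one, Ne.symm hj1, Ne.symm hij, Ne.symm hc.1]),
    Finset.card_insert_of_notMem (by simp [Subtype.ext_iff, Ne.symm C.xne, hj1, Ne.symm hc.2.1]; exact fun e => C.xne e.symm),
    Finset.card_insert_of_notMem (by simp [Subtype.ext_iff, C.i_ne_one, Ne.symm hc.2.2.1]),
    Finset.card_insert_of_notMem (by simp [Subtype.ext_iff, Ne.symm hc.2.2.2]), Finset.card_singleton] at hsub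
  omega

theorem iota_set : {u : G | orderOf u = 2 ∧ u • a = a ∧ u • b = b}.ncard = ι := C.kd.ncard

theorem iota_pos : 3 ≤ ι := by rcases C.kd.iota with h | h <;> omega

theorem cent_inf_pair : centralizer ({i} : Set G) ⊓ stabilizer G a ⊓ stabilizer G b = pairFour a b i :=
  inf_assoc _ _ _

theorem card_cent : Nat.card ↥(centralizer ({i} : Set G)) = 4 * (fixN Ω i * (fixN Ω i - 1)) := by
  rw [C.conjI.card_cent, C.cent_inf_pair, C.card_four]

theorem card_cent_stab : Nat.card ↥(centralizer ({i} : Set G) ⊓ stabilizer G a) = 4 * (fixN Ω i - 1) := by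
  rw [C.conjI.card_cent_stab, C.cent_inf_pair, C.card_four]

theorem card_stab : Nat.card ↥(stabilizer G a) = 4 * (fixN Ω i - 1) * (ι + swapN G a b * fixN Ω i) := by
  rw [C.conjI.card_stab, C.card_cent_stab, C.iota_set]

theorem card_stab' : Nat.card ↥(stabilizer G a) = 4 * ι * (Nat.card Ω - 1) := by
  rw [C.conjI.card_stab_eq, C.kd.card]

theorem card_group : Nat.card G = Nat.card Ω * Nat.card ↥(stabilizer G a) := by
  rw [← C.conjI.index_stab_eq, index_mul_card]

theorem count : ι * (Nat.card Ω - fixN Ω i) = swapN G a b * (fixN Ω i * (fixN Ω i - 1)) := by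
  rw [← C.conjI.count, C.iota_set]

theorem fix_lt [FaithfulSMul G Ω] : fixN Ω i < Nat.card Ω := by
  refine lt_of_le_of_ne C.conjI.fixN_le fun h => C.i_ne_one ?_
  refine eq_of_smul_eq_smul (α := Ω) fun p => ?_
  have : (fixedBy Ω i) = Set.univ := Set.eq_univ_of_forall fun q => by
    by_contra hq
    have h1 : (fixedBy Ω i).ncard < Nat.card Ω := by
      rw [← Set.ncard_univ]
      exact Set.ncard_lt_ncard (Set.ssubset_univ_iff.2 fun e => hq (e ▸ Set.mem_univ q))
    rw [fixN, Nat.card_coe_set_eq] at h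
    omega
  rw [one_smul]
  exact (this ▸ Set.mem_univ p : p ∈ fixedBy Ω i)

theorem swap_pos [FaithfulSMul G Ω] : 1 ≤ swapN G a b := by
  by_contra h
  have h0 : swapN G a b = 0 := by omega
  have := C.count
  have := C.fix_lt
  have := C.iota_pos
  rw [h0, zero_mul, Nat.mul_eq_zero] at *
  omega

/-- The involutions interchanging `a` and `b`. -/
theorem swap_cases [FaithfulSMul G Ω] :
    (swapN G a b = (if ι = 3 then 6 else 10) ∧ lamN G a b = 0) ∨
    ∃ z : G, orderOf z = 2 ∧ z • a = b ∧ z • b = a ∧ (∀ k ∈ stabilizer G a ⊓ stabilizer G b, z * k = k * z) ∧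
      ((swapN G a b = ι + 1 ∧ lamN G a b = 0) ∨
        (swapN G a b = ι ∧ lamN G a b = 1 ∧ ¬ FixTwo Ω z) ∨
        (swapN G a b = 1 ∧ lamN G a b = ι ∧ FixTwo Ω z ∧
          ∀ v ∈ stabilizer G a ⊓ stabilizer G b, orderOf v = 2 → ¬ FixTwo Ω (z * v))) := by
  classical
  set K := stabilizer G a ⊓ stabilizer G b with hK
  obtain ⟨t, ht, hta, htb⟩ : {u : G | FixTwo Ω u ∧ u • a = b ∧ u • b = a}.Nonempty :=
    Set.nonempty_of_ncard_ne_zero (by have := C.swap_pos; rw [swapN] at this; omega)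
  have hto := ht.1
  have htK : t ∉ K := fun h => C.ne ((mem_stabilizer_iff.1 h.1).symm.trans hta)
  have hmemK : ∀ k : G, k ∈ K ↔ k • a = a ∧ k • b = b := fun k => Iff.rfl
  have hnorm : ∀ k ∈ K, t * k * t⁻¹ ∈ K := by
    intro k hk
    have e1 : t⁻¹ • a = b := by rw [inv_smul_eq_iff, htb]
    have e2 : t⁻¹ • b = a := by rw [inv_smul_eq_iff, hta]
    exact ⟨mem_stabilizer_iff.2 (by rw [mul_smul, mul_smul, e1, ((hmemK k).1 hk).2, htb]),
      mem_stabilizer_iff.2 (by rw [mul_smul, mul_smul, e2, ((hmemK k).1 hk).1, hta])⟩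
  have hsw : ∀ u : G, (u • a = b ∧ u • b = a) ↔ t * u ∈ K := by
    intro u
    constructor
    · rintro ⟨h1, h2⟩
      exact (hmemK _).2 ⟨by rw [mul_smul, h1, htb], by rw [mul_smul, h2, hta]⟩
    · intro h
      obtain ⟨h1, h2⟩ := (hmemK _).1 h
      rw [mul_smul] at h1 h2
      exact ⟨smul_left_cancel t (h1.trans htb.symm), smul_left_cancel t (h2.trans hta.symm)⟩
  rcases C.kd.coset t hto htK hnorm with ⟨z, hz, hzK, htz, hzc⟩ | ⟨hcard, hcj⟩
  · right
    obtain ⟨hza, hzb⟩ := (hsw z).2 htz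
    refine ⟨z, hz, hza, hzb, hzc, ?_⟩
    have hzz : z * z = 1 := (orderOf_two_iff.1 hz).2
    -- the involutions of the coset
    have hset : ∀ u : G, (orderOf u = 2 ∧ u • a = b ∧ u • b = a) ↔
        (u = z ∨ ∃ v, orderOf v = 2 ∧ v ∈ K ∧ u = z * v) := by
      intro u
      constructor
      · rintro ⟨hu, h1, h2⟩
        have hzu : z * u ∈ K := (hmemK _).2 ⟨by rw [mul_smul, h1, hzb], by rw [mul_smul, h2, hza]⟩
        by_cases h1' : z * u = 1
        · left
          rw [eq_inv_of_mul_eq_one_right h1', inv_eq_of_mul_eq_one_right hzz]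
        · refine Or.inr ⟨z * u, orderOf_two_iff.2 ⟨h1', ?_⟩, hzu, by rw [← mul_assoc, hzz, one_mul]⟩
          calc z * u * (z * u) = (z * u * z) * u := by group
            _ = z * (z * u) * u := by rw [hzc _ hzu]
            _ = 1 := by rw [← mul_assoc, hzz, one_mul, (orderOf_two_iff.1 hu).2]
      · rintro (rfl | ⟨v, hv, hvK, rfl⟩)
        · exact ⟨hz, hza, hzb⟩
        · obtain ⟨h1, h2⟩ := (hmemK v).1 hvK
          refine ⟨orderOf_two_iff.2 ⟨fun e => hzK ?_, ?_⟩, by rw [mul_smul, h1, hza], by rw [mul_smul, h2, hzb]⟩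
          · rw [eq_inv_of_mul_eq_one_left e]; exact inv_mem hvK
          · calc z * v * (z * v) = z * (v * z) * v := by group
              _ = 1 := by rw [← hzc v hvK, ← mul_assoc, hzz, one_mul, (orderOf_two_iff.1 hv).2]
    set A : Set G := (fun v => z * v) '' {v : G | orderOf v = 2 ∧ v ∈ K} with hA
    have hAcard : A.ncard = ι := by
      rw [hA, Set.ncard_image_of_injective _ (mul_right_injective z), C.kd.ncard]
    have hzA : z ∉ A := by
      rintro ⟨v, ⟨hv, -⟩, e⟩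
      exact (orderOf_two_iff.1 hv).1 (mul_left_cancel (a := z) (e.trans (mul_one z).symm))
    have hSall : ∀ v w : G, orderOf v = 2 → v ∈ K → orderOf w = 2 → w ∈ K →
        FixTwo Ω (z * v) → FixTwo Ω (z * w) := by
      intro v w hv hvK hw hwK hf
      obtain ⟨k, hk, rfl⟩ := C.kd.conj v w hv hvK hw hwK
      have := fixTwo_conj hf k
      rwa [show k * (z * v) * k⁻¹ = z * (k * v * k⁻¹) by rw [← mul_assoc k, ← hzc k hk]; group] at this
    have hd := C.swap_pos
    by_cases hfz : FixTwo Ω z <;> by_cases hfv : FixTwo Ω (z * i)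
    · left
      have e1 : {u : G | FixTwo Ω u ∧ u • a = b ∧ u • b = a} = insert z A := by
        ext u
        constructor
        · intro hu
          rcases (hset u).1 ⟨hu.1.1, hu.2⟩ with rfl | ⟨v, h1, h2, rfl⟩
          · exact Set.mem_insert _ _
          · exact Or.inr ⟨v, ⟨h1, h2⟩, rfl⟩
        · rintro (rfl | ⟨v, ⟨h1, h2⟩, rfl⟩)
          · exact ⟨hfz, hza, hzb⟩
          · exact ⟨hSall i v C.ord C.imem h1 h2 hfv, ((hset _).2 (Or.inr ⟨v, h1, h2, rfl⟩)).2⟩
      refine ⟨by rw [swapN, e1, Set.ncard_insert_of_notMem hzA, hAcard], ?_⟩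
      rw [lamN, Set.ncard_eq_zero, Set.eq_empty_iff_forall_notMem]
      intro u hu
      rcases (hset u).1 ⟨hu.1, hu.2.2⟩ with rfl | ⟨v, h1, h2, rfl⟩
      · exact hu.2.1 hfz
      · exact hu.2.1 (hSall i v C.ord C.imem h1 h2 hfv)
    · right; right
      have hno : ∀ v ∈ K, orderOf v = 2 → ¬ FixTwo Ω (z * v) := fun v hv hvo h =>
        hfv (hSall v i hvo hv C.ord C.imem h)
      have e1 : {u : G | FixTwo Ω u ∧ u • a = b ∧ u • b = a} = {z} := by
        ext u
        constructor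
        · intro hu
          rcases (hset u).1 ⟨hu.1.1, hu.2⟩ with rfl | ⟨v, h1, h2, rfl⟩
          · rfl
          · exact absurd hu.1 (hno v h2 h1)
        · rintro rfl; exact ⟨hfz, hza, hzb⟩
      have e2 : {u : G | orderOf u = 2 ∧ ¬ FixTwo Ω u ∧ u • a = b ∧ u • b = a} = A := by
        ext u
        constructor
        · intro hu
          rcases (hset u).1 ⟨hu.1, hu.2.2⟩ with rfl | ⟨v, h1, h2, rfl⟩
          · exact absurd hfz hu.2.1
          · exact ⟨v, ⟨h1, h2⟩, rfl⟩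
        · rintro ⟨v, ⟨h1, h2⟩, rfl⟩
          have h := (hset _).2 (Or.inr ⟨v, h1, h2, rfl⟩)
          exact ⟨h.1, hno v h2 h1, h.2⟩
      exact ⟨by rw [swapN, e1, Set.ncard_singleton], by rw [lamN, e2, hAcard], hfz, hno⟩
    · right; left
      have e1 : {u : G | FixTwo Ω u ∧ u • a = b ∧ u • b = a} = A := by
        ext u
        constructor
        · intro hu
          rcases (hset u).1 ⟨hu.1.1, hu.2⟩ with rfl | ⟨v, h1, h2, rfl⟩
          · exact absurd hu.1 hfz
          · exact ⟨v, ⟨h1, h2⟩, rfl⟩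
        · rintro ⟨v, ⟨h1, h2⟩, rfl⟩
          exact ⟨hSall i v C.ord C.imem h1 h2 hfv, ((hset _).2 (Or.inr ⟨v, h1, h2, rfl⟩)).2⟩
      have e2 : {u : G | orderOf u = 2 ∧ ¬ FixTwo Ω u ∧ u • a = b ∧ u • b = a} = {z} := by
        ext u
        constructor
        · intro hu
          rcases (hset u).1 ⟨hu.1, hu.2.2⟩ with rfl | ⟨v, h1, h2, rfl⟩
          · rfl
          · exact absurd (hSall i v C.ord C.imem h1 h2 hfv) hu.2.1
        · rintro rfl; exact ⟨hz, hfz, hza, hzb⟩
      exact ⟨by rw [swapN, e1, hAcard], by rw [lamN, e2, Set.ncard_singleton], hfz⟩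
    · exfalso
      have e1 : {u : G | FixTwo Ω u ∧ u • a = b ∧ u • b = a} = ∅ := by
        rw [Set.eq_empty_iff_forall_notMem]
        intro u hu
        rcases (hset u).1 ⟨hu.1.1, hu.2⟩ with rfl | ⟨v, h1, h2, rfl⟩
        · exact hfz hu.1
        · exact hfv (hSall v i h1 h2 C.ord C.imem hu.1)
      rw [swapN, e1, Set.ncard_empty] at hd
      omega
  · left
    have hall : ∀ u : G, orderOf u = 2 → t * u ∈ K → FixTwo Ω u := by
      intro u hu huK
      obtain ⟨k, -, rfl⟩ := hcj t u hto (by rw [(orderOf_two_iff.1 hto).2]; exact one_mem K) hu huK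
      exact fixTwo_conj ht k
    refine ⟨?_, ?_⟩
    · rw [swapN, ← hcard]
      congr 1
      exact Set.ext fun u => ⟨fun hu => ⟨hu.1.1, (hsw u).1 hu.2⟩,
        fun hu => ⟨hall u hu.1 hu.2, (hsw u).2 hu.2⟩⟩
    · rw [lamN, Set.ncard_eq_zero, Set.eq_empty_iff_forall_notMem]
      exact fun u hu => hu.2.1 (hall u hu.1 ((hsw u).1 hu.2.2))

theorem admPair [FaithfulSMul G Ω] : AdmPair ι (swapN G a b) := by
  rcases C.kd.iota with h | h <;> subst h <;>
    rcases C.swap_cases with ⟨hd, -⟩ | ⟨z, -, -, -, -, ⟨hd, -⟩ | ⟨hd, -⟩ | ⟨hd, -⟩⟩ <;>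
    simp_all [AdmPair]

theorem fix_parity : fixN Ω i % 2 = Nat.card Ω % 2 := fixN_modEq C.ord

/-- The centraliser of `i` is transitive on pairs of fixed points of the four group, normalising it. -/
theorem sigma_pairs {p q : Ω} (hpq : p ≠ q) (hp : ∀ v ∈ pairFour a b i, v • p = p)
    (hq : ∀ v ∈ pairFour a b i, v • q = q) :
    ∃ g : G, g * i = i * g ∧ g ∈ normalizer (pairFour a b i : Set G) ∧ g • a = p ∧ g • b = q := by
  obtain ⟨g, hg, hga, hgb⟩ := C.conjI.cent_pairs hpq (hp i C.i_mem_four) (hq i C.i_mem_four)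
  refine ⟨g, hg, ?_, hga, hgb⟩
  have hle : (pairFour a b i).map (MulAut.conj g⁻¹).toMonoidHom ≤ pairFour a b i := by
    rintro _ ⟨v, hv, rfl⟩
    show g⁻¹ * v * g⁻¹⁻¹ ∈ pairFour a b i
    rw [inv_inv]
    refine mem_inf.2 ⟨mem_centralizer_singleton_iff.2 ?_, mem_stabilizer_iff.2 ?_, mem_stabilizer_iff.2 ?_⟩
    · calc g⁻¹ * v * g * i = g⁻¹ * (v * i) * g := by rw [mul_assoc, hg]; group
        _ = g⁻¹ * (i * v) * g := by rw [mem_centralizer_singleton_iff.1 hv.1]
        _ = i * (g⁻¹ * v * g) := by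
          rw [← mul_assoc g⁻¹, show g⁻¹ * i = i * g⁻¹ from ((Commute.inv_left hg : Commute g⁻¹ i)).eq]
          group
    · rw [mul_smul, mul_smul, hga, hp v hv, ← hga, inv_smul_smul]
    · rw [mul_smul, mul_smul, hgb, hq v hv, ← hgb, inv_smul_smul]
  exact inv_mem_iff.1 (Subgroup.mem_normalizer_iff_map_conj_eq.2
    (eq_of_le_of_card_ge hle (le_of_eq (card_map_of_injective (f := (MulAut.conj g⁻¹).toMonoidHom) (inj_conj g⁻¹)).symm)))

theorem fixV_le : fixV a b i ≤ fixN Ω i := by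
  rw [fixV, fixN, Nat.card_coe_set_eq, Nat.card_coe_set_eq]
  exact Set.ncard_le_ncard fun p hp => hp i C.i_mem_four

theorem two_le_fixV : 2 ≤ fixV a b i := by
  haveI := Fintype.ofFinite {p : Ω | ∀ v ∈ pairFour a b i, v • p = p}
  rw [fixV, Nat.card_eq_fintype_card]
  exact Fintype.one_lt_card_iff.2 ⟨⟨a, fun v hv => mem_stabilizer_iff.1 hv.2.1⟩,
    ⟨b, fun v hv => mem_stabilizer_iff.1 hv.2.2⟩, fun e => C.ne (congrArg Subtype.val e)⟩

/-- The four group has a prime power number of fixed points. -/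
theorem isPrimePow_fixV : IsPrimePow (fixV a b i) := by
  set H := centralizer ({i} : Set G) ⊓ normalizer (pairFour a b i : Set G) with hH
  set S := {p : Ω | ∀ v ∈ pairFour a b i, v • p = p} with hS
  have hinv : ∀ h ∈ H, ∀ p ∈ S, h • p ∈ S := by
    intro h hh p hp v hv
    have := hp _ ((mem_normalizer_iff''.1 hh.2 v).1 hv)
    rw [mul_smul, mul_smul, inv_smul_eq_iff] at this
    exact this
  letI : MulAction ↥H ↥S :=
    { smul := fun h p => ⟨h.1 • p.1, hinv h.1 h.2 p.1 p.2⟩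
      one_smul := fun p => Subtype.ext (one_smul G p.1)
      mul_smul := fun g h p => Subtype.ext (mul_smul g.1 h.1 p.1) }
  refine isPrimePow_of_sharp (X := ↥H) (Φ := ↥S)
    (a := ⟨a, fun v hv => mem_stabilizer_iff.1 hv.2.1⟩) (b := ⟨b, fun v hv => mem_stabilizer_iff.1 hv.2.2⟩)
    (fun e => C.ne (congrArg Subtype.val e)) ?_ ?_
  · rintro ⟨p, hp⟩ ⟨q, hq⟩ ⟨p', hp'⟩ ⟨q', hq'⟩ h1 h2
    obtain ⟨g, hg, hgN, hga, hgb⟩ := C.sigma_pairs (p := p) (q := q) (fun e => h1 (Subtype.ext e)) hp hq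
    obtain ⟨g', hg', hgN', hga', hgb'⟩ := C.sigma_pairs (p := p') (q := q') (fun e => h2 (Subtype.ext e)) hp' hq'
    refine ⟨⟨g', mem_centralizer_singleton_iff.2 hg', hgN'⟩ * ⟨g, mem_centralizer_singleton_iff.2 hg, hgN⟩⁻¹,
      Subtype.ext ?_, Subtype.ext ?_⟩
    · show (g' * g⁻¹) • p = p'
      rw [← hga, mul_smul, inv_smul_smul, hga']
    · show (g' * g⁻¹) • q = q'
      rw [← hgb, mul_smul, inv_smul_smul, hgb']
  · rintro ⟨g, hg⟩ h1 h2 ⟨p, hp⟩
    exact Subtype.ext (hp g (mem_inf.2 ⟨hg.1, mem_stabilizer_iff.2 (congrArg Subtype.val h1),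
      mem_stabilizer_iff.2 (congrArg Subtype.val h2)⟩))

/-- **The count on the fixed points of `i`**: `f - s = e s (s - 1)` with `e ≤ 2`. -/
theorem fix_sub_eq (h : fixV a b i < fixN Ω i) :
    ∃ e, (e = 1 ∨ e = 2) ∧ fixN Ω i - fixV a b i = e * (fixV a b i * (fixV a b i - 1)) := by
  classical
  set Ci := centralizer ({i} : Set G) with hCi
  set F := fixedBy Ω i with hF
  have hinv : ∀ c ∈ Ci, ∀ p ∈ F, c • p ∈ F := fun c hc p hp =>
    Conj.cent_smul (mem_centralizer_singleton_iff.1 hc) hp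
  letI act : MulAction ↥Ci ↥F :=
    { smul := fun c p => ⟨c.1 • p.1, hinv c.1 c.2 p.1 p.2⟩
      one_smul := fun p => Subtype.ext (one_smul G p.1)
      mul_smul := fun c d p => Subtype.ext (mul_smul c.1 d.1 p.1) }
  set R := (MulAction.toPermHom ↥Ci ↥F).range with hR
  set j := x * i * x⁻¹ with hj
  have hjV : j ∈ pairFour a b i := C.xnorm i C.i_mem_four
  set J : ↥R := ⟨MulAction.toPerm (⟨j, hjV.1⟩ : ↥Ci), ⟨j, hjV.1⟩, rfl⟩ with hJ
  have hVact : ∀ v ∈ pairFour a b i, ∀ p ∈ F, v • p = p ∨ v • p = j • p := by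
    intro v hv p hp
    rcases C.four_eq hv with rfl | rfl | rfl | rfl
    · exact Or.inl (one_smul _ _)
    · exact Or.inl hp
    · exact Or.inr rfl
    · right
      rw [mul_smul]
      exact hinv j hjV.1 p hp
  have hmove : ∃ p ∈ F, j • p ≠ p := by
    by_contra hcon
    push Not at hcon
    refine absurd h (not_lt.2 (le_of_eq ?_))
    rw [fixV, fixN, Nat.card_coe_set_eq, Nat.card_coe_set_eq]
    congr 1
    ext p
    refine ⟨fun hp v hv => ?_, fun hp => hp i C.i_mem_four⟩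
    rcases hVact v hv p hp with e | e
    · exact e
    · rw [e, hcon p hp]
  have hJo : orderOf J = 2 := by
    refine orderOf_two_iff.2 ⟨fun e => ?_, ?_⟩
    · obtain ⟨p, hp, hp'⟩ := hmove
      exact hp' (congrArg Subtype.val (Equiv.congr_fun (congrArg Subtype.val e) ⟨p, hp⟩))
    · refine Subtype.ext (Equiv.ext fun p => Subtype.ext ?_)
      show j • (j • p.1) = p.1
      rw [← mul_smul, C.four_sq hjV, one_smul]
  have hpair : ∀ r : ↥R, r • (⟨a, C.ia⟩ : F) = ⟨a, C.ia⟩ → r • (⟨b, C.ib⟩ : F) = ⟨b, C.ib⟩ → r = 1 ∨ r = J := by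
    rintro ⟨_, c, rfl⟩ h1 h2
    have hcV : c.1 ∈ pairFour a b i := mem_inf.2 ⟨c.2, mem_stabilizer_iff.2 (congrArg Subtype.val h1),
      mem_stabilizer_iff.2 (congrArg Subtype.val h2)⟩
    rcases C.four_eq hcV with e | e | e | e
    · refine Or.inl (Subtype.ext (Equiv.ext fun p => Subtype.ext ?_))
      show c.1 • p.1 = p.1
      rw [e, one_smul]
    · refine Or.inl (Subtype.ext (Equiv.ext fun p => Subtype.ext ?_))
      show c.1 • p.1 = p.1
      rw [e]; exact p.2
    · refine Or.inr (Subtype.ext (Equiv.ext fun p => Subtype.ext ?_))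
      show c.1 • p.1 = j • p.1
      rw [e]
    · refine Or.inr (Subtype.ext (Equiv.ext fun p => Subtype.ext ?_))
      show c.1 • p.1 = j • p.1
      rw [e, mul_smul]
      exact hinv j hjV.1 p.1 p.2
  have hCJ : Conj (⟨a, C.ia⟩ : F) (⟨b, C.ib⟩ : F) J := by
    refine ⟨fun e => C.ne (congrArg Subtype.val e), ?_, hJo, Subtype.ext (mem_stabilizer_iff.1 hjV.2.1),
      Subtype.ext (mem_stabilizer_iff.1 hjV.2.2), fun u hu h1 h2 => ?_⟩
    · rintro ⟨p, hp⟩ ⟨q, hq⟩ ⟨p', hp'⟩ ⟨q', hq'⟩ h1 h2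
      obtain ⟨g, hg, hga, hgb⟩ := C.conjI.cent_pairs (p := p) (q := q) (fun e => h1 (Subtype.ext e)) hp hq
      obtain ⟨g', hg', hga', hgb'⟩ := C.conjI.cent_pairs (p := p') (q := q') (fun e => h2 (Subtype.ext e)) hp' hq'
      have hm : g' * g⁻¹ ∈ Ci := mul_mem (mem_centralizer_singleton_iff.2 hg')
        (inv_mem (mem_centralizer_singleton_iff.2 hg))
      refine ⟨⟨MulAction.toPerm (⟨g' * g⁻¹, hm⟩ : ↥Ci), ⟨g' * g⁻¹, hm⟩, rfl⟩, Subtype.ext ?_, Subtype.ext ?_⟩
      · show (g' * g⁻¹) • p = p'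
        rw [← hga, mul_smul, inv_smul_smul, hga']
      · show (g' * g⁻¹) • q = q'
        rw [← hgb, mul_smul, inv_smul_smul, hgb']
    · rcases hpair u h1 h2 with e | e
      · exact absurd e (orderOf_two_iff.1 hu).1
      · exact ⟨1, one_smul _ _, one_smul _ _, by rw [e]; simp⟩
  have hone : {u : ↥R | orderOf u = 2 ∧ u • (⟨a, C.ia⟩ : F) = ⟨a, C.ia⟩ ∧ u • (⟨b, C.ib⟩ : F) = ⟨b, C.ib⟩} = {J} := by
    ext u
    constructor
    · rintro ⟨hu, h1, h2⟩
      rcases hpair u h1 h2 with e | e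
      · exact absurd e (orderOf_two_iff.1 hu).1
      · exact e
    · rintro rfl
      exact ⟨hJo, hCJ.fa, hCJ.fb⟩
  have hfixJ : fixN ↥F J = fixV a b i := by
    rw [fixV, fixN]
    refine Nat.card_congr ⟨fun p => ⟨p.1.1, fun v hv => ?_⟩, fun p => ⟨⟨p.1, p.2 i C.i_mem_four⟩,
      Subtype.ext (p.2 j hjV)⟩, fun _ => rfl, fun _ => rfl⟩
    rcases hVact v hv p.1.1 p.1.2 with e | e
    · exact e
    · rw [e]; exact congrArg Subtype.val p.2
  have hc := hCJ.count
  rw [hone, Set.ncard_singleton, one_mul, hfixJ, show Nat.card ↥F = fixN Ω i from rfl] at hc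
  set e := swapN ↥R (⟨a, C.ia⟩ : F) (⟨b, C.ib⟩ : F) with he
  refine ⟨e, ?_, hc⟩
  have he1 : e ≠ 0 := by
    intro h0; rw [h0, zero_mul] at hc; omega
  have he2 : e ≤ 2 := by
    obtain ⟨r0, hr0⟩ := Set.nonempty_of_ncard_ne_zero he1
    refine (Set.ncard_le_ncard (t := ({r0, r0 * J} : Set ↥R)) fun u hu => ?_).trans ?_
    · have h1 : (r0⁻¹ * u) • (⟨a, C.ia⟩ : F) = ⟨a, C.ia⟩ := by
        rw [mul_smul, hu.2.1, inv_smul_eq_iff, hr0.2.1]
      have h2 : (r0⁻¹ * u) • (⟨b, C.ib⟩ : F) = ⟨b, C.ib⟩ := by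
        rw [mul_smul, hu.2.2, inv_smul_eq_iff, hr0.2.2]
      rcases hpair _ h1 h2 with e' | e'
      · exact Or.inl (inv_mul_eq_one.1 e').symm
      · right; rw [Set.mem_singleton_iff, ← e', mul_inv_cancel_left]
    · exact (Set.ncard_insert_le _ _).trans (by rw [Set.ncard_singleton])
  omega

/-- The same hypotheses hold at every involution with two fixed points. -/
theorem exists_ctx_at {u : G} (hu : orderOf u = 2) {p q : Ω} (hpq : p ≠ q) (hp : u • p = p) (hq : u • q = q) :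
    ∃ y : G, Ctx G Ω p q ι u y := by
  have kd := C.kdAll p q hpq
  have hm : u ∈ stabilizer G p ⊓ stabilizer G q := ⟨mem_stabilizer_iff.2 hp, mem_stabilizer_iff.2 hq⟩
  obtain ⟨-, -, y, hy, hy3, hyu, hyn⟩ := kd.cent u hm hu
  exact ⟨y, hpq, C.t2, kd, C.kdAll, hu, hm, hy, hy3, hyu, hyn⟩

/-- The number of fixed points of the four group does not depend on the point pair. -/
theorem fixV_eq {u : G} (hu : orderOf u = 2) {p q : Ω} (hpq : p ≠ q) (hp : u • p = p) (hq : u • q = q) :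
    fixV p q u = fixV a b i := by
  obtain ⟨g, hga, hgb, rfl⟩ := C.conjI.exists_conj hu hpq hp hq
  subst hga hgb
  have hmem : ∀ v : G, g * v * g⁻¹ ∈ pairFour (g • a) (g • b) (g * i * g⁻¹) ↔ v ∈ pairFour a b i := by
    intro v
    simp only [pairFour, mem_inf, mem_centralizer_singleton_iff, mem_stabilizer_iff, conj_smul,
      smul_left_cancel_iff]
    refine and_congr ⟨fun h => ?_, fun h => ?_⟩ Iff.rfl
    · exact mul_left_cancel (mul_right_cancel (b := g⁻¹) (by simpa [mul_assoc] using h : g * (v * i) * g⁻¹ = g * (i * v) * g⁻¹))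
    · calc g * v * g⁻¹ * (g * i * g⁻¹) = g * (v * i) * g⁻¹ := by group
        _ = g * i * g⁻¹ * (g * v * g⁻¹) := by rw [h]; group
  refine (Nat.card_congr ((toPerm g).subtypeEquiv fun r => ?_)).symm
  simp only [Set.mem_setOf_eq, toPerm_apply]
  refine ⟨fun h v hv => ?_, fun h v hv => ?_⟩
  · have e : g * (g⁻¹ * v * g) * g⁻¹ = v := by group
    rw [← e, conj_smul, h _ ((hmem _).1 (e.symm ▸ hv))]
  · have := h _ ((hmem v).2 hv)
    rwa [conj_smul, smul_left_cancel_iff] at this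

end Ctx

end Cfsg.Agent.TwoPointA5
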