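import Cfsg.Agent.Lib.TwoPointA5.Count

/-!
# Involutions with one fixed point, and sharply two-transitive degrees (owner: helper58)
-/

set_option autoImplicit false
set_option linter.style.haveILetI false
set_option linter.unusedSectionVars false

namespace Cfsg.Agent.TwoPointA5

open MulAction Finset

universe u v

variable {X : Type u} {Φ : Type v} [Group X] [MulAction X Φ] [Finite X] [Finite Φ]

/-- The fixed points of an involution have the parity of the degree. -/
theorem fixN_modEq {u : X} (hu : orderOf u = 2) : fixN Φ u ≡ Nat.card Φ [MOD 2] := by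
  haveI : Fact (Nat.Prime 2) := ⟨Nat.prime_two⟩
  have hP : IsPGroup 2 (Subgroup.zpowers u) :=
    IsPGroup.of_card (n := 1) (by rw [pow_one, Nat.card_zpowers, hu])
  refine Nat.ModEq.trans ?_ (hP.card_modEq_card_fixedPoints Φ).symm
  rw [fixN]
  refine congrArg (· % 2) ?_
  exact Nat.card_congr (Equiv.subtypeEquivRight fun p => ⟨fun hp g =>
    (Subgroup.zpowers_le.2 (mem_stabilizer_iff.2 hp) g.2 : (g : X) ∈ stabilizer X p),
    fun hp => hp ⟨u, Subgroup.mem_zpowers u⟩⟩)

/-- An involution without two fixed points has exactly one when the degree is odd. -/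
theorem fixN_eq_one (hodd : Odd (Nat.card Φ)) {u : X} (hu : orderOf u = 2) (hf : ¬ FixTwo Φ u) :
    fixN Φ u = 1 := by
  have h1 := fixN_modEq (Φ := Φ) hu
  have h2 : fixN Φ u ≤ 1 := by
    rw [fixN, Finite.card_le_one_iff_subsingleton]
    exact ⟨fun p q => Subtype.ext (by_contra fun hne => hf ⟨hu, p, q, hne, p.2, q.2⟩)⟩
  rcases Nat.le_one_iff_eq_zero_or_eq_one.1 h2 with h | h
  · rw [h, Nat.ModEq, Nat.odd_iff.1 hodd] at h1; simp at h1
  · exact h

theorem not_fixTwo_conj {u : X} (h : ¬ FixTwo Φ u) (g : X) : ¬ FixTwo Φ (g * u * g⁻¹) := fun h' => h (by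
  simpa [mul_assoc] using fixTwo_conj h' g⁻¹)

/-- In odd degree the involutions fixing only `a` are as many as those interchanging `a` and `b`
without two fixed points. -/
theorem single_count {a b : Φ} (hab : a ≠ b) (t2 : T2 X Φ) (hodd : Odd (Nat.card Φ)) :
    {u : X | orderOf u = 2 ∧ ¬ FixTwo Φ u ∧ u • a = a}.ncard =
      {u : X | orderOf u = 2 ∧ ¬ FixTwo Φ u ∧ u • a = b ∧ u • b = a}.ncard := by
  classical
  haveI := Fintype.ofFinite Φ
  haveI := Fintype.ofFinite X
  set M := (univ.filter fun u : X => orderOf u = 2 ∧ ¬ FixTwo Φ u) with hM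
  have hfix : ∀ u ∈ M, (fixedBy Φ u).ncard = 1 := fun u hu => by
    rw [← Nat.card_coe_set_eq]
    exact fixN_eq_one hodd (by simp [hM] at hu; exact hu.1) (by simp [hM] at hu; exact hu.2)
  have htrans : ∀ q : Φ, ∃ g : X, g • a = q := fun q => by
    by_cases hq : a = q
    · exact ⟨1, by rw [one_smul, hq]⟩
    · obtain ⟨g, hg, -⟩ := t2 a b q a hab (Ne.symm hq)
      exact ⟨g, hg⟩
  have h1 := sum_card_bipartiteAbove_eq_sum_card_bipartiteBelow (s := M) (t := (univ : Finset Φ))
    (r := fun u q => u • q = q)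
  rw [sum_congr rfl (g := fun _ => 1) fun u hu => ?_, sum_const,
    sum_congr rfl (g := fun _ => {u : X | orderOf u = 2 ∧ ¬ FixTwo Φ u ∧ u • a = a}.ncard) fun q hq => ?_,
    sum_const, card_univ, smul_eq_mul, smul_eq_mul, mul_one] at h1
  swap
  · obtain ⟨g, hg⟩ := htrans q
    have := ncard_pair_congr (fun u p _ => orderOf u = 2 ∧ ¬ FixTwo Φ u ∧ u • p = p)
      (fun g u p q hu => ⟨orderOf_conj_two hu.1 g, not_fixTwo_conj hu.2.1 g, by rw [conj_smul, hu.2.2]⟩)
      g a a
    rw [← this, hg, ← Set.ncard_coe_finset]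
    congr 1
    ext u
    simp [bipartiteBelow, hM, and_assoc]
  swap
  · rw [← hfix u hu, ← Set.ncard_coe_finset]
    congr 1
    ext p
    simp [bipartiteAbove, fixedBy]
  set P := (univ : Finset Φ).offDiag with hP
  have h2 := sum_card_bipartiteAbove_eq_sum_card_bipartiteBelow (s := M) (t := P)
    (r := fun u pq => u • pq.1 = pq.2 ∧ u • pq.2 = pq.1)
  rw [sum_congr rfl (g := fun _ => Fintype.card Φ - 1) fun u hu => ?_, sum_const,
    sum_congr rfl (g := fun _ => {u : X | orderOf u = 2 ∧ ¬ FixTwo Φ u ∧ u • a = b ∧ u • b = a}.ncard)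
      fun pq hpq => ?_, sum_const, smul_eq_mul, smul_eq_mul, hP, offDiag_card, card_univ] at h2
  swap
  · obtain ⟨g, hga, hgb⟩ := t2 a b pq.1 pq.2 hab (by simpa [hP] using hpq)
    have := ncard_pair_congr (fun u p q => orderOf u = 2 ∧ ¬ FixTwo Φ u ∧ u • p = q ∧ u • q = p)
      (fun g u p q hu => ⟨orderOf_conj_two hu.1 g, not_fixTwo_conj hu.2.1 g, by rw [conj_smul, hu.2.2.1],
        by rw [conj_smul, hu.2.2.2]⟩) g a b
    rw [← this, hga, hgb, ← Set.ncard_coe_finset]
    congr 1
    ext u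
    simp [bipartiteBelow, hM, and_assoc]
  swap
  · have hu' : orderOf u = 2 := by simp [hM] at hu; exact hu.1
    have himg : (P.bipartiteAbove (fun u pq => u • pq.1 = pq.2 ∧ u • pq.2 = pq.1) u) =
        ((univ : Finset Φ).filter fun p => u • p ≠ p).image (fun p => (p, u • p)) := by
      ext ⟨p, q⟩
      simp only [bipartiteAbove, hP, mem_filter, mem_offDiag, mem_univ, true_and, mem_image, Prod.mk.injEq]
      constructor
      · rintro ⟨hne, rfl, -⟩; exact ⟨p, Ne.symm hne, rfl, rfl⟩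
      · rintro ⟨w, hw, rfl, rfl⟩; exact ⟨Ne.symm hw, rfl, sq_smul hu' _⟩
    rw [himg, card_image_of_injective _ fun x y e => (Prod.ext_iff.1 e).1, ← compl_filter, card_compl]
    congr 1
    rw [← hfix u hu, ← Set.ncard_coe_finset]
    congr 1
    ext p
    simp [fixedBy]
  rw [h1] at h2
  have h3 : 1 < Fintype.card Φ := Fintype.one_lt_card_iff.2 ⟨a, b, hab⟩
  rw [← Nat.mul_sub_one, mul_comm _ ({u : X | orderOf u = 2 ∧ ¬ FixTwo Φ u ∧ u • a = a}.ncard), mul_assoc,
    mul_comm _ ({u : X | orderOf u = 2 ∧ ¬ FixTwo Φ u ∧ u • a = b ∧ u • b = a}.ncard)] at h2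
  exact Nat.eq_of_mul_eq_mul_right (Nat.mul_pos (by omega) (by omega)) h2

/-- A two-transitive group whose two-point stabilisers act trivially has prime power degree. -/
theorem isPrimePow_of_sharp {a b : Φ} (hab : a ≠ b) (t2 : T2 X Φ)
    (hker : ∀ g : X, g • a = a → g • b = b → ∀ p : Φ, g • p = p) : IsPrimePow (Nat.card Φ) := by
  set R := (MulAction.toPermHom X Φ).range
  have hn : 2 ≤ Nat.card Φ := by
    haveI := Fintype.ofFinite Φ
    rw [Nat.card_eq_fintype_card]; exact Fintype.one_lt_card_iff.2 ⟨a, b, hab⟩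
  have h2 : IsMultiplyPretransitive R Φ 2 := is_two_pretransitive_iff.2 fun {p q p' q'} h1 h2 => by
    obtain ⟨g, hg, hg'⟩ := t2 p q p' q' h1 h2
    exact ⟨⟨toPerm g, g, rfl⟩, hg, hg'⟩
  have hs : ∀ g : R, ∀ p q : Φ, p ≠ q → g • p = p → g • q = q → g = 1 := by
    rintro ⟨_, g, rfl⟩ p q hpq hp hq
    obtain ⟨h, hha, hhb⟩ := t2 a b p q hab hpq
    refine Subtype.ext (Equiv.ext fun w => ?_)
    have := hker (h⁻¹ * g * h) (by rw [mul_smul, mul_smul, hha, show g • p = p from hp, ← hha, inv_smul_smul])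
      (by rw [mul_smul, mul_smul, hhb, show g • q = q from hq, ← hhb, inv_smul_smul]) (h⁻¹ • w)
    rw [mul_smul, mul_smul, smul_inv_smul, smul_left_cancel_iff] at this
    exact this
  obtain ⟨p, j, T, hp, hj, hcard, -⟩ := Perm.exists_regular_of_sharply_two_transitive hn h2 hs
  exact hcard ▸ (hp.isPrimePow.pow (by omega))

end Cfsg.Agent.TwoPointA5
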